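import Mathlib

/-!
# Facts about `GL(2,3)` used for the action on the part of `J` inverted by the involution
-/

set_option autoImplicit false
set_option maxRecDepth 100000
set_option synthInstance.maxSize 4000
set_option synthInstance.maxHeartbeats 200000

namespace Cfsg.Agent.Lib.McL3Local35.Plane

abbrev M2 := Matrix (Fin 2) (Fin 2) (ZMod 3)

theorem pm_or_anti : ∀ a b : M2, a * a = -1 → b * b = -1 → b = a ∨ b = -a ∨ a * b = -(b * a) := by
  decide +kernel

theorem swap_axes : ∀ a : M2, a * a = -1 → ∀ b : M2, b * b = -1 → a * b = -(b * a) →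
    ∀ s : M2, s * s = 1 → s * a * s = -a → s * b * s = a * b ∨ s * b * s = -(a * b) := by
  decide +kernel

theorem mem_q8 : ∀ a : M2, a * a = -1 → ∀ b : M2, b * b = -1 → a * b = -(b * a) →
    ∀ u : M2, u.det ≠ 0 → (u * b = b * u ∨ u * b = -(b * u)) →
      (u * (a * b) = a * b * u ∨ u * (a * b) = -(a * b * u)) →
      u = 1 ∨ u = -1 ∨ u = a ∨ u = -a ∨ u = b ∨ u = -b ∨ u = a * b ∨ u = -(a * b) := by
  decide +kernel

theorem det_flip : ∀ a : M2, a * a = -1 → ∀ s : M2, s * s = 1 → s * a * s = -a → s.det = -1 := by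
  decide +kernel

theorem card_units : Fintype.card M2ˣ = 48 := by decide +kernel

theorem det_one_squares : ∀ M : M2, M.det = 1 →
    ∃ x : M2, x.det ≠ 0 ∧ ∃ y : M2, y.det ≠ 0 ∧ M = x * x * (y * y) := by
  decide +kernel

theorem neg_one_ne : (-1 : M2) ≠ 1 := by decide +kernel

/-- The subgroup generated by an element of order three and a dihedral group of order eight is everything. -/
theorem eq_top (H : Subgroup M2ˣ) {a s r : M2ˣ} (ha : a ∈ H) (hs : s ∈ H) (hr : r ∈ H)
    (haa : (a : M2) * a = -1) (hss : (s : M2) * s = 1) (hsa : (s : M2) * a * s = -a)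
    (hr3 : r ^ 3 = 1) (hr1 : r ≠ 1) : H = ⊤ := by
  classical
  have hcard : Nat.card M2ˣ = 48 := by rw [Nat.card_eq_fintype_card, card_units]
  have h3 : 3 ∣ Nat.card H := by
    have : orderOf r = 3 := orderOf_eq_prime hr3 hr1
    exact this.symm.dvd.trans (Subgroup.orderOf_dvd_natCard H hr)
  have ha4 : orderOf a = 4 := by
    have h2 : a ^ 2 ≠ 1 := by
      intro h
      have := congrArg (fun x : M2ˣ => (x : M2)) h
      simp only [pow_two, Units.val_mul, Units.val_one, haa] at this
      exact neg_one_ne this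
    exact orderOf_eq_prime_pow (p := 2) (n := 1) (by simpa using h2)
      (Units.ext (by simp [pow_succ, haa, mul_assoc]))
  let f : H →* ZMod 3 :=
    { toFun := fun x => ((x : M2ˣ) : M2).det
      map_one' := by simp
      map_mul' := fun x y => by simp }
  let D : H →* (ZMod 3)ˣ := f.toHomUnits
  have h8 : 8 ∣ Nat.card H := by
    have hk : 4 ∣ Nat.card D.ker := by
      refine ha4.symm.dvd.trans ?_
      have hmem : (⟨a, ha⟩ : H) ∈ D.ker := by
        refine Units.ext ?_
        show ((a : M2ˣ) : M2).det = 1
        have key : ∀ M : M2, M * M = -1 → M.det = 1 := by decide +kernel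
        exact key _ haa
      have := Subgroup.orderOf_dvd_natCard D.ker hmem
      rwa [← Subgroup.orderOf_coe] at this
    have hr2 : D.ker.index = 2 := by
      rw [Subgroup.index_ker]
      have hle : Nat.card D.range ≤ 2 := by
        refine (Subgroup.card_le_card_group D.range).trans (le_of_eq ?_)
        rw [Nat.card_eq_fintype_card, ZMod.card_units]
      have hge : 1 < Nat.card D.range := by
        rw [Subgroup.one_lt_card_iff_ne_bot]
        intro h
        have h1 : D ⟨s, hs⟩ ∈ D.range := ⟨_, rfl⟩
        rw [h, Subgroup.mem_bot, Units.ext_iff] at h1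
        have h2 : ((s : M2ˣ) : M2).det = 1 := h1
        rw [det_flip _ haa _ hss hsa] at h2
        exact absurd h2 (by decide)
      omega
    rw [← D.ker.card_mul_index, hr2]
    exact Nat.mul_dvd_mul hk dvd_rfl
  have h24 : 24 ∣ Nat.card H := Nat.Coprime.mul_dvd_of_dvd_of_dvd (by norm_num : Nat.Coprime 8 3) h8 h3
  have hd : Nat.card H ∣ 48 := hcard ▸ H.card_subgroup_dvd_card
  rcases (show Nat.card H = 24 ∨ Nat.card H = 48 by
    rcases h24 with ⟨k, hk⟩
    have := Nat.le_of_dvd (by norm_num) hd
    have hpos : 0 < Nat.card H := Nat.card_pos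
    omega) with h | h
  · exfalso
    have hidx : H.index = 2 := by
      have := H.card_mul_index
      rw [h, hcard] at this
      omega
    have hsl : ∀ M : M2ˣ, (M : M2).det = 1 → M ∈ H := by
      intro M hM
      obtain ⟨x, hx, y, hy, he⟩ := det_one_squares _ hM
      have hx' : IsUnit x := (Matrix.isUnit_iff_isUnit_det x).2 (isUnit_iff_ne_zero.2 hx)
      have hy' : IsUnit y := (Matrix.isUnit_iff_isUnit_det y).2 (isUnit_iff_ne_zero.2 hy)
      have hM' : M = hx'.unit * hx'.unit * (hy'.unit * hy'.unit) := by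
        refine Units.ext ?_
        simp only [Units.val_mul, IsUnit.unit_spec]
        exact he
      rw [hM']
      exact mul_mem (Subgroup.mul_self_mem_of_index_two hidx _) (Subgroup.mul_self_mem_of_index_two hidx _)
    refine absurd (Subgroup.index_eq_one.2 ?_) (by rw [hidx]; norm_num : H.index ≠ 1)
    rw [eq_top_iff]
    intro M _
    have hdet : ∀ M : M2ˣ, (M : M2).det = 1 ∨ (M : M2).det = -1 := by
      intro M
      have h0 : (M : M2).det ≠ 0 := isUnit_iff_ne_zero.1 ((Matrix.isUnit_iff_isUnit_det _).1 M.isUnit)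
      revert h0
      generalize (M : M2).det = d
      revert d
      decide
    rcases hdet M with hM | hM
    · exact hsl M hM
    · have h2 : s * M ∈ H := hsl _ (by
        rw [Units.val_mul, Matrix.det_mul, det_flip _ haa _ hss hsa, hM]; decide)
      exact (Subgroup.mul_mem_cancel_left H hs).1 h2
  · exact Subgroup.eq_top_of_card_eq H (by rw [h, hcard])

end Cfsg.Agent.Lib.McL3Local35.Plane
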