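import Cfsg.Agent.Lib.McL3Local35.Local
import Cfsg.Agent.Lib.McL3Local35.Plane

/-!
# The stabiliser of `D` in `C(t)` and its action on the inverted part `W` of `J`
-/

set_option autoImplicit false

namespace Cfsg.Agent.Lib.McL3Local35

open Subgroup
open Plane (M2)

namespace Std

variable {G : Type*} [Group G] [Finite G] (d : Std G)

theorem exists_coord : ∃ θ : (Fin 2 → ZMod 3) ≃+ Additive d.W, True := by
  have hcomm : ∀ a b : d.W, a * b = b * a := fun a b => Subtype.ext (d.J_comm _ a.2.1 _ b.2.1)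
  have hexp : ∀ a : d.W, a ^ 3 = 1 := fun a => Subtype.ext (d.J_exp _ a.2.1)
  obtain ⟨a, ha⟩ : ∃ a : d.W, a ≠ 1 := by
    by_contra hall
    push Not at hall
    have : Subsingleton d.W := ⟨fun x y => (hall x).trans (hall y).symm⟩
    have := Nat.card_of_subsingleton (1 : d.W)
    rw [d.W_card] at this
    omega
  obtain ⟨b, hb⟩ : ∃ b : d.W, b ∉ zpowers a := by
    by_contra hall
    push Not at hall
    have h1 : Nat.card d.W ≤ Nat.card (zpowers a) :=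
      Nat.card_le_card_of_injective (fun x => (⟨x, hall x⟩ : zpowers a)) fun x y h => congrArg Subtype.val h
    rw [d.W_card, Nat.card_zpowers] at h1
    have := Nat.le_of_dvd (by norm_num) (orderOf_dvd_of_pow_eq_one (hexp a))
    omega
  have hmod : ∀ (x : d.W) (k : ℕ), x ^ (k % 3) = x ^ k := fun x k => (pow_eq_pow_mod k (hexp x)).symm
  let f : (Fin 2 → ZMod 3) →+ Additive d.W :=
    AddMonoidHom.mk' (fun v => Additive.ofMul (a ^ (v 0).val * b ^ (v 1).val)) fun v w => by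
      show Additive.ofMul _ = Additive.ofMul _ + Additive.ofMul _
      rw [← ofMul_mul, Pi.add_apply, Pi.add_apply, ZMod.val_add, ZMod.val_add, hmod, hmod, pow_add, pow_add]
      congr 1
      calc a ^ (v 0).val * a ^ (w 0).val * (b ^ (v 1).val * b ^ (w 1).val)
          = a ^ (v 0).val * (a ^ (w 0).val * b ^ (v 1).val) * b ^ (w 1).val := by simp only [mul_assoc]
        _ = a ^ (v 0).val * (b ^ (v 1).val * a ^ (w 0).val) * b ^ (w 1).val := by
          rw [hcomm (a ^ (w 0).val) (b ^ (v 1).val)]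
        _ = _ := by simp only [mul_assoc]
  have hfa : f ![1, 0] = Additive.ofMul a := by
    show Additive.ofMul (a ^ (1 : ZMod 3).val * b ^ (0 : ZMod 3).val) = _
    simp [ZMod.val_one]
  have hfb : f ![0, 1] = Additive.ofMul b := by
    show Additive.ofMul (a ^ (0 : ZMod 3).val * b ^ (1 : ZMod 3).val) = _
    simp [ZMod.val_one]
  let R : Subgroup d.W := AddSubgroup.toSubgroup' f.range
  have hsurj : Function.Surjective f := by
    have hR : R = ⊤ := by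
      refine Subgroup.eq_top_of_le_card R ?_
      have haR : a ∈ R := ⟨_, hfa⟩
      have hbR : b ∈ R := ⟨_, hfb⟩
      have hle : zpowers a ≤ R := zpowers_le.2 haR
      have ho : orderOf a = 3 := orderOf_eq_prime (hexp a) ha
      have hlt : Nat.card (zpowers a) < Nat.card R := by
        refine lt_of_le_of_ne (Subgroup.card_le_of_le hle) fun he => hb ?_
        rw [Subgroup.eq_of_le_of_card_ge hle he.ge]
        exact hbR
      rw [Nat.card_zpowers, ho] at hlt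
      have hdvd : Nat.card R ∣ 3 ^ 2 := R.card_subgroup_dvd_card.trans (d.W_card.dvd.trans (by norm_num))
      obtain ⟨k, hk, hkc⟩ := (Nat.dvd_prime_pow (p := 3) Nat.prime_three).1 hdvd
      rw [hkc] at hlt ⊢
      have : 1 < k := (Nat.pow_lt_pow_iff_right (by norm_num : 1 < 3)).1 (by simpa using hlt)
      rw [d.W_card, show k = 2 by omega]
      norm_num
    intro x
    exact (hR.symm ▸ Subgroup.mem_top (Additive.toMul x) : Additive.toMul x ∈ R)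
  have hcard : Nat.card (Fin 2 → ZMod 3) = Nat.card (Additive d.W) := by
    rw [show Nat.card (Additive d.W) = Nat.card d.W from Nat.card_congr Additive.toMul, d.W_card,
      Nat.card_eq_fintype_card]
    simp
  exact ⟨AddEquiv.ofBijective f ((Nat.bijective_iff_surjective_and_card f).2 ⟨hsurj, hcard⟩), trivial⟩

/-- Coordinates of `W`. -/
noncomputable def coord : (Fin 2 → ZMod 3) ≃+ Additive d.W := d.exists_coord.choose

/-- The linear map of an endomorphism of `W`. -/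
noncomputable def lin (f : d.W →* d.W) : (Fin 2 → ZMod 3) →ₗ[ZMod 3] (Fin 2 → ZMod 3) :=
  AddMonoidHom.toZModLinearMap 3
    (d.coord.symm.toAddMonoidHom.comp ((MonoidHom.toAdditive f).comp d.coord.toAddMonoidHom))

/-- The matrix of an endomorphism of `W`. -/
noncomputable def mat (f : d.W →* d.W) : M2 := LinearMap.toMatrix' (d.lin f)

theorem lin_apply (f : d.W →* d.W) (v : Fin 2 → ZMod 3) :
    d.lin f v = d.coord.symm (Additive.ofMul (f (Additive.toMul (d.coord v)))) := rfl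

theorem mat_comp (f g : d.W →* d.W) : d.mat (f.comp g) = d.mat f * d.mat g := by
  rw [mat, mat, mat, ← LinearMap.toMatrix'_comp]
  congr 1
  refine LinearMap.ext fun v => ?_
  simp [lin_apply]

theorem mat_one : d.mat (MonoidHom.id d.W) = 1 := by
  rw [mat, ← LinearMap.toMatrix'_id]
  congr 1
  refine LinearMap.ext fun v => ?_
  simp [lin_apply]

theorem mat_inj {f g : d.W →* d.W} (h : d.mat f = d.mat g) : f = g := by
  have h' : d.lin f = d.lin g := LinearMap.toMatrix'.injective h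
  refine MonoidHom.ext fun x => ?_
  have := congrArg (fun l => d.coord (l (d.coord.symm (Additive.ofMul x)))) h'
  simpa [lin_apply] using this

/-- Inversion on `W`. -/
noncomputable def negW : d.W →* d.W where
  toFun x := x⁻¹
  map_one' := inv_one
  map_mul' a b := by
    rw [mul_inv_rev]
    exact Subtype.ext (d.J_comm _ (inv_mem b.2.1) _ (inv_mem a.2.1))

theorem mat_negW : d.mat d.negW = -1 := by
  have : d.lin d.negW = -LinearMap.id := by
    refine LinearMap.ext fun v => ?_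
    rw [lin_apply]
    simp [negW]
  rw [mat, this, map_neg, LinearMap.toMatrix'_id]

/-- The elements normalising `D` and centralising `t`. -/
structure InE (g : G) : Prop where
  normD : Norms g d.D
  comm : g * d.t = d.t * g

variable {d}

theorem InE.normJ {g : G} (hg : InE d g) : Norms g d.J := d.norms_J_of_D hg.normD

theorem InE.normW {g : G} (hg : InE d g) : Norms g d.W := by
  intro x hx
  refine ⟨hg.normJ x hx.1, ?_⟩
  calc d.t * (g * x * g⁻¹) * d.t = (d.t * g) * x * (d.t * g)⁻¹ := by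
        rw [mul_inv_rev, d.t_inv]; group
    _ = g * (d.t * x * d.t) * g⁻¹ := by rw [← hg.comm, mul_inv_rev, d.t_inv]; group
    _ = (g * x * g⁻¹)⁻¹ := by rw [hx.2]; group

theorem InE.mul {g h : G} (hg : InE d g) (hh : InE d h) : InE d (g * h) :=
  ⟨hg.normD.mul hh.normD, by rw [mul_assoc, hh.comm, ← mul_assoc, hg.comm, mul_assoc]⟩

theorem InE.inv {g : G} (hg : InE d g) : InE d g⁻¹ :=
  ⟨hg.normD.inv, by rw [inv_mul_eq_iff_eq_mul, ← mul_assoc, hg.comm, mul_inv_cancel_right]⟩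

theorem InE.pow {g : G} (hg : InE d g) (n : ℕ) : InE d (g ^ n) :=
  ⟨hg.normD.pow n, ((show Commute g d.t from hg.comm).pow_left n).eq⟩

variable (d)

theorem inE_one : InE d 1 := ⟨Norms.of_mem (one_mem _), by simp⟩

theorem inE_D {x : G} (hx : x ∈ d.D) : InE d x := ⟨Norms.of_mem hx, by
  have h := (d.mem_D.1 hx).2
  calc x * d.t = (d.t * x * d.t) * d.t := by rw [h]
    _ = d.t * x := by rw [mul_assoc, d.t_sq, mul_one]⟩

theorem inE_t : InE d d.t := ⟨fun x hx => by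
  rw [d.t_inv, (d.mem_D.1 hx).2]; exact hx, rfl⟩

theorem inE_of_norms_J {g : G} (hJ : Norms g d.J) (hc : g * d.t = d.t * g) : InE d g :=
  ⟨fun x hx => d.mem_D.2 ⟨hJ x (d.D_le_J hx), by
    calc d.t * (g * x * g⁻¹) * d.t = (d.t * g) * x * (d.t * g)⁻¹ := by
          rw [mul_inv_rev, d.t_inv]; group
      _ = g * (d.t * x * d.t) * g⁻¹ := by rw [← hc, mul_inv_rev, d.t_inv]; group
      _ = g * x * g⁻¹ := by rw [(d.mem_D.1 hx).2]⟩, hc⟩

theorem inE_e : InE d d.e := d.inE_of_norms_J d.e_norms_J (by rw [t]; group)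

theorem inE_s : InE d d.s := d.inE_of_norms_J d.s_norms_J d.s_comm

open Classical in
/-- Conjugation on `W`. -/
noncomputable def act (g : G) : d.W →* d.W :=
  if h : Norms g d.W then
    { toFun := fun x => ⟨g * (x : G) * g⁻¹, h _ x.2⟩
      map_one' := Subtype.ext (by simp)
      map_mul' := fun a b => Subtype.ext (by
        show g * ((a : G) * b) * g⁻¹ = g * (a : G) * g⁻¹ * (g * (b : G) * g⁻¹)
        group) }
  else MonoidHom.id _

theorem act_apply {g : G} (h : Norms g d.W) (x : d.W) : ((d.act g x : d.W) : G) = g * x * g⁻¹ := by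
  simp only [act, dif_pos h]
  rfl

/-- The matrix of conjugation on `W`. -/
noncomputable def rho (g : G) : M2 := d.mat (d.act g)

theorem rho_mul {g h : G} (hg : InE d g) (hh : InE d h) : d.rho (g * h) = d.rho g * d.rho h := by
  rw [rho, rho, rho, ← d.mat_comp]
  congr 1
  refine MonoidHom.ext fun x => Subtype.ext ?_
  rw [d.act_apply (hg.mul hh).normW, MonoidHom.comp_apply, d.act_apply hg.normW, d.act_apply hh.normW]
  group

theorem rho_eq_one {g : G} (hg : InE d g) : d.rho g = 1 ↔ ∀ w ∈ d.W, g * w = w * g := by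
  rw [rho, ← d.mat_one]
  constructor
  · intro h w hw
    have := congrArg (fun f : d.W →* d.W => ((f ⟨w, hw⟩ : d.W) : G)) (d.mat_inj h)
    simp only [d.act_apply hg.normW, MonoidHom.id_apply] at this
    exact mul_inv_eq_iff_eq_mul.1 this
  · intro h
    congr 1
    refine MonoidHom.ext fun x => Subtype.ext ?_
    rw [d.act_apply hg.normW, h _ x.2, mul_inv_cancel_right]
    rfl

theorem rho_one : d.rho 1 = 1 := (d.rho_eq_one d.inE_one).2 fun w _ => by simp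

theorem rho_D {x : G} (hx : x ∈ d.D) : d.rho x = 1 :=
  (d.rho_eq_one (d.inE_D hx)).2 fun w hw => d.J_comm x (d.D_le_J hx) w hw.1

theorem rho_t : d.rho d.t = -1 := by
  rw [rho, ← d.mat_negW]
  congr 1
  refine MonoidHom.ext fun x => Subtype.ext ?_
  rw [d.act_apply d.inE_t.normW, d.t_inv, x.2.2]
  rfl

theorem rho_inv {g : G} (hg : InE d g) : d.rho g⁻¹ * d.rho g = 1 ∧ d.rho g * d.rho g⁻¹ = 1 :=
  ⟨by rw [← d.rho_mul hg.inv hg, inv_mul_cancel, d.rho_one], by rw [← d.rho_mul hg hg.inv, mul_inv_cancel, d.rho_one]⟩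

theorem rho_det {g : G} (hg : InE d g) : (d.rho g).det ≠ 0 := fun h => by
  have := congrArg Matrix.det (d.rho_inv hg).2
  rw [Matrix.det_mul, h, zero_mul, Matrix.det_one] at this
  exact zero_ne_one this

theorem rho_pow {g : G} (hg : InE d g) (n : ℕ) : d.rho (g ^ n) = d.rho g ^ n := by
  induction n with
  | zero => rw [pow_zero, pow_zero, d.rho_one]
  | succ n ih => rw [pow_succ, pow_succ, d.rho_mul (hg.pow n) hg, ih]

/-- The members of `S` centralising `t` lie in `D`. -/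
theorem S_cent_t {x : G} (hx : x ∈ d.S) (hc : d.t * x * d.t = x) : x ∈ d.D := by
  obtain ⟨j, hj, q, hq, rfl⟩ := d.toHyp.S_eq hx
  obtain ⟨a, ha, w, hw, rfl⟩ := d.split hj
  have hwq : w * q ∈ d.Q := mul_mem (d.toHyp.A_le_Q (d.W_le_A hw)) hq
  have hfix : d.t * (w * q) * d.t = w * q := by
    have hta := (d.mem_D.1 ha).2
    calc d.t * (w * q) * d.t = (d.t * a⁻¹ * d.t) * (d.t * (a * w * q) * d.t) := by
          calc d.t * (w * q) * d.t = d.t * a⁻¹ * (a * w * q) * d.t := by group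
            _ = d.t * a⁻¹ * (d.t * d.t) * (a * w * q) * d.t := by rw [d.t_sq, mul_one]
            _ = _ := by group
      _ = (d.t * a * d.t)⁻¹ * (a * w * q) := by
          rw [hc, mul_inv_rev, mul_inv_rev, d.t_inv]; group
      _ = w * q := by rw [hta]; group
  have hZ : w * q ∈ d.Z := by
    rw [← d.toHyp.invol_fix_Z d.t_mem_L d.t_sq d.t_ne, mem_fixIn, d.t_inv]
    exact ⟨hwq, hfix⟩
  rw [mul_assoc]
  exact mul_mem ha (d.mem_D.2 ⟨d.toHyp.A_le_J (d.toHyp.Z_le_A hZ), d.t_cent_Z hZ⟩)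

theorem zpowers_z : zpowers d.z = d.Z := by
  refine Subgroup.eq_of_le_of_card_ge (zpowers_le.2 d.z_mem) ?_
  rw [d.Z_card, Nat.card_zpowers, orderOf_eq_prime d.z_three d.z_ne]

theorem cent_Z {g x : G} (hz : g * d.z = d.z * g) (hx : x ∈ d.Z) : g * x = x * g := by
  rw [← d.zpowers_z] at hx
  obtain ⟨n, rfl⟩ := hx
  exact ((show Commute g d.z from hz).zpow_right n).eq

theorem three_in_E {g : G} (hg : InE d g) (hz : g * d.z = d.z * g) (h3 : ∃ k : ℕ, orderOf g = 3 ^ k) :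
    g ∈ d.D := by
  have hZ : Norms g d.Z := Norms.of_cent fun x hx => d.cent_Z hz hx
  refine d.S_cent_t (d.three_norms_S (d.toHyp.norms_S hZ hg.normJ) h3) ?_
  rw [← hg.comm, mul_assoc, d.t_sq, mul_one]

/-- An element of `E` centralising `Z` and `W` lies in `D`. -/
theorem mem_D_of_rho_one {g : G} (hg : InE d g) (hz : g * d.z = d.z * g) (hr : d.rho g = 1) : g ∈ d.D := by
  refine d.three_in_E hg hz (three_element fun x hx hcop => ?_)
  obtain ⟨n, rfl⟩ := (mem_powers_iff_mem_zpowers.2 hx : x ∈ Submonoid.powers g)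
  have hzn : g ^ n * d.z = d.z * g ^ n := ((show Commute g d.z from hz).pow_left n).eq
  refine d.toHyp.trivial_of_fix_A (Norms.of_cent fun x hx => d.cent_Z hzn hx) hcop fun a ha => ?_
  obtain ⟨b, hb, w, hw, rfl⟩ := d.split (d.toHyp.A_le_J ha)
  have hbZ : b ∈ d.Z := d.D_inf_Q hb (by
    have := mul_mem (d.toHyp.A_le_Q ha) (inv_mem (d.toHyp.A_le_Q (d.W_le_A hw)))
    rwa [mul_inv_cancel_right] at this)
  have h1 := d.cent_Z hzn hbZ
  have h2 : g ^ n * w = w * g ^ n :=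
    (d.rho_eq_one (hg.pow n)).1 (by rw [d.rho_pow hg, hr, one_pow]) w hw
  rw [← mul_assoc, h1, mul_assoc, h2, mul_assoc]

/-- `e` inverts both generators or fixes both. -/
theorem e_D_cases : (d.e * d.z * d.e⁻¹ = d.z ∧ d.e * d.z2 * d.e⁻¹ = d.z2) ∨
    (d.e * d.z * d.e⁻¹ = d.z⁻¹ ∧ d.e * d.z2 * d.e⁻¹ = d.z2⁻¹) := by
  have hM := mul_mem (mul_mem (mul_mem d.s_mem d.e_mem) d.s_mem) d.e_mem
  have hδ : d.s * d.e * d.s * d.e ∈ d.D := by
    have hE : InE d (d.s * d.e * d.s * d.e) := ((d.inE_s.mul d.inE_e).mul d.inE_s).mul d.inE_e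
    refine d.mem_D.2 ⟨?_, ?_⟩
    · rw [← d.img_eq_one hM, d.img_mul (mul_mem (mul_mem d.s_mem d.e_mem) d.s_mem) d.e_mem,
        d.img_mul (mul_mem d.s_mem d.e_mem) d.s_mem, d.img_mul d.s_mem d.e_mem, d.s_img, d.e_img,
        Six.wbar_ebar, inv_mul_cancel]
    · rw [← hE.comm, mul_assoc, d.t_sq, mul_one]
  set δ := d.s * d.e * d.s * d.e with hδdef
  have hes : d.e * d.s = d.s * d.e⁻¹ * (d.e * δ * d.e⁻¹) * 1 := by
    rw [hδdef]
    calc d.e * d.s = (d.s * d.s) * d.e * d.s := by rw [d.s_sq, one_mul]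
      _ = _ := by group
  set η := d.e * δ * d.e⁻¹ with hη
  have hηD : η ∈ d.D := d.inE_e.normD _ hδ
  have hz2 : d.e * d.z2 * d.e⁻¹ = d.s * (d.e⁻¹ * d.z * d.e) * d.s := by
    have hc : η * d.z * η⁻¹ = d.z := by
      rw [d.J_comm η (d.D_le_J hηD) d.z d.z_mem_J, mul_inv_cancel_right]
    have hes' : d.e * d.s = d.s * d.e⁻¹ * η := by rw [hes, mul_one]
    have hse : d.s * d.e⁻¹ = (d.e * d.s)⁻¹ := by rw [mul_inv_rev, d.s_inv]
    calc d.e * d.z2 * d.e⁻¹ = (d.e * d.s) * d.z * (d.e * d.s)⁻¹ := by rw [z2, mul_inv_rev, d.s_inv]; group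
      _ = d.s * d.e⁻¹ * (η * d.z * η⁻¹) * (d.s * d.e⁻¹)⁻¹ := by rw [hes']; group
      _ = _ := by rw [hc, mul_inv_rev, inv_inv, d.s_inv]; group
  rcases d.Z_cases d.e_norms_Z d.z_mem d.z_ne with h | h
  · refine Or.inl ⟨h, ?_⟩
    have : d.e⁻¹ * d.z * d.e = d.z := by
      calc d.e⁻¹ * d.z * d.e = d.e⁻¹ * (d.e * d.z * d.e⁻¹) * d.e := by rw [h]
        _ = d.z := by group
    rw [hz2, this, z2]
  · refine Or.inr ⟨h, ?_⟩
    have : d.e⁻¹ * d.z * d.e = d.z⁻¹ := by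
      calc d.e⁻¹ * d.z * d.e = (d.e⁻¹ * d.z⁻¹ * d.e)⁻¹ := by group
        _ = (d.e⁻¹ * (d.e * d.z * d.e⁻¹) * d.e)⁻¹ := by rw [h]
        _ = d.z⁻¹ := by group
    rw [hz2, this, z2, mul_inv_rev, mul_inv_rev, d.s_inv]
    group

/-- The point `z z2⁻¹` negated by `s`. -/
noncomputable def ym : G := d.z * d.z2⁻¹

theorem ym_J : d.ym ∈ d.J := mul_mem d.z_mem_J (inv_mem d.z2_mem_J)

theorem s_ym : d.s * d.ym * d.s = d.ym⁻¹ := by
  rw [ym, mul_inv_rev, inv_inv, z2, mul_inv_rev, mul_inv_rev, d.s_inv]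
  calc d.s * (d.z * (d.s * (d.z⁻¹ * d.s))) * d.s = d.s * d.z * d.s * d.z⁻¹ * (d.s * d.s) := by group
    _ = d.s * d.z * d.s * d.z⁻¹ := by rw [d.s_sq, mul_one]

theorem ym_not_Z : d.ym ∉ d.Z := fun h => d.z2_not_Z (by
  have := mul_mem (inv_mem h) d.z_mem
  rwa [ym, mul_inv_rev, inv_inv, inv_mul_cancel_right] at this)

theorem ym_ne : d.ym ≠ 1 := fun h => d.ym_not_Z (h ▸ one_mem _)

/-- A point of `J` fixed by lifts of `p1` and `p2` lies in `Z`. -/
theorem mem_Z_of_P {y : G} (hy : y ∈ d.J) (K : Subgroup Six.A6)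
    (hK : ∀ x (hx : x ∈ d.M), d.img x hx ∈ K → x * y = y * x) (h1 : Six.p1 ∈ K) (h2 : Six.p2 ∈ K) :
    y ∈ d.Z := by
  refine d.Z_center y (d.J_le hy) fun s hs => hK s (d.toHyp.S_le_M hs) ?_
  rcases (d.pi_S ⟨s, d.toHyp.S_le_M hs⟩).2 hs with h | h | h | h | h | h | h | h | h <;>
    rw [show d.img s _ = _ from h]
  · exact one_mem _
  · exact h1
  · exact inv_mem h1
  · exact h2
  · exact inv_mem h2
  · exact mul_mem h1 h2
  · exact mul_mem h1 (inv_mem h2)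
  · exact mul_mem (inv_mem h1) h2
  · exact mul_mem (inv_mem h1) (inv_mem h2)

/-- The images in `A₆` of the elements of `M₀` fixing a point of `J`. -/
noncomputable def stab (y : G) : Subgroup Six.A6 :=
  ((centralizer ({y} : Set G)).subgroupOf d.M).map d.pi

theorem stab_fix {y x : G} (hy : y ∈ d.J) (hx : x ∈ d.M) (h : d.img x hx ∈ d.stab y) : x * y = y * x := by
  obtain ⟨⟨w, hw⟩, hwc, he⟩ := h
  have hwc' : w * y = y * w := mem_centralizer_singleton_iff.1 hwc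
  have hj : w⁻¹ * x ∈ d.J := by
    rw [← d.img_eq_one (mul_mem (inv_mem hw) hx), d.img_mul (inv_mem hw) hx, d.img_inv hw,
      show d.img w hw = d.img x hx from he, inv_mul_cancel]
  calc x * y = w * ((w⁻¹ * x) * y) := by group
    _ = w * (y * (w⁻¹ * x)) := by rw [d.J_comm _ hj y hy]
    _ = w * y * w⁻¹ * x := by group
    _ = y * x := by rw [hwc', mul_inv_cancel_right]

theorem mem_stab {y x : G} (hx : x ∈ d.M) (h : x * y = y * x) : d.img x hx ∈ d.stab y :=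
  ⟨⟨x, hx⟩, mem_centralizer_singleton_iff.2 h, rfl⟩

/-- The stabiliser of a point of `J` has index at most 81. -/
theorem stab_index {y : G} (hy : y ∈ d.J) : (d.stab y).index ≤ 81 := by
  classical
  have hlift : ∀ a : Six.A6, ∃ x : d.M, d.pi x = a := d.pi_surj
  choose L hL using hlift
  let f : Six.A6 ⧸ d.stab y → d.J := fun q =>
    ⟨(L q.out : G) * y * (L q.out : G)⁻¹, d.M_norms _ (L q.out).2 y hy⟩
  have hinj : Function.Injective f := by
    intro p q hpq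
    rw [← QuotientGroup.out_eq' p, ← QuotientGroup.out_eq' q, QuotientGroup.eq]
    have h := congrArg Subtype.val hpq
    simp only [f] at h
    set a := L p.out
    set b := L q.out
    have hc : ((a⁻¹ * b : d.M) : G) * y = y * ((a⁻¹ * b : d.M) : G) := by
      simp only [Subgroup.coe_mul, Subgroup.coe_inv]
      calc (a : G)⁻¹ * b * y = (a : G)⁻¹ * ((b : G) * y * (b : G)⁻¹) * b := by group
        _ = (a : G)⁻¹ * ((a : G) * y * (a : G)⁻¹) * b := by rw [h]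
        _ = y * ((a : G)⁻¹ * b) := by group
    have := d.mem_stab (a⁻¹ * b).2 hc
    change d.pi (a⁻¹ * b) ∈ d.stab y at this
    rw [map_mul, map_inv, hL, hL] at this
    exact this
  have := Nat.card_le_card_of_injective f hinj
  rwa [d.J_card, ← Subgroup.index_eq_card] at this

/-- `e` inverts `D`. -/
theorem e_inverts : d.e * d.z * d.e⁻¹ = d.z⁻¹ ∧ d.e * d.z2 * d.e⁻¹ = d.z2⁻¹ := by
  rcases d.e_D_cases with ⟨h1, h2⟩ | h
  swap
  · exact h
  exfalso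
  have hey : d.e * d.ym = d.ym * d.e := by
    rw [← mul_inv_eq_iff_eq_mul]
    calc d.e * d.ym * d.e⁻¹ = (d.e * d.z * d.e⁻¹) * (d.e * d.z2 * d.e⁻¹)⁻¹ := by rw [ym]; group
      _ = d.ym := by rw [h1, h2, ym]
  set K := d.stab d.ym with hKdef
  have he : Six.ebar ∈ K := d.e_img ▸ d.mem_stab d.e_mem hey
  have hp2 : ∀ {y : G} (K : Subgroup Six.A6), Six.ebar ∈ K → Six.p1 ∈ K →
      (∀ x (hx : x ∈ d.M), d.img x hx ∈ K → x * y = y * x) → y ∈ d.J → y ∈ d.Z := by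
    intro y K he hp hfix hy
    exact d.mem_Z_of_P hy K hfix hp (Six.ebar_p1 ▸ mul_mem (mul_mem he hp) (inv_mem he))
  by_cases hall : ∀ g ∈ K, g = 1 ∨ g = Six.ebar ∨ g = Six.tbar ∨ g = Six.ebar⁻¹
  · have hcard : Nat.card K ≤ 4 := by
      classical
      have hsub : ∀ g : K, (g : Six.A6) ∈ ({1, Six.ebar, Six.tbar, Six.ebar⁻¹} : Finset Six.A6) := fun g => by
        simp only [Finset.mem_insert, Finset.mem_singleton]
        exact hall g g.2
      refine le_trans (Nat.card_le_card_of_injective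
        (fun g : K => (⟨g, hsub g⟩ : ({1, Six.ebar, Six.tbar, Six.ebar⁻¹} : Finset Six.A6)))
        (fun a b h => Subtype.ext (congrArg (fun x : ({1, Six.ebar, Six.tbar, Six.ebar⁻¹} : Finset Six.A6) =>
          (x : Six.A6)) h))) ?_
      rw [Nat.card_eq_fintype_card, Fintype.card_coe]
      exact Finset.card_le_four
    have h360 : Nat.card Six.A6 = 360 := by rw [nat_card_alternatingGroup]; simp [Nat.factorial]
    have := K.card_mul_index
    have h81 := d.stab_index d.ym_J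
    rw [← hKdef] at h81
    rw [h360] at this
    nlinarith
  push Not at hall
  obtain ⟨g, hg, hne⟩ := hall
  rcases Six.mem_cases K he hg with h | h | h | h
  · rcases h with h | h | h | h
    exacts [hne.1 h, hne.2.1 h, hne.2.2.1 h, hne.2.2.2 h]
  · have hc := d.stab_fix d.ym_J d.s_mem (by rw [d.s_img]; exact h)
    have h3 := d.s_ym
    rw [hc, mul_assoc, d.s_sq, mul_one, eq_inv_iff_mul_eq_one, ← pow_two] at h3
    exact d.ym_ne (by
      calc d.ym = d.ym ^ 3 := by rw [pow_succ, h3, one_mul]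
        _ = 1 := d.J_exp _ d.ym_J)
  · exact d.ym_not_Z (hp2 K he h (fun x hx hxK => d.stab_fix d.ym_J hx hxK) d.ym_J)
  · -- transport by `s`
    set K' := K.comap (MulAut.conj Six.wbar).toMonoidHom with hK'
    have he' : Six.ebar ∈ K' := by
      show Six.wbar * Six.ebar * Six.wbar⁻¹ ∈ K
      rw [inv_eq_of_mul_eq_one_right Six.wbar_sq, Six.wbar_ebar]
      exact inv_mem he
    refine d.ym_not_Z (inv_mem_iff.1 (hp2 K' he' h (fun x hx hxK => ?_) (inv_mem d.ym_J)))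
    have hsx : d.img (d.s * x * d.s⁻¹) (mul_mem (mul_mem d.s_mem hx) (inv_mem d.s_mem)) ∈ K := by
      rw [d.img_conj d.s_mem hx, d.s_img]
      exact hxK
    have hc := d.stab_fix d.ym_J _ hsx
    rw [d.s_inv] at hc
    rw [← d.s_ym]
    calc x * (d.s * d.ym * d.s) = d.s * (d.s * x * d.s * d.ym) * d.s := by
          calc x * (d.s * d.ym * d.s) = (d.s * d.s) * x * (d.s * d.ym * d.s) := by rw [d.s_sq, one_mul]
            _ = _ := by group
      _ = d.s * (d.ym * (d.s * x * d.s)) * d.s := by rw [hc]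
      _ = (d.s * d.ym * d.s) * x * (d.s * d.s) := by group
      _ = _ := by rw [d.s_sq, mul_one]

theorem exists_e1 : ∃ e1 : G, e1 ∈ d.L ∧ e1 * d.t = d.t * e1 ∧ e1 * e1 = d.t ∧
    e1 * d.z * e1⁻¹ = d.z ∧ e1 * d.z2 * e1⁻¹ = d.z2⁻¹ := by
  have hz2L := d.toHyp.S_le_L (d.J_le d.z2_mem_J)
  have hx1 : d.toHyp.sl d.z2 hz2L ≠ 1 := fun h => d.z2_not_Q ((d.toHyp.sl_eq_one hz2L).1 h)
  have hx3 : d.toHyp.sl d.z2 hz2L * d.toHyp.sl d.z2 hz2L * d.toHyp.sl d.z2 hz2L = 1 := by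
    show d.toSL ⟨d.z2, hz2L⟩ * d.toSL ⟨d.z2, hz2L⟩ * d.toSL ⟨d.z2, hz2L⟩ = 1
    rw [← map_mul, ← map_mul, ← map_one d.toSL]
    refine congrArg d.toSL (Subtype.ext ?_)
    show d.z2 * d.z2 * d.z2 = 1
    rw [← pow_three', d.z2_three]
  obtain ⟨g0, hg0, hg0x⟩ := SLFive.exists_invert _ hx3 hx1
  obtain ⟨⟨m, hm⟩, hmi⟩ := d.toSL_surj g0
  obtain ⟨q, hq, hfix⟩ := exists_fixed_mul_odd (t := d.t) (x := m) (A := d.Q) d.t_sq
    (Hyp.odd_of_three (k := 5) (by rw [d.Q_card]; norm_num))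
    (d.toHyp.invol_comm_mod d.t_mem_L d.t_sq d.t_ne hm)
  set g := m * q with hg
  have hgL : g ∈ d.L := mul_mem hm (d.Q_le_L hq)
  have hgsl : d.toSL ⟨g, hgL⟩ = g0 := by
    show d.toSL (⟨m, hm⟩ * ⟨q, d.Q_le_L hq⟩) = _
    rw [map_mul, hmi, (d.toSL_ker ⟨q, d.Q_le_L hq⟩).2 hq, mul_one]
  have hgc : g * d.t = d.t * g := by
    calc g * d.t = d.t * (d.t * g * d.t) := by rw [← mul_assoc, ← mul_assoc, d.t_sq, one_mul]
      _ = _ := by rw [hfix]
  set e1 := g ^ 81 with he1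
  have he1L : e1 ∈ d.L := pow_mem hgL _
  have he1c : e1 * d.t = d.t * e1 := ((show Commute g d.t from hgc).pow_left 81).eq
  have hg04 : g0 ^ 4 = 1 := by
    rw [show 4 = 2 * 2 from rfl, pow_mul, pow_two g0, hg0, neg_one_sq]
  have he1sl : d.toSL ⟨e1, he1L⟩ = g0 := by
    show d.toSL (⟨g, hgL⟩ ^ 81) = _
    rw [map_pow, hgsl, show (81 : ℕ) = 4 * 20 + 1 from rfl, pow_succ, pow_mul, hg04, one_pow, one_mul]
  have hfixQ : ∀ x ∈ d.Q, d.t * x * d.t = x → x ∈ d.Z := fun x hx hf => by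
    rw [← d.toHyp.invol_fix_Z d.t_mem_L d.t_sq d.t_ne, mem_fixIn, d.t_inv]
    exact ⟨hx, hf⟩
  have hcomm_t : ∀ x : G, x * d.t = d.t * x → d.t * x * d.t = x := fun x h => by
    rw [← h, mul_assoc, d.t_sq, mul_one]
  have hg4 : g ^ 4 ∈ d.Z := by
    refine hfixQ _ ?_ (hcomm_t _ ((show Commute g d.t from hgc).pow_left 4).eq)
    rw [← d.toHyp.sl_eq_one (pow_mem hgL 4)]
    show d.toSL (⟨g, hgL⟩ ^ 4) = 1
    rw [map_pow, hgsl, hg04]
  have he14 : e1 ^ 4 = 1 := by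
    rw [he1, ← pow_mul, show 81 * 4 = 4 * (3 * 27) from rfl, pow_mul, pow_mul, d.Q_exp _ (d.Z_le hg4), one_pow]
  have hsq : e1 * e1 = d.t := by
    set r := e1 * e1 * d.t with hr
    have hrL : r ∈ d.L := mul_mem (mul_mem he1L he1L) d.t_mem_L
    have hrQ : r ∈ d.Q := by
      rw [← d.toHyp.sl_eq_one hrL]
      show d.toSL (⟨e1, he1L⟩ * ⟨e1, he1L⟩ * ⟨d.t, d.t_mem_L⟩) = 1
      rw [map_mul, map_mul, he1sl, hg0,
        show d.toSL ⟨d.t, d.t_mem_L⟩ = -1 from d.toHyp.invol_sl d.t_mem_L d.t_sq d.t_ne]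
      simp
    have hct : e1 * e1 * d.t = d.t * (e1 * e1) := by
      rw [mul_assoc, he1c, ← mul_assoc, he1c, mul_assoc]
    have hr2 : r * r = 1 := by
      calc r * r = e1 * e1 * (d.t * (e1 * e1)) * d.t := by rw [hr]; group
        _ = e1 ^ 4 * (d.t * d.t) := by rw [← hct]; simp [pow_succ, mul_assoc]
        _ = 1 := by rw [he14, d.t_sq, mul_one]
    have hr1 : r = 1 := by
      refine d.toHyp.eq_one_of_coprime (d.Q_le hrQ) ?_
      exact Nat.Coprime.coprime_dvd_left (orderOf_dvd_of_pow_eq_one (n := 2) (by rw [pow_two, hr2])) (by norm_num)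
    rw [hr, mul_eq_one_iff_eq_inv, d.t_inv] at hr1
    exact hr1
  have hez : e1 * d.z * e1⁻¹ = d.z := by rw [d.L_cent e1 he1L d.z d.z_mem, mul_inv_cancel_right]
  refine ⟨e1, he1L, he1c, hsq, hez, ?_⟩
  have hmem : e1 * d.z2 * e1⁻¹ * d.z2 ∈ d.Z := by
    refine hfixQ _ ?_ ?_
    · rw [← d.toHyp.sl_eq_one (mul_mem (mul_mem (mul_mem he1L hz2L) (inv_mem he1L)) hz2L)]
      show d.toSL (⟨e1, he1L⟩ * ⟨d.z2, hz2L⟩ * ⟨e1, he1L⟩⁻¹ * ⟨d.z2, hz2L⟩) = 1
      rw [map_mul, map_mul, map_mul, map_inv, he1sl,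
        show d.toSL ⟨d.z2, hz2L⟩ = d.toHyp.sl d.z2 hz2L from rfl, hg0x, mul_inv_cancel_right, inv_mul_cancel]
    · refine hcomm_t _ ?_
      have h2 : d.z2 * d.t = d.t * d.z2 := (d.inE_D d.z2_D).comm
      exact ((((show Commute e1 d.t from he1c).mul_left h2).mul_left (Commute.inv_left he1c)).mul_left h2).eq
  have hs : Norms e1 d.S := by
    intro x hx
    obtain ⟨j, hj, q', hq', rfl⟩ := d.toHyp.S_eq hx
    obtain ⟨a, ha, w, hw, rfl⟩ := d.split hj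
    rw [show e1 * (a * w * q') * e1⁻¹ = (e1 * a * e1⁻¹) * (e1 * (w * q') * e1⁻¹) by group]
    refine mul_mem ?_ (d.Q_le (d.Q_norm e1 (d.L_norms e1 he1L) _ (mul_mem (d.toHyp.A_le_Q (d.W_le_A hw)) hq')))
    refine d.D_induction (P := fun a => e1 * a * e1⁻¹ ∈ d.S) ha ?_ ?_ (by simp [one_mem]) ?_
    · rw [hez]; exact d.toHyp.Z_le_S d.z_mem
    · have := mul_mem (d.toHyp.Z_le_S hmem) (inv_mem (d.J_le d.z2_mem_J))
      rwa [mul_inv_cancel_right] at this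
    · intro a b ha hb
      rw [show e1 * (a * b) * e1⁻¹ = (e1 * a * e1⁻¹) * (e1 * b * e1⁻¹) by group]
      exact mul_mem ha hb
  have hJ : Norms e1 d.J := d.toHyp.conj_eq_J fun x hx => hs x (d.J_le hx)
  have hgJ : Norms (e1 * d.s) d.J := hJ.mul d.s_norms_J
  have he : e1 * d.s * d.z * (e1 * d.s)⁻¹ = e1 * d.z2 * e1⁻¹ := by rw [mul_inv_rev, d.s_inv, z2]; group
  rcases d.zconj hgJ (by
    refine hcomm_t _ ?_
    rw [he]
    exact (((show Commute e1 d.t from he1c).mul_left (d.inE_D d.z2_D).comm).mul_left (Commute.inv_left he1c)).eq) with h | h | h | h <;>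
    rw [he] at h
  · exfalso
    rw [h] at hmem
    exact d.z2_not_Z ((Subgroup.mul_mem_cancel_left _ d.z_mem).1 hmem)
  · exfalso
    rw [h] at hmem
    exact d.z2_not_Z ((Subgroup.mul_mem_cancel_left _ (inv_mem d.z_mem)).1 hmem)
  · exfalso
    rw [h, ← pow_two, ← inv_eq_sq d.z2_three] at hmem
    exact d.z2_not_Z (inv_mem_iff.1 hmem)
  · exact h

/-- The element of order four centralising `Z` and inverting `z2`. -/
noncomputable def e1 : G := d.exists_e1.choose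

theorem e1_L : d.e1 ∈ d.L := d.exists_e1.choose_spec.1

theorem e1_comm : d.e1 * d.t = d.t * d.e1 := d.exists_e1.choose_spec.2.1

theorem e1_sq : d.e1 * d.e1 = d.t := d.exists_e1.choose_spec.2.2.1

theorem e1_z : d.e1 * d.z * d.e1⁻¹ = d.z := d.exists_e1.choose_spec.2.2.2.1

theorem e1_z2 : d.e1 * d.z2 * d.e1⁻¹ = d.z2⁻¹ := d.exists_e1.choose_spec.2.2.2.2

theorem inE_of_gens {g : G} (hc : g * d.t = d.t * g) (h1 : g * d.z * g⁻¹ ∈ d.D) (h2 : g * d.z2 * g⁻¹ ∈ d.D) :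
    InE d g :=
  ⟨fun x hx => d.D_induction (P := fun x => g * x * g⁻¹ ∈ d.D) hx h1 h2 (by simp [one_mem]) fun a b ha hb => by
    rw [show g * (a * b) * g⁻¹ = (g * a * g⁻¹) * (g * b * g⁻¹) by group]
    exact mul_mem ha hb, hc⟩

theorem inE_e1 : InE d d.e1 := d.inE_of_gens d.e1_comm (by rw [d.e1_z]; exact d.z_D)
  (by rw [d.e1_z2]; exact inv_mem d.z2_D)

theorem rho_e_sq : d.rho d.e * d.rho d.e = -1 := by
  rw [← d.rho_mul d.inE_e d.inE_e, ← d.rho_t]; rfl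

theorem rho_e1_sq : d.rho d.e1 * d.rho d.e1 = -1 := by
  rw [← d.rho_mul d.inE_e1 d.inE_e1, d.e1_sq, d.rho_t]

theorem rho_s_sq : d.rho d.s * d.rho d.s = 1 := by
  rw [← d.rho_mul d.inE_s d.inE_s, d.s_sq, d.rho_one]

theorem s_z2 : d.s * d.z2 * d.s = d.z := by
  rw [z2]
  calc d.s * (d.s * d.z * d.s) * d.s = (d.s * d.s) * d.z * (d.s * d.s) := by group
    _ = d.z := by rw [d.s_sq, one_mul, mul_one]

theorem s_z : d.s * d.z * d.s = d.z2 := rfl

theorem sym_z {g : G} {x : G} (h : g * d.z2 * g⁻¹ = x) :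
    (d.s * g * d.s) * d.z * (d.s * g * d.s)⁻¹ = d.s * x * d.s := by
  rw [← h, mul_inv_rev, mul_inv_rev, d.s_inv, z2]; group

theorem sym_z2 {g : G} {x : G} (h : g * d.z * g⁻¹ = x) :
    (d.s * g * d.s) * d.z2 * (d.s * g * d.s)⁻¹ = d.s * x * d.s := by
  rw [← h, mul_inv_rev, mul_inv_rev, d.s_inv, z2]
  calc d.s * g * d.s * (d.s * d.z * d.s) * (d.s * (g⁻¹ * d.s))
      = d.s * g * (d.s * d.s) * d.z * (d.s * d.s) * g⁻¹ * d.s := by group
    _ = _ := by rw [d.s_sq]; group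

theorem s_zi : d.s * d.z⁻¹ * d.s = d.z2⁻¹ := by
  rw [z2, mul_inv_rev, mul_inv_rev, d.s_inv]; group

theorem s_z2i : d.s * d.z2⁻¹ * d.s = d.z⁻¹ := by
  have := congrArg (·⁻¹) d.s_z2
  simp only [mul_inv_rev, d.s_inv] at this
  rw [← this]; group

theorem three_inv_ne {x : G} (h3 : x ^ 3 = 1) (h1 : x ≠ 1) : x⁻¹ ≠ x := fun h => h1 (by
  rw [inv_eq_iff_mul_eq_one, ← pow_two] at h
  calc x = x ^ 3 := by rw [pow_succ, h, one_mul]
    _ = 1 := h3)

theorem not_reflection {g : G} (hg : InE d g) (hz : g * d.z * g⁻¹ = d.z⁻¹) (hz2 : g * d.z2 * g⁻¹ = d.z2)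
    (hr : d.rho g = 1 ∨ d.rho g = -1) : False := by
  set h := d.s * g * d.s with hh
  have hE : InE d h := (d.inE_s.mul hg).mul d.inE_s
  have hhz : h * d.z * h⁻¹ = d.z := (d.sym_z hz2).trans d.s_z2
  have hhz2 : h * d.z2 * h⁻¹ = d.z2⁻¹ := (d.sym_z2 hz).trans d.s_zi
  have hrh : d.rho h = 1 ∨ d.rho h = -1 := by
    rw [hh, d.rho_mul (d.inE_s.mul hg) d.inE_s, d.rho_mul d.inE_s hg]
    rcases hr with hr | hr <;> rw [hr]
    · exact Or.inl (by rw [mul_one, d.rho_s_sq])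
    · exact Or.inr (by rw [mul_neg, mul_one, neg_mul, d.rho_s_sq])
  have key : ∀ k : G, InE d k → k * d.z * k⁻¹ = d.z → d.rho k = 1 → k * d.z2 * k⁻¹ = d.z2 := by
    intro k hk hkz hkr
    have := d.mem_D_of_rho_one hk (mul_inv_eq_iff_eq_mul.1 hkz) hkr
    rw [d.J_comm k (d.D_le_J this) _ d.z2_mem_J, mul_inv_cancel_right]
  rcases hrh with hr | hr
  · have := key h hE hhz hr
    rw [hhz2] at this
    exact three_inv_ne d.z2_three d.z2_ne this
  · have hE' := hE.mul d.inE_t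
    have e : ∀ x : G, d.t * x * d.t = x → h * d.t * x * (h * d.t)⁻¹ = h * x * h⁻¹ := fun x hx => by
      rw [mul_inv_rev, d.t_inv, show h * d.t * x * (d.t * h⁻¹) = h * (d.t * x * d.t) * h⁻¹ by group, hx]
    have := key _ hE' ((e _ d.t_z).trans hhz) (by rw [d.rho_mul hE d.inE_t, hr, d.rho_t, neg_mul_neg, one_mul])
    rw [e _ d.t_z2, hhz2] at this
    exact three_inv_ne d.z2_three d.z2_ne this

theorem rho_e1_ne : d.rho d.e1 ≠ d.rho d.e ∧ d.rho d.e1 ≠ -d.rho d.e := by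
  have hi := d.rho_inv d.inE_e
  have hE := d.inE_e.inv.mul d.inE_e1
  have hz : d.e⁻¹ * d.e1 * d.z * (d.e⁻¹ * d.e1)⁻¹ = d.z⁻¹ := by
    calc d.e⁻¹ * d.e1 * d.z * (d.e⁻¹ * d.e1)⁻¹ = d.e⁻¹ * (d.e1 * d.z * d.e1⁻¹) * d.e := by group
      _ = (d.e⁻¹ * (d.e * d.z * d.e⁻¹) * d.e)⁻¹ * 1 := by rw [d.e1_z, d.e_inverts.1]; group
      _ = d.z⁻¹ := by group
  have hz2 : d.e⁻¹ * d.e1 * d.z2 * (d.e⁻¹ * d.e1)⁻¹ = d.z2 := by
    calc d.e⁻¹ * d.e1 * d.z2 * (d.e⁻¹ * d.e1)⁻¹ = d.e⁻¹ * (d.e1 * d.z2 * d.e1⁻¹) * d.e := by group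
      _ = d.e⁻¹ * (d.e * d.z2 * d.e⁻¹) * d.e := by rw [d.e1_z2, d.e_inverts.2]
      _ = d.z2 := by group
  constructor <;> intro h <;> refine d.not_reflection hE hz hz2 ?_
  · exact Or.inl (by rw [d.rho_mul d.inE_e.inv d.inE_e1, h, hi.1])
  · exact Or.inr (by rw [d.rho_mul d.inE_e.inv d.inE_e1, h, mul_neg, hi.1])

theorem rho_anti : d.rho d.e * d.rho d.e1 = -(d.rho d.e1 * d.rho d.e) := by
  rcases Plane.pm_or_anti _ _ d.rho_e_sq d.rho_e1_sq with h | h | h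
  · exact absurd h d.rho_e1_ne.1
  · exact absurd h d.rho_e1_ne.2
  · exact h

theorem ses_e : d.s * d.e * d.s * d.e ∈ d.D := by
  have hM := mul_mem (mul_mem (mul_mem d.s_mem d.e_mem) d.s_mem) d.e_mem
  have hE : InE d (d.s * d.e * d.s * d.e) := ((d.inE_s.mul d.inE_e).mul d.inE_s).mul d.inE_e
  refine d.mem_D.2 ⟨?_, ?_⟩
  · rw [← d.img_eq_one hM, d.img_mul (mul_mem (mul_mem d.s_mem d.e_mem) d.s_mem) d.e_mem,
      d.img_mul (mul_mem d.s_mem d.e_mem) d.s_mem, d.img_mul d.s_mem d.e_mem, d.s_img, d.e_img,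
      Six.wbar_ebar, inv_mul_cancel]
  · rw [← hE.comm, mul_assoc, d.t_sq, mul_one]

theorem rho_ses : d.rho d.s * d.rho d.e * d.rho d.s = -d.rho d.e := by
  have h := d.rho_D d.ses_e
  rw [d.rho_mul ((d.inE_s.mul d.inE_e).mul d.inE_s) d.inE_e, d.rho_mul (d.inE_s.mul d.inE_e) d.inE_s,
    d.rho_mul d.inE_s d.inE_e] at h
  calc d.rho d.s * d.rho d.e * d.rho d.s
      = d.rho d.s * d.rho d.e * d.rho d.s * d.rho d.e * (-d.rho d.e) := by
        rw [mul_neg, mul_assoc _ (d.rho d.e) (d.rho d.e), d.rho_e_sq, mul_neg, mul_one, neg_neg]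
    _ = -d.rho d.e := by rw [h, one_mul]

/-- The conjugate `e2` of `e1` inverting `z` and centralising `z2`. -/
noncomputable def e2 : G := d.s * d.e1 * d.s

theorem inE_e2 : InE d d.e2 := (d.inE_s.mul d.inE_e1).mul d.inE_s

theorem e2_z : d.e2 * d.z * d.e2⁻¹ = d.z⁻¹ := (d.sym_z d.e1_z2).trans d.s_z2i

theorem e2_z2 : d.e2 * d.z2 * d.e2⁻¹ = d.z2 := (d.sym_z2 d.e1_z).trans d.s_z

theorem rho_e2 : d.rho d.e2 = d.rho d.e * d.rho d.e1 ∨ d.rho d.e2 = -(d.rho d.e * d.rho d.e1) := by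
  rw [e2, d.rho_mul (d.inE_s.mul d.inE_e1) d.inE_s, d.rho_mul d.inE_s d.inE_e1]
  exact Plane.swap_axes _ d.rho_e_sq _ d.rho_e1_sq d.rho_anti _ d.rho_s_sq d.rho_ses

/-- The commutator of `e1` and `e2` lies in `t D`. -/
theorem e1_e2_comm : d.e1 * d.e2 * d.e1⁻¹ * d.e2⁻¹ * d.t ∈ d.D := by
  have hE := ((d.inE_e1.mul d.inE_e2).mul d.inE_e1.inv).mul d.inE_e2.inv
  have hc : ∀ a b x : G, a * x * a⁻¹ = x → b * x * b⁻¹ = x⁻¹ →
      (a * b * a⁻¹ * b⁻¹) * x * (a * b * a⁻¹ * b⁻¹)⁻¹ = x := by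
    intro a b x ha hb
    have hai : a⁻¹ * x * a = x := by
      calc a⁻¹ * x * a = a⁻¹ * (a * x * a⁻¹) * a := by rw [ha]
        _ = x := by group
    have hbi : b⁻¹ * x * b = x⁻¹ := by
      calc b⁻¹ * x * b = (b⁻¹ * (b * x * b⁻¹) * b)⁻¹ := by rw [hb]; group
        _ = x⁻¹ := by group
    calc _ = a * (b * (a⁻¹ * (b⁻¹ * x * b) * a) * b⁻¹) * a⁻¹ := by group
      _ = a * (b * (a⁻¹ * x * a)⁻¹ * b⁻¹) * a⁻¹ := by rw [hbi]; group
      _ = a * (b * x * b⁻¹)⁻¹ * a⁻¹ := by rw [hai]; group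
      _ = a * x * a⁻¹ := by rw [hb, inv_inv]
      _ = x := ha
  have hz := hc d.e1 d.e2 d.z d.e1_z d.e2_z
  refine d.mem_D_of_rho_one (hE.mul d.inE_t) ?_ ?_
  · rw [← mul_inv_eq_iff_eq_mul, mul_inv_rev, d.t_inv]
    rw [show d.e1 * d.e2 * d.e1⁻¹ * d.e2⁻¹ * d.t * d.z * (d.t * (d.e1 * d.e2 * d.e1⁻¹ * d.e2⁻¹)⁻¹)
      = (d.e1 * d.e2 * d.e1⁻¹ * d.e2⁻¹) * (d.t * d.z * d.t) * (d.e1 * d.e2 * d.e1⁻¹ * d.e2⁻¹)⁻¹ by group,
      d.t_z, hz]
  · rw [d.rho_mul hE d.inE_t, d.rho_mul ((d.inE_e1.mul d.inE_e2).mul d.inE_e1.inv) d.inE_e2.inv,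
      d.rho_mul (d.inE_e1.mul d.inE_e2) d.inE_e1.inv, d.rho_mul d.inE_e1 d.inE_e2, d.rho_t]
    have h1 := d.rho_inv d.inE_e1
    have h2 := d.rho_inv d.inE_e2
    have hx : d.rho d.e1 * d.rho d.e2 = -(d.rho d.e2 * d.rho d.e1) := by
      have hanti : d.rho d.e1 * d.rho d.e = -(d.rho d.e * d.rho d.e1) := by rw [d.rho_anti, neg_neg]
      rcases d.rho_e2 with h | h <;> rw [h]
      · rw [← mul_assoc, hanti, neg_mul]
      · rw [mul_neg, ← mul_assoc, hanti, neg_mul, neg_neg]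
    rw [hx, neg_mul, mul_assoc (d.rho d.e2), h1.2, mul_one, neg_mul, h2.2, neg_mul_neg, one_mul]

/-- The conjugate of `e1` by an element centralising `D` and `t` is, up to sign, `e1` on `W`. -/
theorem conj_e1 {g : G} (hg : InE d g) (hz : g * d.z = d.z * g) (hz2 : g * d.z2 = d.z2 * g) :
    d.rho g * d.rho d.e1 = d.rho d.e1 * d.rho g ∨ d.rho g * d.rho d.e1 = -(d.rho d.e1 * d.rho g) := by
  have hZ : Norms g d.Z := Norms.of_cent fun x hx => d.cent_Z hz hx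
  set h := g * d.e1 * g⁻¹ with hh
  have hhL : h ∈ d.L := d.L_normal g hZ _ d.e1_L
  have hhE : InE d h := (hg.mul d.inE_e1).mul hg.inv
  have hz2L := d.toHyp.S_le_L (d.J_le d.z2_mem_J)
  set x := d.toHyp.sl d.z2 hz2L with hx
  have hgi : g⁻¹ * d.z2 * g = d.z2 := by rw [mul_assoc, ← hz2, inv_mul_cancel_left]
  have hconj : h * d.z2 * h⁻¹ = d.z2⁻¹ := by
    calc h * d.z2 * h⁻¹ = g * (d.e1 * (g⁻¹ * d.z2 * g) * d.e1⁻¹) * g⁻¹ := by rw [hh]; group
      _ = (g * d.z2 * g⁻¹)⁻¹ := by rw [hgi, d.e1_z2]; group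
      _ = d.z2⁻¹ := by rw [hz2, mul_inv_cancel_right]
  have hinv : ∀ (k : G) (hk : k ∈ d.L), k * d.z2 * k⁻¹ = d.z2⁻¹ → d.toHyp.sl k hk * x = x⁻¹ * d.toHyp.sl k hk := by
    intro k hk hkz
    show d.toSL ⟨k, hk⟩ * d.toSL ⟨d.z2, hz2L⟩ = (d.toSL ⟨d.z2, hz2L⟩)⁻¹ * d.toSL ⟨k, hk⟩
    rw [← map_inv, ← map_mul, ← map_mul]
    refine congrArg d.toSL (Subtype.ext ?_)
    show k * d.z2 = d.z2⁻¹ * k
    rw [← hkz]; group
  have hsq : ∀ (k : G) (hk : k ∈ d.L), k * k = d.t → d.toHyp.sl k hk * d.toHyp.sl k hk = -1 := by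
    intro k hk hkk
    rw [← d.toHyp.invol_sl d.t_mem_L d.t_sq d.t_ne]
    show d.toSL ⟨k, hk⟩ * d.toSL ⟨k, hk⟩ = d.toSL ⟨d.t, _⟩
    rw [← map_mul]
    exact congrArg d.toSL (Subtype.ext hkk)
  have hh2 : h * h = d.t := by
    calc h * h = g * (d.e1 * d.e1) * g⁻¹ := by rw [hh]; group
      _ = d.t := by rw [d.e1_sq, hg.comm, mul_inv_cancel_right]
  have hx1 : x ≠ 1 := fun h => d.z2_not_Q ((d.toHyp.sl_eq_one hz2L).1 h)
  have hx3 : x * x * x = 1 := by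
    show d.toSL ⟨d.z2, hz2L⟩ * d.toSL ⟨d.z2, hz2L⟩ * d.toSL ⟨d.z2, hz2L⟩ = 1
    rw [← map_mul, ← map_mul, ← map_one d.toSL]
    refine congrArg d.toSL (Subtype.ext ?_)
    show d.z2 * d.z2 * d.z2 = 1
    rw [← pow_three', d.z2_three]
  have key : ∀ (k : G) (hk : k ∈ d.L), InE d k → d.toHyp.sl h hhL = d.toHyp.sl k hk → d.rho h = d.rho k := by
    intro k hk hkE he
    have hm : k⁻¹ * h ∈ d.Q := by
      rw [← d.toHyp.sl_eq_one (mul_mem (inv_mem hk) hhL)]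
      show d.toSL (⟨k, hk⟩⁻¹ * ⟨h, hhL⟩) = 1
      rw [map_mul, map_inv, show d.toSL ⟨h, hhL⟩ = d.toSL ⟨k, hk⟩ from he, inv_mul_cancel]
    have hD : k⁻¹ * h ∈ d.D := d.S_cent_t (d.Q_le hm) (by
      rw [← (hkE.inv.mul hhE).comm, mul_assoc, d.t_sq, mul_one])
    have := d.rho_mul hkE (d.inE_D hD)
    rw [mul_inv_cancel_left, d.rho_D hD, mul_one] at this
    exact this
  have hz2E := d.inE_D d.z2_D
  have hrz := d.rho_D d.z2_D
  have hrzi := d.rho_D (inv_mem d.z2_D)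
  have hres : d.rho h = d.rho d.e1 ∨ d.rho h = -d.rho d.e1 := by
    have hneg : ∀ (k : G) (hk : k ∈ d.L), d.toHyp.sl (k * d.t) (mul_mem hk d.t_mem_L) = -(d.toHyp.sl k hk) := by
      intro k hk
      show d.toSL (⟨k, hk⟩ * ⟨d.t, d.t_mem_L⟩) = _
      rw [map_mul, show d.toSL ⟨d.t, d.t_mem_L⟩ = -1 from d.toHyp.invol_sl d.t_mem_L d.t_sq d.t_ne, mul_neg, mul_one]
      rfl
    have hmulz : d.toHyp.sl (d.e1 * d.z2) (mul_mem d.e1_L hz2L) = d.toHyp.sl d.e1 d.e1_L * x :=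
      d.toSL.map_mul ⟨d.e1, d.e1_L⟩ ⟨d.z2, hz2L⟩
    have hmulzi : d.toHyp.sl (d.e1 * d.z2⁻¹) (mul_mem d.e1_L (inv_mem hz2L)) = d.toHyp.sl d.e1 d.e1_L * x⁻¹ := by
      show d.toSL (⟨d.e1, d.e1_L⟩ * ⟨d.z2, hz2L⟩⁻¹) = _
      rw [map_mul, map_inv]; rfl
    rcases SLFive.invert_unique x hx3 hx1 _ (hsq _ d.e1_L d.e1_sq) (hinv _ d.e1_L d.e1_z2) _ (hsq h hhL hh2)
      (hinv h hhL hconj) with hc | hc | hc | hc | hc | hc
    · exact Or.inl (key _ d.e1_L d.inE_e1 hc)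
    · left
      rw [key _ _ (d.inE_e1.mul hz2E) (hc.trans hmulz.symm), d.rho_mul d.inE_e1 hz2E, hrz, mul_one]
    · left
      rw [key _ _ (d.inE_e1.mul hz2E.inv) (hc.trans hmulzi.symm), d.rho_mul d.inE_e1 hz2E.inv, hrzi, mul_one]
    · right
      rw [key _ _ (d.inE_e1.mul d.inE_t) (hc.trans (hneg _ d.e1_L).symm), d.rho_mul d.inE_e1 d.inE_t, d.rho_t,
        mul_neg, mul_one]
    · right
      rw [key _ (mul_mem (mul_mem d.e1_L hz2L) d.t_mem_L) ((d.inE_e1.mul hz2E).mul d.inE_t)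
          (hc.trans (by rw [hneg _ (mul_mem d.e1_L hz2L), hmulz])),
        d.rho_mul (d.inE_e1.mul hz2E) d.inE_t, d.rho_mul d.inE_e1 hz2E, hrz, mul_one, d.rho_t, mul_neg, mul_one]
    · right
      rw [key _ (mul_mem (mul_mem d.e1_L (inv_mem hz2L)) d.t_mem_L) ((d.inE_e1.mul hz2E.inv).mul d.inE_t)
          (hc.trans (by rw [hneg _ (mul_mem d.e1_L (inv_mem hz2L)), hmulzi])),
        d.rho_mul (d.inE_e1.mul hz2E.inv) d.inE_t, d.rho_mul d.inE_e1 hz2E.inv, hrzi, mul_one, d.rho_t, mul_neg,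
        mul_one]
  have e : d.rho g * d.rho d.e1 = d.rho h * d.rho g := by
    rw [← d.rho_mul hg d.inE_e1, ← d.rho_mul hhE hg, hh, inv_mul_cancel_right]
  rcases hres with hr | hr <;> rw [hr] at e
  · exact Or.inl e
  · exact Or.inr (by rw [e, neg_mul])

/-- On `W` an element centralising `D` and `t` is `±1` or `±ρ(e)`. -/
theorem cent_D_rho {g : G} (hg : InE d g) (hz : g * d.z = d.z * g) (hz2 : g * d.z2 = d.z2 * g) :
    d.rho g = 1 ∨ d.rho g = -1 ∨ d.rho g = d.rho d.e ∨ d.rho g = -d.rho d.e := by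
  set g' := d.s * g * d.s with hg'
  have hg'E : InE d g' := (d.inE_s.mul hg).mul d.inE_s
  have h1z : g * d.z * g⁻¹ = d.z := by rw [hz, mul_inv_cancel_right]
  have h1z2 : g * d.z2 * g⁻¹ = d.z2 := by rw [hz2, mul_inv_cancel_right]
  have hz' : g' * d.z = d.z * g' := mul_inv_eq_iff_eq_mul.1 ((d.sym_z h1z2).trans d.s_z2)
  have hz2' : g' * d.z2 = d.z2 * g' := mul_inv_eq_iff_eq_mul.1 ((d.sym_z2 h1z).trans d.s_z)
  have hs := d.rho_s_sq
  have hr' : d.rho g' = d.rho d.s * d.rho g * d.rho d.s := by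
    rw [hg', d.rho_mul (d.inE_s.mul hg) d.inE_s, d.rho_mul d.inE_s hg]
  have hA := d.conj_e1 hg hz hz2
  have hB : d.rho g * d.rho d.e2 = d.rho d.e2 * d.rho g ∨ d.rho g * d.rho d.e2 = -(d.rho d.e2 * d.rho g) := by
    have h2 : d.rho d.e2 = d.rho d.s * d.rho d.e1 * d.rho d.s := by
      rw [e2, d.rho_mul (d.inE_s.mul d.inE_e1) d.inE_s, d.rho_mul d.inE_s d.inE_e1]
    have e1 : d.rho g * d.rho d.e2 = d.rho d.s * (d.rho g' * d.rho d.e1) * d.rho d.s := by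
      rw [hr', h2]
      simp only [← mul_assoc]
      rw [hs, one_mul]
    have e2' : d.rho d.e2 * d.rho g = d.rho d.s * (d.rho d.e1 * d.rho g') * d.rho d.s := by
      rw [hr', h2]
      simp only [mul_assoc]
      rw [hs, mul_one]
    rcases d.conj_e1 hg'E hz' hz2' with h | h
    · exact Or.inl (by rw [e1, e2', h])
    · exact Or.inr (by rw [e1, e2', h, mul_neg, neg_mul])
  have hB' : d.rho g * (d.rho d.e * d.rho d.e1) = d.rho d.e * d.rho d.e1 * d.rho g ∨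
      d.rho g * (d.rho d.e * d.rho d.e1) = -(d.rho d.e * d.rho d.e1 * d.rho g) := by
    rcases d.rho_e2 with h | h <;> rw [h] at hB
    · exact hB
    · simpa only [mul_neg, neg_mul, neg_inj] using hB
  -- exclude `±ρ(e1)`
  have hexcl : ∀ k : G, InE d k → k * d.z * k⁻¹ = d.z → k * d.z2 * k⁻¹ = d.z2 →
      d.rho k ≠ d.rho d.e1 ∧ d.rho k ≠ -d.rho d.e1 := by
    intro k hk hkz hkz2
    have hi := d.rho_inv d.inE_e1
    have hE := d.inE_e1.inv.mul hk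
    have hez : d.e1⁻¹ * k * d.z * (d.e1⁻¹ * k)⁻¹ = d.z := by
      calc d.e1⁻¹ * k * d.z * (d.e1⁻¹ * k)⁻¹ = d.e1⁻¹ * (k * d.z * k⁻¹) * d.e1 := by group
        _ = d.e1⁻¹ * (d.e1 * d.z * d.e1⁻¹) * d.e1 := by rw [hkz, d.e1_z]
        _ = d.z := by group
    have hez2 : d.e1⁻¹ * k * d.z2 * (d.e1⁻¹ * k)⁻¹ = d.z2⁻¹ := by
      calc d.e1⁻¹ * k * d.z2 * (d.e1⁻¹ * k)⁻¹ = d.e1⁻¹ * (k * d.z2 * k⁻¹) * d.e1 := by group
        _ = (d.e1⁻¹ * (d.e1 * d.z2 * d.e1⁻¹) * d.e1)⁻¹ := by rw [hkz2, d.e1_z2]; group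
        _ = d.z2⁻¹ := by group
    have hkey : d.rho (d.e1⁻¹ * k) = 1 ∨ d.rho (d.e1⁻¹ * k) = -1 → False := by
      intro h
      rcases h with h | h
      · have hD := d.mem_D_of_rho_one hE (mul_inv_eq_iff_eq_mul.1 hez) h
        rw [d.J_comm _ (d.D_le_J hD) _ d.z2_mem_J, mul_inv_cancel_right] at hez2
        exact three_inv_ne d.z2_three d.z2_ne hez2.symm
      · have hD := d.mem_D_of_rho_one (hE.mul d.inE_t) (mul_inv_eq_iff_eq_mul.1 (by
          rw [mul_inv_rev, d.t_inv, show d.e1⁻¹ * k * d.t * d.z * (d.t * (d.e1⁻¹ * k)⁻¹)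
            = d.e1⁻¹ * k * (d.t * d.z * d.t) * (d.e1⁻¹ * k)⁻¹ by group, d.t_z, hez]))
          (by rw [d.rho_mul hE d.inE_t, h, d.rho_t, neg_mul_neg, one_mul])
        have h' := d.J_comm _ (d.D_le_J hD) _ d.z2_mem_J
        rw [← mul_inv_eq_iff_eq_mul, mul_inv_rev, d.t_inv,
          show d.e1⁻¹ * k * d.t * d.z2 * (d.t * (d.e1⁻¹ * k)⁻¹)
            = d.e1⁻¹ * k * (d.t * d.z2 * d.t) * (d.e1⁻¹ * k)⁻¹ by group, d.t_z2, hez2] at h'
        exact three_inv_ne d.z2_three d.z2_ne h'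
    constructor <;> intro h <;> apply hkey
    · exact Or.inl (by rw [d.rho_mul d.inE_e1.inv hk, h, hi.1])
    · exact Or.inr (by rw [d.rho_mul d.inE_e1.inv hk, h, mul_neg, hi.1])
  obtain ⟨n1, n2⟩ := hexcl g hg h1z h1z2
  obtain ⟨n3, n4⟩ := hexcl g' hg'E ((d.sym_z h1z2).trans d.s_z2) ((d.sym_z2 h1z).trans d.s_z)
  have hr2 : d.rho d.s * (d.rho d.e * d.rho d.e1) * d.rho d.s = d.rho d.e1 ∨
      d.rho d.s * (d.rho d.e * d.rho d.e1) * d.rho d.s = -d.rho d.e1 := by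
    have h2 : d.rho d.s * d.rho d.e2 * d.rho d.s = d.rho d.e1 := by
      rw [e2, d.rho_mul (d.inE_s.mul d.inE_e1) d.inE_s, d.rho_mul d.inE_s d.inE_e1]
      simp only [← mul_assoc]
      rw [hs, one_mul, mul_assoc, hs, mul_one]
    rcases d.rho_e2 with h | h <;> rw [h] at h2
    · exact Or.inl h2
    · right
      rw [mul_neg, neg_mul, neg_eq_iff_eq_neg] at h2
      exact h2
  rcases Plane.mem_q8 _ d.rho_e_sq _ d.rho_e1_sq d.rho_anti _ (d.rho_det hg) hA hB' with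
    h | h | h | h | h | h | h | h
  · exact Or.inl h
  · exact Or.inr (Or.inl h)
  · exact Or.inr (Or.inr (Or.inl h))
  · exact Or.inr (Or.inr (Or.inr h))
  · exact absurd h n1
  · exact absurd h n2
  · exfalso
    rw [h] at hr'
    rcases hr2 with hr2 | hr2 <;> rw [hr2] at hr'
    exacts [n3 hr', n4 hr']
  · exfalso
    rw [h, mul_neg, neg_mul] at hr'
    rcases hr2 with hr2 | hr2 <;> rw [hr2] at hr'
    exacts [n4 hr', n3 (by rw [hr', neg_neg])]

/-- Reduction of a member of `E` to the centraliser of `D`. -/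
theorem E_reduce {g : G} (hg : InE d g) : ∃ a ∈ ({1, d.s} : Set G), ∃ b ∈ ({1, d.e} : Set G),
    ∃ c ∈ ({1, d.e1} : Set G), ∃ k : G, InE d k ∧ k * d.z = d.z * k ∧ k * d.z2 = d.z2 * k ∧
      g = a * b * c * k := by
  have hfix : ∀ {x : G}, x ∈ d.D → InE d g → d.t * (g * x * g⁻¹) * d.t = g * x * g⁻¹ := by
    intro x hx hE
    exact (d.mem_D.1 (hE.normD x hx)).2
  obtain ⟨a, ha, h1E, h1z⟩ : ∃ a ∈ ({1, d.s} : Set G), InE d (a⁻¹ * g) ∧
      ((a⁻¹ * g) * d.z * (a⁻¹ * g)⁻¹ = d.z ∨ (a⁻¹ * g) * d.z * (a⁻¹ * g)⁻¹ = d.z⁻¹) := by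
    rcases d.zconj hg.normJ (hfix d.z_D hg) with h | h | h | h
    · exact ⟨1, Or.inl rfl, by simpa using hg, by simpa using Or.inl h⟩
    · exact ⟨1, Or.inl rfl, by simpa using hg, by simpa using Or.inr h⟩
    · refine ⟨d.s, Or.inr rfl, d.inE_s.inv.mul hg, Or.inl ?_⟩
      rw [d.s_inv, mul_inv_rev, d.s_inv, show d.s * g * d.z * (g⁻¹ * d.s) = d.s * (g * d.z * g⁻¹) * d.s by group,
        h, d.s_z2]
    · refine ⟨d.s, Or.inr rfl, d.inE_s.inv.mul hg, Or.inr ?_⟩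
      rw [d.s_inv, mul_inv_rev, d.s_inv, show d.s * g * d.z * (g⁻¹ * d.s) = d.s * (g * d.z * g⁻¹) * d.s by group,
        h, d.s_z2i]
  set g1 := a⁻¹ * g with hg1
  obtain ⟨b, hb, h2E, h2z⟩ : ∃ b ∈ ({1, d.e} : Set G), InE d (b⁻¹ * g1) ∧ (b⁻¹ * g1) * d.z * (b⁻¹ * g1)⁻¹ = d.z := by
    rcases h1z with h | h
    · exact ⟨1, Or.inl rfl, by simpa using h1E, by simpa using h⟩
    · refine ⟨d.e, Or.inr rfl, d.inE_e.inv.mul h1E, ?_⟩
      calc d.e⁻¹ * g1 * d.z * (d.e⁻¹ * g1)⁻¹ = d.e⁻¹ * (g1 * d.z * g1⁻¹) * d.e := by group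
        _ = d.e⁻¹ * (d.e * d.z * d.e⁻¹) * d.e := by rw [h, d.e_inverts.1]
        _ = d.z := by group
  set g2 := b⁻¹ * g1 with hg2
  have hg2z2 : g2 * d.z2 * g2⁻¹ = d.z2 ∨ g2 * d.z2 * g2⁻¹ = d.z2⁻¹ := by
    have hE' := h2E.mul d.inE_s
    have e : g2 * d.s * d.z * (g2 * d.s)⁻¹ = g2 * d.z2 * g2⁻¹ := by rw [mul_inv_rev, d.s_inv, z2]; group
    have hne : g2 * d.z2 * g2⁻¹ ≠ d.z ∧ g2 * d.z2 * g2⁻¹ ≠ d.z⁻¹ := by
      constructor <;> intro h
      · apply d.z2_not_Z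
        have : d.z2 = d.z := mul_left_cancel (mul_right_cancel (h.trans h2z.symm))
        rw [this]; exact d.z_mem
      · apply d.z2_not_Z
        have h' : g2 * d.z2 * g2⁻¹ = g2 * d.z⁻¹ * g2⁻¹ := by
          rw [h]; conv_lhs => rw [← h2z]
          group
        rw [mul_left_cancel (mul_right_cancel h')]
        exact inv_mem d.z_mem
    have hc : d.t * (g2 * d.s * d.z * (g2 * d.s)⁻¹) * d.t = g2 * d.s * d.z * (g2 * d.s)⁻¹ :=
      (d.mem_D.1 (hE'.normD _ d.z_D)).2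
    rcases d.zconj hE'.normJ hc with h | h | h | h <;> rw [e] at h
    · exact absurd h hne.1
    · exact absurd h hne.2
    · exact Or.inl h
    · exact Or.inr h
  rcases hg2z2 with h | h
  · refine ⟨a, ha, b, hb, 1, Or.inl rfl, g2, h2E, mul_inv_eq_iff_eq_mul.1 h2z, mul_inv_eq_iff_eq_mul.1 h, ?_⟩
    rw [hg2, hg1]; group
  · refine ⟨a, ha, b, hb, d.e1, Or.inr rfl, d.e1⁻¹ * g2, d.inE_e1.inv.mul h2E, ?_, ?_, ?_⟩
    · refine mul_inv_eq_iff_eq_mul.1 ?_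
      calc d.e1⁻¹ * g2 * d.z * (d.e1⁻¹ * g2)⁻¹ = d.e1⁻¹ * (g2 * d.z * g2⁻¹) * d.e1 := by group
        _ = d.e1⁻¹ * (d.e1 * d.z * d.e1⁻¹) * d.e1 := by rw [h2z, d.e1_z]
        _ = d.z := by group
    · refine mul_inv_eq_iff_eq_mul.1 ?_
      calc d.e1⁻¹ * g2 * d.z2 * (d.e1⁻¹ * g2)⁻¹ = d.e1⁻¹ * (g2 * d.z2 * g2⁻¹) * d.e1 := by group
        _ = d.e1⁻¹ * (d.e1 * d.z2 * d.e1⁻¹) * d.e1 := by rw [h, d.e1_z2]
        _ = d.z2 := by group
    · rw [hg2, hg1]; group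

end Std

end Cfsg.Agent.Lib.McL3Local35
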