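import Mathlib

/-!
# Facts about `SL(2,5)`
-/

set_option autoImplicit false
set_option maxRecDepth 100000
set_option synthInstance.maxSize 4000

namespace Cfsg.Agent.Lib.McL3Local35.SLFive

abbrev SL := Matrix.SpecialLinearGroup (Fin 2) (ZMod 5)

theorem involution : ∀ M : SL, M * M = 1 → M = 1 ∨ M = -1 := by decide +kernel

theorem exists_invert : ∀ x : SL, x * x * x = 1 → x ≠ 1 → ∃ g : SL, g * g = -1 ∧ g * x = x⁻¹ * g := by
  decide +kernel

theorem invert_unique : ∀ x : SL, x * x * x = 1 → x ≠ 1 → ∀ g : SL, g * g = -1 → g * x = x⁻¹ * g →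
    ∀ h : SL, h * h = -1 → h * x = x⁻¹ * h →
      h = g ∨ h = g * x ∨ h = g * x⁻¹ ∨ h = -g ∨ h = -(g * x) ∨ h = -(g * x⁻¹) := by
  decide +kernel

theorem pair_five : ∀ x : SL, x * x * x = 1 → x ≠ 1 →
    ∃ g : SL, (x * (g * x * g⁻¹)) ^ 10 = 1 ∧ (x * (g * x * g⁻¹)) ^ 2 ≠ 1 := by
  decide +kernel

theorem pair_four : ∀ x : SL, x * x * x = 1 → x ≠ 1 → ∃ g : SL, (x * (g * x * g⁻¹)) ^ 2 = -1 := by
  decide +kernel

theorem exists_three : ∃ x : SL, x * x * x = 1 ∧ x ≠ 1 := by decide +kernel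

theorem center_pm : ∀ M : SL, (∀ x : SL, x * x * x = 1 → M * x = x * M) → M = 1 ∨ M = -1 := by
  decide +kernel

theorem is_commutator : ∀ M : SL, ∃ a b : SL, M = a * b * a⁻¹ * b⁻¹ := by decide +kernel

theorem neg_one_ne : (-1 : SL) ≠ 1 := by decide +kernel

end Cfsg.Agent.Lib.McL3Local35.SLFive
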