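import Mathlib

/-!
# Facts about the alternating group of degree six

`p1`, `p2` generate a Sylow 3-subgroup `P`, `ebar` of order four normalises it, its square inverts it and
`wbar` is an involution inverting `ebar`. A table of words shows that a subgroup containing `ebar` and
another element contains `wbar`, `p1`, or the conjugate of `p1` by `wbar`.
-/

set_option autoImplicit false
set_option maxRecDepth 100000
set_option synthInstance.maxSize 4000
set_option synthInstance.maxHeartbeats 200000

namespace Cfsg.Agent.Lib.McL3Local35.Six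

abbrev A6 := alternatingGroup (Fin 6)

def mk (f g : Fin 6 → Fin 6) (h1 : ∀ i, g (f i) = i := by decide) (h2 : ∀ i, f (g i) = i := by decide)
    (h3 : Equiv.Perm.sign (⟨f, g, h1, h2⟩ : Equiv.Perm (Fin 6)) = 1 := by decide +kernel) : A6 :=
  ⟨⟨f, g, h1, h2⟩, Equiv.Perm.mem_alternatingGroup.2 h3⟩

def p1 : A6 := mk ![1, 2, 0, 3, 4, 5] ![2, 0, 1, 3, 4, 5]
def p2 : A6 := mk ![0, 1, 2, 4, 5, 3] ![0, 1, 2, 5, 3, 4]
def ebar : A6 := mk ![3, 4, 5, 1, 0, 2] ![4, 3, 5, 0, 1, 2]
def tbar : A6 := mk ![1, 0, 2, 4, 3, 5] ![1, 0, 2, 4, 3, 5]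
def wbar : A6 := mk ![0, 1, 5, 4, 3, 2] ![0, 1, 5, 4, 3, 2]

def InP (x : A6) : Prop :=
  x = 1 ∨ x = p1 ∨ x = p1⁻¹ ∨ x = p2 ∨ x = p2⁻¹ ∨ x = p1 * p2 ∨ x = p1 * p2⁻¹ ∨ x = p1⁻¹ * p2 ∨
    x = p1⁻¹ * p2⁻¹

instance : DecidablePred InP := fun x => by unfold InP; infer_instance

def InN (x : A6) : Prop := InP (x * p1 * x⁻¹) ∧ InP (x * p2 * x⁻¹)

instance : DecidablePred InN := fun x => by unfold InN; infer_instance

theorem inP_closed : ∀ x : A6, InP x → ∀ y : A6, InP y → InP (x * y) ∧ InP x⁻¹ ∧ x * y = y * x := by
  decide +kernel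

/-- The Sylow 3-subgroup. -/
def P : Subgroup A6 where
  carrier := {x | InP x}
  one_mem' := Or.inl rfl
  mul_mem' := fun {x y} hx hy => (inP_closed x hx y hy).1
  inv_mem' := fun {x} hx => (inP_closed x hx x hx).2.1

theorem mem_P {x : A6} : x ∈ P ↔ InP x := Iff.rfl

theorem card_P : Nat.card P = 9 := by
  rw [show Nat.card P = Nat.card {x : A6 // InP x} from rfl, Nat.card_eq_fintype_card]
  decide +kernel

theorem ebar_sq : ebar * ebar = tbar := by decide +kernel
theorem tbar_sq : tbar * tbar = 1 := by decide +kernel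
theorem tbar_ne : tbar ≠ 1 := by decide +kernel
theorem wbar_sq : wbar * wbar = 1 := by decide +kernel
theorem wbar_comm : wbar * tbar = tbar * wbar := by decide +kernel
theorem wbar_ebar : wbar * ebar * wbar = ebar⁻¹ := by decide +kernel
theorem ebar_norm : InN ebar := by decide +kernel
theorem wbar_not : ¬ InN wbar := by decide +kernel
theorem ebar_p1 : ebar * p1 * ebar⁻¹ = p2 := by decide +kernel

theorem tbar_invert : ∀ x : A6, InP x → tbar * x * tbar⁻¹ = x⁻¹ := by decide +kernel

theorem ebar_no_fix : ∀ x : A6, InP x → ebar * x * ebar⁻¹ = x → x = 1 := by decide +kernel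

theorem ebar_no_line : ∀ x : A6, InP x → ebar * x * ebar⁻¹ = x⁻¹ → x = 1 := by decide +kernel

theorem conj_tbar : ∀ g : A6, InN (g⁻¹ * tbar * g) → InN g ∨ InN (wbar * g) := by decide +kernel

theorem involution_conj : ∀ x : A6, x * x = 1 → x ≠ 1 → ∃ g : A6, g * tbar = x * g := by decide +kernel

theorem not_normalised : ∀ r : A6, r * r * r = 1 → r ≠ 1 →
    ¬ (r * (ebar * r * ebar⁻¹) = ebar * r * ebar⁻¹ * r ∧ r * (wbar * r * wbar⁻¹) = wbar * r * wbar⁻¹ * r) := by
  decide +kernel

theorem three_of_norm : ∀ g : A6, InN g → g * g * g = 1 → InP g := by decide +kernel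

theorem inN_of_conj : ∀ g : A6, (∀ x : A6, InP x → InP (g * x * g⁻¹)) → InN g := fun g h =>
  ⟨h p1 (Or.inr (Or.inl rfl)), h p2 (Or.inr (Or.inr (Or.inr (Or.inl rfl))))⟩

/-- The letters of the words of the table. -/
def letters (g : A6) : List A6 :=
  [ebar, g, g⁻¹, g * g, g * ebar * g⁻¹, g⁻¹ * ebar * g, g * ebar⁻¹ * g⁻¹, g⁻¹ * ebar⁻¹ * g, ebar⁻¹]

/-- A word coded in base sixteen. -/
def evalW (g : A6) : ℕ → ℕ → A6
  | 0, _ => 1
  | fuel + 1, w => if w = 0 then 1 else (letters g).getD (w % 16 - 1) 1 * evalW g fuel (w / 16)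

def code (g : A6) : ℕ := (List.ofFn fun i : Fin 6 => ((g : Equiv.Perm (Fin 6)) i).val).foldl (fun a b => a * 6 + b) 0

def table : List (ℕ × ℕ) := [
  (1905, 2353), (1930, 2337), (2050, 21777), (2105, 2353), (2150, 5457), (2255, 2337), (2300, 28951), (2355, 21777),
  (2475, 5457), (2500, 28951), (2540, 2), (2950, 149), (2975, 529), (3015, 23), (3305, 1426), (3415, 84),
  (3430, 2422), (3525, 344), (3575, 1810), (3655, 116), (3730, 1382), (3805, 38677), (3825, 1894), (4205, 1683),
  (4280, 1621), (4300, 359), (4390, 612722), (4475, 1633), (4525, 1683), (4805, 612722), (4855, 359), (4940, 38),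
  (5030, 1810), (5050, 38), (5125, 1621), (5505, 2437), (5525, 2067), (5600, 2133), (5675, 1361), (5755, 2067),
  (5805, 94497), (5900, 53), (5915, 94497), (6025, 2437), (6315, 53), (6355, 2133), (6380, 1361), (6790, 116),
  (6830, 38677), (6855, 84), (6975, 1426), (7030, 1810), (7075, 529), (7180, 344), (7225, 23), (7280, 1894),
  (7400, 1382), (7425, 2422), (7465, 149), (8350, 289), (8415, 1298), (8525, 1298), (8600, 1413), (8620, 4),
  (8745, 4), (8765, 289), (8840, 1413), (8950, 1413), (8990, 529), (9015, 1413), (10505, 2), (10545, 113),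
  (10570, 103), (11050, 1651), (11165, 789), (11220, 81), (11255, 1847), (11370, 152), (11415, 2097), (11475, 30834),
  (11560, 30801), (11610, 1362), (11770, 1409), (11825, 2195), (11870, 21009), (12125, 82), (12270, 2195), (12280, 26401),
  (12560, 28946), (12605, 26401), (12720, 1409), (12760, 28946), (12840, 21009), (12890, 20), (13055, 1555), (13100, 29201),
  (13155, 311), (13425, 28993), (13505, 114), (13590, 1555), (13625, 28993), (13710, 311), (13790, 20754), (14060, 65),
  (14115, 20754), (14160, 29201), (14355, 81), (14380, 152), (14420, 1362), (14710, 1847), (14820, 2), (14835, 789),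
  (14930, 30834), (14980, 2097), (15060, 113), (15135, 1651), (15210, 103), (15230, 30801), (15905, 3), (15945, 23),
  (15970, 129), (16270, 1649), (16355, 1298), (16405, 97), (16475, 1938), (16555, 151), (16605, 296), (16695, 25361),
  (16750, 33553), (16795, 1635), (16990, 89), (17015, 274), (17055, 113), (17525, 1891), (17670, 81), (17680, 1657),
  (17745, 2129), (17825, 1411), (17910, 97), (17950, 1637), (18060, 21777), (18075, 1639), (19505, 463377), (19615, 641),
  (19630, 129), (19690, 149), (19805, 1682), (19860, 389), (20315, 26129), (20370, 121), (20485, 97), (20545, 9777),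
  (20560, 114), (20670, 30226), (20805, 113), (20855, 365073), (20935, 1618), (20975, 2066), (21090, 2069), (21135, 129),
  (21415, 21), (21425, 26129), (21570, 81), (21825, 82), (21870, 22674), (21925, 38689), (22090, 881), (22165, 85),
  (22185, 1379), (22275, 1649), (22360, 1559), (22410, 85), (22690, 102), (22740, 374), (22825, 2129), (22915, 370),
  (22935, 102), (23010, 1814), (23650, 1410), (23705, 2088), (23750, 6162), (23825, 114), (23935, 2088), (23950, 25985),
  (24260, 33043), (24275, 25985), (24385, 1410), (24460, 33043), (24505, 6162), (24560, 65), (24725, 2130), (24800, 1366),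
  (24820, 1889), (25090, 618866), (25205, 1361), (25260, 2130), (25505, 618866), (25590, 1889), (25670, 114), (25730, 1361),
  (25780, 114), (25860, 1366), (25990, 150), (26075, 1811), (26125, 1409), (26165, 71058), (26310, 1618), (26320, 149),
  (26815, 151), (26825, 5716), (26970, 22), (27010, 33), (27060, 2164), (27145, 35154), (28565, 21777), (28615, 85),
  (28700, 146), (28760, 49), (28805, 25921), (28920, 85), (28955, 18), (29010, 21777), (29125, 25921), (29605, 49),
  (29670, 146), (29870, 2164), (29890, 22), (29965, 1618), (30040, 151), (30120, 1409), (30170, 35154), (30265, 71058),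
  (30280, 5716), (30390, 1811), (30680, 33), (30720, 150), (30745, 149), (31415, 534), (31460, 34657), (31515, 1825),
  (31605, 22577), (31655, 82), (31735, 534), (31805, 22577), (31855, 1825), (31940, 24851), (32240, 20), (32265, 24851),
  (32305, 34657), (32505, 1417), (32525, 1650), (32600, 1368), (32855, 1633), (32970, 1650), (33015, 88353), (33080, 82),
  (33125, 88353), (33240, 1417), (33495, 82), (33570, 1368), (33590, 1810), (33755, 1427), (33835, 1304), (33885, 113),
  (33945, 150), (34025, 71442), (34110, 1889), (34355, 5457), (34410, 81), (34525, 21), (34795, 24946), (34815, 130),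
  (34890, 1620), (35060, 18), (35075, 21777), (35185, 85), (35225, 26516), (35310, 85), (35390, 115), (35455, 26516),
  (35465, 33), (35610, 21777), (36120, 18), (36145, 115), (37635, 81), (37675, 1889), (37700, 1620), (37820, 24946),
  (37875, 21), (37920, 1304), (38025, 5457), (38070, 1427), (38125, 71442), (38245, 150), (38270, 130), (38310, 113),
  (39195, 97), (39220, 151), (39260, 1635), (39370, 1938), (39445, 3), (39465, 1298), (39590, 25361), (39610, 296),
  (39685, 23), (39795, 1649), (39835, 129), (39860, 33553), (40270, 97), (40310, 21777), (40335, 81), (40635, 1891),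
  (40720, 1411), (40770, 274), (40840, 2129), (40920, 113), (40970, 1639), (41060, 1637), (41115, 1657), (41160, 89),
  (41535, 374), (41590, 1814), (41635, 85), (41710, 370), (41820, 85), (41835, 2129), (42145, 1649), (42160, 102),
  (42270, 1379), (42345, 102), (42390, 881), (42445, 1559), (42820, 121), (42865, 389), (42920, 30226), (43010, 9777),
  (43060, 97), (43140, 641), (43210, 26129), (43260, 463377), (43345, 1682), (43645, 149), (43670, 114), (43710, 129),
  (44120, 22674), (44145, 81), (44185, 2069), (44295, 21), (44370, 1618), (44390, 38689), (44515, 2066), (44535, 26129),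
  (44610, 365073), (44720, 82), (44760, 113), (44785, 129)]

def word (g : A6) : ℕ := ((table.find? fun e => e.1 == code g).map Prod.snd).getD 0

theorem table_ok : ∀ g : A6, (g = 1 ∨ g = ebar ∨ g = tbar ∨ g = ebar⁻¹) ∨
    (evalW g 8 (word g) = wbar ∨ evalW g 8 (word g) = p1 ∨ evalW g 8 (word g) = wbar * p1 * wbar⁻¹) := by
  decide +kernel

/-- A subgroup with `ebar` and an element outside `⟨ebar⟩` contains `wbar`, `p1` or `wbar p1 wbar`. -/
theorem mem_cases (K : Subgroup A6) (he : ebar ∈ K) {g : A6} (hg : g ∈ K) :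
    (g = 1 ∨ g = ebar ∨ g = tbar ∨ g = ebar⁻¹) ∨ wbar ∈ K ∨ p1 ∈ K ∨ wbar * p1 * wbar⁻¹ ∈ K := by
  have hl : ∀ x ∈ letters g, x ∈ K := by
    intro x hx
    have e1 := K.inv_mem hg
    have e2 := K.inv_mem he
    simp only [letters, List.mem_cons, List.not_mem_nil, or_false] at hx
    rcases hx with rfl | rfl | rfl | rfl | rfl | rfl | rfl | rfl | rfl
    · exact he
    · exact hg
    · exact e1
    · exact mul_mem hg hg
    · exact mul_mem (mul_mem hg he) e1
    · exact mul_mem (mul_mem e1 he) hg
    · exact mul_mem (mul_mem hg e2) e1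
    · exact mul_mem (mul_mem e1 e2) hg
    · exact e2
  have hw : ∀ n w : ℕ, evalW g n w ∈ K := by
    intro n
    induction n with
    | zero => exact fun w => one_mem K
    | succ n ih =>
      intro w
      unfold evalW
      split
      · exact one_mem K
      · refine mul_mem ?_ (ih _)
        rw [List.getD_eq_getElem?_getD]
        cases h : (letters g)[w % 16 - 1]? with
        | none => exact one_mem K
        | some x => exact hl x (List.mem_of_getElem? h)
  rcases table_ok g with h | h | h | h
  · exact Or.inl h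
  · exact Or.inr (Or.inl (h ▸ hw 8 (word g)))
  · exact Or.inr (Or.inr (Or.inl (h ▸ hw 8 (word g))))
  · exact Or.inr (Or.inr (Or.inr (h ▸ hw 8 (word g))))

end Cfsg.Agent.Lib.McL3Local35.Six
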