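import Cfsg.Agent.Lib.McL3Local35.Tools
import Cfsg.Agent.Lib.McL3Local35.SLFive
import Cfsg.Agent.Lib.McL3Local35.Six

/-!
# The hypotheses and the weak closure of `J`

`Q` is extraspecial of order `3⁵` with `L₀/Q = SL(2,5)`, `J` is abelian of order `3⁴` inside a Sylow
3-subgroup `S` of order `3⁶`.  Then `J` is the unique abelian subgroup of order 81 of `S` and is its own
centraliser.
-/

set_option autoImplicit false

namespace Cfsg.Agent.Lib.McL3Local35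

open Subgroup

/-- `g` normalises `U`. -/
def Norms {G : Type*} [Group G] (g : G) (U : Subgroup G) : Prop := ∀ u ∈ U, g * u * g⁻¹ ∈ U

/-- The facts used of the hypotheses. -/
structure Hyp (G : Type*) [Group G] [Finite G] where
  S : Subgroup G
  Z : Subgroup G
  Q : Subgroup G
  J : Subgroup G
  L : Subgroup G
  M : Subgroup G
  toSL : L →* SLFive.SL
  toA : M →* Six.A6
  S_card : Nat.card S = 729
  S_sylow : ∀ P : Subgroup G, IsPGroup 3 P → ∃ g : G, ∀ x ∈ P, g * x * g⁻¹ ∈ S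
  Z_le : Z ≤ Q
  Z_card : Nat.card Z = 3
  Z_center : ∀ z ∈ S, (∀ s ∈ S, s * z = z * s) → z ∈ Z
  Z_central : ∀ z ∈ Z, ∀ s ∈ S, s * z = z * s
  Q_le : Q ≤ S
  Q_card : Nat.card Q = 243
  Q_exp : ∀ a ∈ Q, a ^ 3 = 1
  Q_comm : ∀ a ∈ Q, ∀ b ∈ Q, a * b * a⁻¹ * b⁻¹ ∈ Z
  Q_center : ∀ a ∈ Q, (∀ b ∈ Q, b * a = a * b) → a ∈ Z
  Q_norm : ∀ g : G, Norms g Z → Norms g Q
  Q_self : ∀ g : G, (∀ q ∈ Q, g * q = q * g) → g ∈ Q
  J_le : J ≤ S
  J_card : Nat.card J = 81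
  J_exp : ∀ a ∈ J, a ^ 3 = 1
  J_comm : ∀ a ∈ J, ∀ b ∈ J, a * b = b * a
  Q_le_L : Q ≤ L
  L_norms : ∀ g ∈ L, Norms g Z
  L_three : ∀ g : G, Norms g Z → (∃ k : ℕ, orderOf g = 3 ^ k) → g ∈ L
  L_cent : ∀ g ∈ L, ∀ z ∈ Z, g * z = z * g
  L_normal : ∀ g : G, Norms g Z → Norms g L
  toSL_surj : Function.Surjective toSL
  toSL_ker : ∀ x : L, toSL x = 1 ↔ (x : G) ∈ Q
  J_le_M : J ≤ M
  M_norms : ∀ g ∈ M, Norms g J
  M_three : ∀ g : G, Norms g J → (∃ k : ℕ, orderOf g = 3 ^ k) → g ∈ M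
  M_normal : ∀ g : G, Norms g J → Norms g M
  toA_surj : Function.Surjective toA
  toA_ker : ∀ x : M, toA x = 1 ↔ (x : G) ∈ J

section Norms

variable {G : Type*} [Group G]

theorem Norms.mul {g h : G} {U : Subgroup G} (hg : Norms g U) (hh : Norms h U) : Norms (g * h) U := fun u hu => by
  have : g * h * u * (g * h)⁻¹ = g * (h * u * h⁻¹) * g⁻¹ := by group
  rw [this]; exact hg _ (hh _ hu)

theorem Norms.of_mem {g : G} {U : Subgroup G} (hg : g ∈ U) : Norms g U := fun u hu =>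
  mul_mem (mul_mem hg hu) (inv_mem hg)

theorem Norms.mem_normalizer [Finite G] {g : G} {U : Subgroup G} (hg : Norms g U) :
    g ∈ normalizer (U : Set G) :=
  Subgroup.mem_normalizer_fintype hg

theorem Norms.inv [Finite G] {g : G} {U : Subgroup G} (hg : Norms g U) : Norms g⁻¹ U := fun u hu => by
  have hN : g ∈ normalizer (U : Set G) := hg.mem_normalizer
  exact (mem_normalizer_iff.1 (inv_mem hN) u).1 hu

theorem Norms.pow {g : G} {U : Subgroup G} (hg : Norms g U) : ∀ n : ℕ, Norms (g ^ n) U := by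
  intro n
  induction n with
  | zero => exact Norms.of_mem (by rw [pow_zero]; exact one_mem U)
  | succ n ih => rw [pow_succ]; exact ih.mul hg

theorem Norms.of_cent {g : G} {U : Subgroup G} (h : ∀ u ∈ U, g * u = u * g) : Norms g U := fun u hu => by
  rw [h u hu, mul_inv_cancel_right]; exact hu

end Norms

namespace Hyp

variable {G : Type*} [Group G] [Finite G] (h : Hyp G)

theorem card_mul_relIndex {H K : Subgroup G} (hle : H ≤ K) : Nat.card H * H.relIndex K = Nat.card K := by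
  rw [← Subgroup.relIndex_bot_left, ← Subgroup.relIndex_bot_left, Subgroup.relIndex_mul_relIndex _ _ _ bot_le hle]

theorem odd_of_three {U : Subgroup G} {k : ℕ} (hU : Nat.card U = 3 ^ k) : Odd (Nat.card U) :=
  hU ▸ Odd.pow (by decide)

theorem isPGroup_S : IsPGroup 3 h.S := IsPGroup.of_card (n := 6) (by rw [h.S_card]; norm_num)

theorem orderOf_S {x : G} (hx : x ∈ h.S) : ∃ k : ℕ, orderOf x = 3 ^ k := by
  obtain ⟨k, -, hk⟩ := (Nat.dvd_prime_pow (p := 3) (m := 6) Nat.prime_three).1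
    (show orderOf x ∣ 3 ^ 6 from (Subgroup.orderOf_dvd_natCard h.S hx).trans (h.S_card.dvd.trans (by norm_num)))
  exact ⟨k, hk⟩

theorem eq_one_of_coprime {x : G} (hx : x ∈ h.S) (hcop : (orderOf x).Coprime 3) : x = 1 := by
  obtain ⟨k, hk⟩ := h.orderOf_S hx
  rw [hk] at hcop
  rcases Nat.eq_zero_or_pos k with rfl | hk'
  · exact orderOf_eq_one_iff.1 hk
  · exact absurd ((Nat.coprime_pow_left_iff hk' 3 3).1 hcop) (by decide)

theorem Z_le_S : h.Z ≤ h.S := h.Z_le.trans h.Q_le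

theorem S_norms_Z {s : G} (hs : s ∈ h.S) : Norms s h.Z := Norms.of_cent fun z hz => h.Z_central z hz s hs

theorem S_norms_Q {s : G} (hs : s ∈ h.S) : Norms s h.Q := h.Q_norm s (h.S_norms_Z hs)

theorem S_le_L : h.S ≤ h.L := fun s hs => h.L_three s (h.S_norms_Z hs) (h.orderOf_S hs)

/-- The image of an element of `L₀`. -/
def sl (x : G) (hx : x ∈ h.L) : SLFive.SL := h.toSL ⟨x, hx⟩

theorem sl_conj {g x : G} (hg : g ∈ h.L) (hx : x ∈ h.L) :
    h.sl (g * x * g⁻¹) (mul_mem (mul_mem hg hx) (inv_mem hg)) = h.sl g hg * h.sl x hx * (h.sl g hg)⁻¹ := by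
  rw [sl, sl, sl, ← map_mul, ← map_inv, ← map_mul]; rfl

theorem sl_eq_one {x : G} (hx : x ∈ h.L) : h.sl x hx = 1 ↔ x ∈ h.Q := h.toSL_ker ⟨x, hx⟩

/-- A lift to an element of order dividing five of an element of order five. -/
theorem exists_five {g : G} (hg : g ∈ h.L) (h5 : h.sl g hg ^ 5 = 1) (h1 : h.sl g hg ≠ 1) :
    ∃ f ∈ zpowers g, f ∈ h.L ∧ f ^ 5 = 1 ∧ f ≠ 1 := by
  refine ⟨g ^ 81, pow_mem (mem_zpowers g) _, pow_mem hg _, ?_, fun hf => h1 ?_⟩
  · rw [← pow_mul, show 81 * 5 = 5 * 81 from rfl, pow_mul]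
    have hq : g ^ 5 ∈ h.Q := by
      rw [← h.sl_eq_one (pow_mem hg 5)]
      show h.toSL (⟨g, hg⟩ ^ 5) = 1
      rw [map_pow]; exact h5
    rw [show (81 : ℕ) = 3 * 27 from rfl, pow_mul, h.Q_exp _ hq, one_pow]
  · have hp : h.sl g hg ^ 81 = 1 := by
      show h.toSL ⟨g, hg⟩ ^ 81 = 1
      rw [← map_pow]
      exact (h.toSL_ker _).2 (show g ^ 81 ∈ h.Q from hf ▸ one_mem _)
    rw [show (81 : ℕ) = 5 * 16 + 1 from rfl, pow_succ, pow_mul, h5, one_pow, one_mul] at hp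
    exact hp

/-- An element of order five of `L₀` fixes only `Z` in `Q`. -/
theorem five_fix_Z {f : G} (hf : f ∈ h.L) (hf5 : f ^ 5 = 1) (hf1 : f ≠ 1) :
    fixIn f h.Q = h.Z := by
  have hZ : h.Z ≤ fixIn f h.Q := fun z hz =>
    mem_fixIn.2 ⟨h.Z_le hz, by rw [h.L_cent f hf z hz, mul_inv_cancel_right]⟩
  refine le_antisymm ?_ hZ
  by_contra hne
  obtain ⟨b, hb, hbc⟩ := (Nat.dvd_prime_pow (p := 3) Nat.prime_three).1
    (show Nat.card (fixIn f h.Q) ∣ 3 ^ 5 from (card_dvd_of_le inf_le_left).trans (h.Q_card.dvd.trans (by norm_num)))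
  have hb2 : 2 ≤ b := by
    by_contra hlt
    refine hne (le_of_eq (Subgroup.eq_of_le_of_card_ge hZ ?_).symm)
    rw [h.Z_card, hbc]
    calc 3 ^ b ≤ 3 ^ 1 := Nat.pow_le_pow_right (by norm_num) (by omega)
      _ = 3 := by norm_num
  have hall := five_small hf5 (H := h.Q) (F := fixIn f h.Q) (a := b) (b := 5) (by rw [h.Q_card]; norm_num) hbc
    inf_le_left (by omega) (h.Q_norm f (h.L_norms f hf)) (fun x hx => (mem_fixIn.1 hx).2)
  have hfQ : f ∈ h.Q := h.Q_self f fun q hq => mul_inv_eq_iff_eq_mul.1 (hall q hq)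
  refine hf1 (h.eq_one_of_coprime (h.Q_le hfQ) ?_)
  exact Nat.Coprime.coprime_dvd_left (orderOf_dvd_of_pow_eq_one hf5) (by norm_num)

theorem invol_sl {t : G} (ht : t ∈ h.L) (ht2 : t * t = 1) (ht1 : t ≠ 1) : h.sl t ht = -1 := by
  rcases SLFive.involution (h.sl t ht) (by
    show h.toSL ⟨t, ht⟩ * h.toSL ⟨t, ht⟩ = 1
    rw [← map_mul, ← map_one h.toSL]
    exact congrArg h.toSL (Subtype.ext ht2)) with h1 | h1
  · exfalso
    refine ht1 (h.eq_one_of_coprime (h.Q_le ((h.sl_eq_one ht).1 h1)) ?_)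
    exact Nat.Coprime.coprime_dvd_left (orderOf_dvd_of_pow_eq_one (n := 2) (by rw [pow_two, ht2])) (by norm_num)
  · exact h1

/-- An involution of `L₀` commutes modulo `Q` with `L₀`. -/
theorem invol_comm_mod {t g : G} (ht : t ∈ h.L) (ht2 : t * t = 1) (ht1 : t ≠ 1) (hg : g ∈ h.L) :
    g⁻¹ * (t * g * t) ∈ h.Q := by
  have hm : g⁻¹ * (t * g * t) ∈ h.L := mul_mem (inv_mem hg) (mul_mem (mul_mem ht hg) ht)
  rw [← h.sl_eq_one hm]
  show h.toSL (⟨g, hg⟩⁻¹ * (⟨t, ht⟩ * ⟨g, hg⟩ * ⟨t, ht⟩)) = 1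
  rw [map_mul, map_mul, map_mul, map_inv, show h.toSL ⟨t, ht⟩ = -1 from h.invol_sl ht ht2 ht1]
  simp

/-- An involution of `L₀` fixes only `Z` in `Q`. -/
theorem invol_fix_Z {t : G} (ht : t ∈ h.L) (ht2 : t * t = 1) (ht1 : t ≠ 1) :
    fixIn t h.Q = h.Z := by
  have hZ : h.Z ≤ fixIn t h.Q := fun z hz =>
    mem_fixIn.2 ⟨h.Z_le hz, by rw [h.L_cent t ht z hz, mul_inv_cancel_right]⟩
  refine le_antisymm ?_ hZ
  by_contra hne
  obtain ⟨y, hy, hy1⟩ := SLFive.exists_three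
  obtain ⟨g0, hg10, hg2⟩ := SLFive.pair_five y hy hy1
  obtain ⟨a, ha⟩ := h.toSL_surj ((y * (g0 * y * g0⁻¹)) ^ 2)
  have hti : t⁻¹ = t := inv_eq_of_mul_eq_one_right ht2
  obtain ⟨q, hq, hqfix⟩ := exists_fixed_mul_odd (t := t) (x := (a : G)) (A := h.Q) ht2
    (odd_of_three (k := 5) (by rw [h.Q_card]; norm_num))
    (by
      have := h.invol_comm_mod ht ht2 ht1 a.2
      exact this)
  set g := (a : G) * q with hgdef
  have hgL : g ∈ h.L := mul_mem a.2 (h.Q_le_L hq)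
  have hgsl : h.sl g hgL = (y * (g0 * y * g0⁻¹)) ^ 2 := by
    show h.toSL (a * ⟨q, h.Q_le_L hq⟩) = _
    rw [map_mul, ha, (h.toSL_ker _).2 hq, mul_one]
  obtain ⟨f, hfg, hfL, hf5, hf1⟩ := h.exists_five hgL (by rw [hgsl, ← pow_mul]; exact hg10) (by rw [hgsl]; exact hg2)
  have hgc : g ∈ centralizer ({t} : Set G) := by
    rw [mem_centralizer_singleton_iff]
    calc g * t = t * (t * g * t) := by rw [← mul_assoc, ← mul_assoc, ht2, one_mul]
      _ = t * g := by rw [hqfix]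
  have hfc := zpowers_le.2 hgc hfg
  obtain ⟨b, hb, hbc⟩ := (Nat.dvd_prime_pow (p := 3) Nat.prime_three).1
    (show Nat.card (fixIn t h.Q) ∣ 3 ^ 5 from (card_dvd_of_le inf_le_left).trans (h.Q_card.dvd.trans (by norm_num)))
  have hb4 : b ≤ 4 := by
    by_contra hgt
    have hall : fixIn t h.Q = h.Q := Subgroup.eq_of_le_of_card_ge inf_le_left
      (by rw [hbc, h.Q_card, show b = 5 by omega]; norm_num)
    have htQ : t ∈ h.Q := h.Q_self t fun q hq => by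
      have := (mem_fixIn.1 (hall.symm ▸ hq)).2
      exact mul_inv_eq_iff_eq_mul.1 this
    refine ht1 (h.eq_one_of_coprime (h.Q_le htQ) ?_)
    exact Nat.Coprime.coprime_dvd_left (orderOf_dvd_of_pow_eq_one (n := 2) (by rw [pow_two, ht2])) (by norm_num)
  have hnorm : ∀ x ∈ fixIn t h.Q, f * x * f⁻¹ ∈ fixIn t h.Q := fun x hx => by
    refine mem_inf.2 ⟨h.Q_norm f (h.L_norms f hfL) x (mem_inf.1 hx).1, ?_⟩
    exact mul_mem (mul_mem hfc (mem_inf.1 hx).2) (inv_mem hfc)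
  have hfixed := five_small hf5 (H := fixIn t h.Q) (F := h.Z) (a := 1) (b := b) hbc (by rw [h.Z_card]; norm_num)
    hZ (by omega) hnorm (fun z hz => by rw [h.L_cent f hfL z hz, mul_inv_cancel_right])
  apply hne
  intro x hx
  rw [← h.five_fix_Z hfL hf5 hf1]
  exact mem_fixIn.2 ⟨(mem_inf.1 hx).1, hfixed x hx⟩

/-- An involution of `L₀` inverts `Q` modulo `Z`. -/
theorem invol_inverts {t q : G} (ht : t ∈ h.L) (ht2 : t * t = 1) (ht1 : t ≠ 1) (hq : q ∈ h.Q) :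
    q * (t * q * t) ∈ h.Z := by
  have hti : t⁻¹ = t := inv_eq_of_mul_eq_one_right ht2
  have hN := h.Q_norm t (h.L_norms t ht)
  have hq' : t * q * t ∈ h.Q := by
    have := hN q hq
    rwa [hti] at this
  set x := q * (t * q * t) with hx
  have hxQ : x ∈ h.Q := mul_mem hq hq'
  have hmod : x⁻¹ * (t * x * t) ∈ h.Z := by
    have h1 := h.Q_comm (t * q * t)⁻¹ (inv_mem hq') q⁻¹ (inv_mem hq)
    have hy : t * (t * q * t) * t = q := by
      rw [← mul_assoc, ← mul_assoc, ht2, one_mul, mul_assoc, ht2, mul_one]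
    have hxt : t * x * t = (t * q * t) * q := by
      calc t * x * t = (t * q * t) * (t * (t * q * t) * t) * (t * t) := by
            rw [hx, hy, ht2, mul_one]
            calc t * (q * (t * q * t)) * t = t * q * t * q * (t * t) := by group
              _ = t * q * t * q := by rw [ht2, mul_one]
        _ = _ := by rw [hy, ht2, mul_one]
    have : x⁻¹ * (t * x * t) = (t * q * t)⁻¹ * q⁻¹ * (t * q * t)⁻¹⁻¹ * q⁻¹⁻¹ := by
      rw [hxt, hx]; group
    rw [this]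
    exact h1
  obtain ⟨z, hz, hfix⟩ := exists_fixed_mul_odd (t := t) (x := x) (A := h.Z) ht2
    (odd_of_three (k := 1) (by rw [h.Z_card]; norm_num)) hmod
  have : x * z ∈ h.Z := by
    rw [← h.invol_fix_Z ht ht2 ht1]
    exact mem_fixIn.2 ⟨mul_mem hxQ (h.Z_le hz), by rw [hti]; exact hfix⟩
  have := mul_mem this (inv_mem hz)
  rwa [mul_inv_cancel_right] at this

/-- The abelian part `J ∩ Q`. -/
def A : Subgroup G := h.J ⊓ h.Q

theorem abelian_le_27 {U : Subgroup G} (hUQ : U ≤ h.Q) (hU : ∀ a ∈ U, ∀ b ∈ U, a * b = b * a) :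
    Nat.card U ≤ 27 := by
  by_contra hlt
  obtain ⟨k, hk, hkc⟩ := (Nat.dvd_prime_pow (p := 3) Nat.prime_three).1
    (show Nat.card U ∣ 3 ^ 5 from (card_dvd_of_le hUQ).trans (h.Q_card.dvd.trans (by norm_num)))
  have h4 : 4 ≤ k := by
    by_contra hk4
    refine hlt (hkc.symm ▸ ?_)
    calc 3 ^ k ≤ 3 ^ 3 := Nat.pow_le_pow_right (by norm_num) (by omega)
      _ = 27 := by norm_num
  obtain ⟨q, hq, hqU⟩ : ∃ q ∈ h.Q, q ∉ U := by
    by_contra hall
    push Not at hall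
    have hU' : U = h.Q := le_antisymm hUQ hall
    have hQZ : h.Q ≤ h.Z := fun a ha => h.Q_center a ha fun b hb => hU b (hU'.symm ▸ hb) a (hU'.symm ▸ ha)
    have := Subgroup.card_le_of_le hQZ
    rw [h.Q_card, h.Z_card] at this
    omega
  let f : U →* h.Z :=
    { toFun := fun u => ⟨(u : G) * q * (u : G)⁻¹ * q⁻¹, h.Q_comm _ (hUQ u.2) q hq⟩
      map_one' := Subtype.ext (by simp)
      map_mul' := fun u v => Subtype.ext (by
        show (u : G) * v * q * ((u : G) * v)⁻¹ * q⁻¹ = ((u : G) * q * (u : G)⁻¹ * q⁻¹) * ((v : G) * q * (v : G)⁻¹ * q⁻¹)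
        have hc : ((v : G) * q * (v : G)⁻¹ * q⁻¹) * u = u * ((v : G) * q * (v : G)⁻¹ * q⁻¹) :=
          (h.Z_central _ (h.Q_comm _ (hUQ v.2) q hq) _ (h.Q_le (hUQ u.2))).symm
        have hc2 : ∀ x ∈ h.Q, ((v : G) * q * (v : G)⁻¹ * q⁻¹) * x = x * ((v : G) * q * (v : G)⁻¹ * q⁻¹) :=
          fun x hx => (h.Z_central _ (h.Q_comm _ (hUQ v.2) q hq) _ (h.Q_le hx)).symm
        calc (u : G) * v * q * ((u : G) * v)⁻¹ * q⁻¹
            = (u : G) * ((v : G) * q * (v : G)⁻¹ * q⁻¹) * q * (u : G)⁻¹ * q⁻¹ := by group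
          _ = ((v : G) * q * (v : G)⁻¹ * q⁻¹) * ((u : G) * q * (u : G)⁻¹ * q⁻¹) := by rw [← hc]; group
          _ = _ := hc2 _ (mul_mem (mul_mem (mul_mem (hUQ u.2) hq) (inv_mem (hUQ u.2))) (inv_mem hq))) }
  have hker : Nat.card f.ker ≤ 3 := by
    have hcent : f.ker.map U.subtype ≤ h.Z := by
      rintro _ ⟨u, hu, rfl⟩
      refine h.Q_center _ (hUQ u.2) fun b hb => ?_
      have huq : q * (u : G) = u * q := by
        have := congrArg Subtype.val (show f u = 1 from hu)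
        exact (mul_inv_eq_iff_eq_mul.1 (mul_inv_eq_one.1 this)).symm
      -- `U` and `q` generate `Q`
      let C : Subgroup G := h.Q ⊓ centralizer ({(u : G)} : Set G)
      have hUC : U ≤ C := fun x hx => mem_inf.2 ⟨hUQ hx, mem_centralizer_singleton_iff.2 (hU x hx u u.2)⟩
      have hqC : q ∈ C := mem_inf.2 ⟨hq, mem_centralizer_singleton_iff.2 huq⟩
      have hC : C = h.Q := by
        refine Subgroup.eq_of_le_of_card_ge inf_le_left ?_
        obtain ⟨c, hc, hcc⟩ := (Nat.dvd_prime_pow (p := 3) Nat.prime_three).1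
          (show Nat.card C ∣ 3 ^ 5 from (card_dvd_of_le inf_le_left).trans (h.Q_card.dvd.trans (by norm_num)))
        have hlt' : Nat.card U < Nat.card C := by
          refine lt_of_le_of_ne (Subgroup.card_le_of_le hUC) fun he => hqU ?_
          rw [Subgroup.eq_of_le_of_card_ge hUC he.ge]
          exact hqC
        rw [hkc, hcc] at hlt'
        have : k < c := (Nat.pow_lt_pow_iff_right (by norm_num)).1 hlt'
        rw [h.Q_card, hcc, show c = 5 by omega]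
        norm_num
      exact mem_centralizer_singleton_iff.1 (mem_inf.1 (hC.symm ▸ hb : b ∈ C)).2
    rw [← h.Z_card]
    refine le_trans (le_of_eq ?_) (Subgroup.card_le_of_le hcent)
    exact (Subgroup.card_map_of_injective U.subtype_injective).symm
  have hr : Nat.card f.range ≤ 3 := h.Z_card ▸ Subgroup.card_le_card_group f.range
  have := f.ker.card_mul_index
  rw [Subgroup.index_ker, hkc] at this
  have h81 : 81 ≤ 3 ^ k := le_trans (by norm_num) (Nat.pow_le_pow_right (by norm_num) h4)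
  nlinarith

theorem JQ_card : Nat.card h.A = 27 := by
  have hle : Nat.card h.A ≤ 27 :=
    h.abelian_le_27 inf_le_right fun a ha b hb => h.J_comm a (mem_inf.1 ha).1 b (mem_inf.1 hb).1
  have e1 : Nat.card h.A * h.Q.relIndex h.J = 81 := by
    rw [← Subgroup.inf_relIndex_left, ← h.J_card]
    exact card_mul_relIndex inf_le_left
  have e2 : 243 * h.Q.relIndex h.S = 729 := by
    rw [← h.Q_card, ← h.S_card]
    exact card_mul_relIndex h.Q_le
  have e3 : h.Q.relIndex h.J ≤ h.Q.relIndex h.S :=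
    Subgroup.relIndex_le_of_le_right h.J_le (by intro h0; rw [h0] at e2; omega)
  have e4 : h.Q.relIndex h.S = 3 := by omega
  have hh : 81 ≤ Nat.card h.A * 3 := by
    calc 81 = Nat.card h.A * h.Q.relIndex h.J := e1.symm
      _ ≤ Nat.card h.A * 3 := Nat.mul_le_mul_left _ (e4 ▸ e3)
  omega

theorem A_le_J : h.A ≤ h.J := inf_le_left

theorem A_le_Q : h.A ≤ h.Q := inf_le_right

theorem Z_le_A : h.Z ≤ h.A := by
  have hcomm : ∀ a ∈ h.A ⊔ h.Z, ∀ b ∈ h.A ⊔ h.Z, a * b = b * a := by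
    have hgen : h.A ⊔ h.Z ≤ centralizer ((h.A ⊔ h.Z : Subgroup G) : Set G) := by
      refine sup_le ?_ ?_
      · intro a ha
        have hle : h.A ⊔ h.Z ≤ centralizer ({a} : Set G) := sup_le
          (fun b hb => mem_centralizer_singleton_iff.2 (h.J_comm b (h.A_le_J hb) a (h.A_le_J ha)))
          (fun z hz => mem_centralizer_singleton_iff.2 (h.Z_central z hz a (h.Q_le (h.A_le_Q ha))).symm)
        rw [mem_centralizer_iff]
        exact fun b hb => mem_centralizer_singleton_iff.1 (hle hb)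
      · intro z hz
        rw [mem_centralizer_iff]
        exact fun b hb => h.Z_central z hz b (h.Q_le ((sup_le h.A_le_Q h.Z_le : h.A ⊔ h.Z ≤ h.Q) hb))
    intro a ha b hb
    exact (mem_centralizer_iff.1 (hgen ha) b hb).symm
  have := h.abelian_le_27 (sup_le h.A_le_Q h.Z_le) hcomm
  have heq : h.A = h.A ⊔ h.Z := Subgroup.eq_of_le_of_card_ge le_sup_left (by rw [h.JQ_card]; exact this)
  intro z hz
  rw [heq]
  exact mem_sup_right hz

/-- `A` is its own centraliser in `Q`. -/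
theorem A_self {q : G} (hq : q ∈ h.Q) (hc : ∀ a ∈ h.A, q * a = a * q) : q ∈ h.A := by
  have hcomm : ∀ a ∈ h.A ⊔ zpowers q, ∀ b ∈ h.A ⊔ zpowers q, a * b = b * a := by
    have hgen : h.A ⊔ zpowers q ≤ centralizer ((h.A ⊔ zpowers q : Subgroup G) : Set G) := by
      have hqq : ∀ x ∈ h.A ⊔ zpowers q, x * q = q * x := by
        intro x hx
        have hle : h.A ⊔ zpowers q ≤ centralizer ({q} : Set G) := sup_le
          (fun a ha => mem_centralizer_singleton_iff.2 (hc a ha).symm)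
          (zpowers_le.2 (mem_centralizer_singleton_iff.2 rfl))
        exact mem_centralizer_singleton_iff.1 (hle hx)
      refine sup_le ?_ (zpowers_le.2 ?_)
      · intro a ha
        have hle : h.A ⊔ zpowers q ≤ centralizer ({a} : Set G) := sup_le
          (fun b hb => mem_centralizer_singleton_iff.2 (h.J_comm b (h.A_le_J hb) a (h.A_le_J ha)))
          (zpowers_le.2 (mem_centralizer_singleton_iff.2 (hc a ha)))
        rw [mem_centralizer_iff]
        exact fun b hb => mem_centralizer_singleton_iff.1 (hle hb)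
      · rw [mem_centralizer_iff]
        exact fun b hb => hqq b hb
    intro a ha b hb
    exact (mem_centralizer_iff.1 (hgen ha) b hb).symm
  have := h.abelian_le_27 (sup_le h.A_le_Q (zpowers_le.2 hq)) hcomm
  have heq : h.A = h.A ⊔ zpowers q := Subgroup.eq_of_le_of_card_ge le_sup_left (by rw [h.JQ_card]; exact this)
  rw [heq]
  exact mem_sup_right (mem_zpowers q)

/-- An element prime to three centralising `A` and `Z` is trivial. -/
theorem trivial_of_fix_A {c : G} (hc : Norms c h.Z) (hcop : (orderOf c).Coprime 3)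
    (hfix : ∀ a ∈ h.A, c * a = a * c) : c = 1 := by
  have hQA : ∀ q ∈ h.Q, c * q * c⁻¹ * q⁻¹ ∈ h.A := by
    intro q hq
    have hcq := h.Q_norm c hc q hq
    suffices hmem : q⁻¹ * (c * q * c⁻¹) ∈ h.A by
      rw [show c * q * c⁻¹ * q⁻¹ = q * (q⁻¹ * (c * q * c⁻¹)) * q⁻¹ * (q⁻¹ * (c * q * c⁻¹))⁻¹
        * (q⁻¹ * (c * q * c⁻¹)) by group]
      exact mul_mem (h.Z_le_A (h.Q_comm q hq _ (mul_mem (inv_mem hq) hcq))) hmem
    refine h.A_self (mul_mem (inv_mem hq) hcq) fun a ha => ?_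
    have hzf : c * (q * a * q⁻¹ * a⁻¹) * c⁻¹ = q * a * q⁻¹ * a⁻¹ := by
      rw [hfix _ (h.Z_le_A (h.Q_comm q hq a (h.A_le_Q ha))), mul_inv_cancel_right]
    have hca : c * a * c⁻¹ = a := by rw [hfix a ha, mul_inv_cancel_right]
    have e : (c * q * c⁻¹) * a * (c * q * c⁻¹)⁻¹ = q * a * q⁻¹ := by
      calc (c * q * c⁻¹) * a * (c * q * c⁻¹)⁻¹
          = c * q * c⁻¹ * (c * a * c⁻¹) * (c * q * c⁻¹)⁻¹ := by rw [hca]
        _ = c * (q * a * q⁻¹ * a⁻¹) * c⁻¹ * (c * a * c⁻¹) := by group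
        _ = q * a * q⁻¹ := by rw [hzf, hca]; group
    calc q⁻¹ * (c * q * c⁻¹) * a = q⁻¹ * ((c * q * c⁻¹) * a * (c * q * c⁻¹)⁻¹) * (c * q * c⁻¹) := by group
      _ = a * (q⁻¹ * (c * q * c⁻¹)) := by rw [e]; group
  have hser := series_three (x := c) h.A_le_Q h.Z_le_A
    (hcop.pow_right 5 |> fun h5 => by rw [h.Q_card]; simpa using h5) hQA
    (fun a ha => by rw [hfix a ha]; simp)
    (fun z hz => by rw [hfix z (h.Z_le_A hz)]; simp)
  exact h.eq_one_of_coprime (h.Q_le (h.Q_self c hser)) hcop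

/-- Every element of `S` is an element of `J` times one of `Q`. -/
theorem S_eq {s : G} (hs : s ∈ h.S) : ∃ j ∈ h.J, ∃ q ∈ h.Q, s = j * q := by
  have hJ : h.J ≤ normalizer (h.Q : Set G) := fun j hj =>
    (h.S_norms_Q (h.J_le hj)).mem_normalizer
  have hle : h.J ⊔ h.Q ≤ h.S := sup_le h.J_le h.Q_le
  have hcard : h.J ⊔ h.Q = h.S := by
    refine Subgroup.eq_of_le_of_card_ge hle ?_
    obtain ⟨k, hk, hkc⟩ := (Nat.dvd_prime_pow (p := 3) Nat.prime_three).1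
      (show Nat.card (h.J ⊔ h.Q : Subgroup G) ∣ 3 ^ 6 from (card_dvd_of_le hle).trans (h.S_card.dvd.trans (by norm_num)))
    have hgt : Nat.card h.Q < Nat.card (h.J ⊔ h.Q : Subgroup G) := by
      refine lt_of_le_of_ne (Subgroup.card_le_of_le le_sup_right) fun he => ?_
      have hJQ : h.J ≤ h.Q := by
        intro j hj
        rw [Subgroup.eq_of_le_of_card_ge (le_sup_right : h.Q ≤ h.J ⊔ h.Q) he.ge]
        exact mem_sup_left hj
      have : h.A = h.J := inf_eq_left.2 hJQ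
      have h1 := h.JQ_card
      rw [this, h.J_card] at h1
      omega
    rw [h.Q_card, hkc] at hgt
    have : 5 < k := (Nat.pow_lt_pow_iff_right (by norm_num : 1 < 3)).1 (by norm_num; exact hgt)
    rw [h.S_card, hkc, show k = 6 by omega]
    norm_num
  have hs' : s ∈ (↑(h.J ⊔ h.Q : Subgroup G) : Set G) := by rw [hcard]; exact hs
  rw [Subgroup.coe_mul_of_left_le_normalizer_right h.J h.Q hJ] at hs'
  obtain ⟨j, hj, q, hq, he⟩ := Set.mem_mul.1 hs'
  exact ⟨j, hj, q, hq, he.symm⟩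

/-- The elements of `Q` commuting with `x` modulo `Z`. -/
def preFix (x : G) : Subgroup G where
  carrier := {q | q ∈ h.Q ∧ x * q * x⁻¹ * q⁻¹ ∈ h.Z}
  one_mem' := ⟨one_mem _, by simp⟩
  mul_mem' := fun {a b} ha hb => ⟨mul_mem ha.1 hb.1, by
    have hc : a * (x * b * x⁻¹ * b⁻¹) = x * b * x⁻¹ * b⁻¹ * a := h.Z_central _ hb.2 a (h.Q_le ha.1)
    have : x * (a * b) * x⁻¹ * (a * b)⁻¹ = (x * a * x⁻¹ * a⁻¹) * (x * b * x⁻¹ * b⁻¹) := by
      calc x * (a * b) * x⁻¹ * (a * b)⁻¹ = (x * a * x⁻¹ * a⁻¹) * (a * (x * b * x⁻¹ * b⁻¹)) * a⁻¹ := by group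
        _ = _ := by rw [hc]; group
    rw [this]; exact mul_mem ha.2 hb.2⟩
  inv_mem' := fun {a} ha => ⟨inv_mem ha.1, by
    have hc : a⁻¹ * (x * a * x⁻¹ * a⁻¹)⁻¹ = (x * a * x⁻¹ * a⁻¹)⁻¹ * a⁻¹ :=
      h.Z_central _ (inv_mem ha.2) a⁻¹ (h.Q_le (inv_mem ha.1))
    have : x * a⁻¹ * x⁻¹ * a⁻¹⁻¹ = (x * a * x⁻¹ * a⁻¹)⁻¹ := by
      calc x * a⁻¹ * x⁻¹ * a⁻¹⁻¹ = a⁻¹ * (x * a * x⁻¹ * a⁻¹)⁻¹ * a := by group
        _ = _ := by rw [hc, inv_mul_cancel_right]
    rw [this]; exact inv_mem ha.2⟩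

/-- An element of `S` outside `Q` fixes at most `3³` of `Q` modulo `Z`. -/
theorem preFix_card {x : G} (hx : x ∈ h.S) (hxQ : x ∉ h.Q) : Nat.card (h.preFix x) ≤ 27 := by
  by_contra hlt
  have hxL := h.S_le_L hx
  have hx1 : h.sl x hxL ≠ 1 := fun e => hxQ ((h.sl_eq_one hxL).1 e)
  have hx3 : h.sl x hxL * h.sl x hxL * h.sl x hxL = 1 := by
    obtain ⟨j, hj, q, hq, rfl⟩ := h.S_eq hx
    show h.toSL (⟨j, h.S_le_L (h.J_le hj)⟩ * ⟨q, h.Q_le_L hq⟩) * h.toSL (⟨j, h.S_le_L (h.J_le hj)⟩ * ⟨q, h.Q_le_L hq⟩)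
      * h.toSL (⟨j, h.S_le_L (h.J_le hj)⟩ * ⟨q, h.Q_le_L hq⟩) = 1
    rw [map_mul, (h.toSL_ker ⟨q, h.Q_le_L hq⟩).2 hq, mul_one, ← map_mul, ← map_mul, ← map_one h.toSL]
    refine congrArg h.toSL (Subtype.ext ?_)
    show j * j * j = 1
    rw [← h.J_exp j hj, pow_three', ]
  obtain ⟨g0, hg10, hg2⟩ := SLFive.pair_five _ hx3 hx1
  obtain ⟨⟨g, hgL⟩, hg⟩ := h.toSL_surj g0
  have hmL : (x * (g * x * g⁻¹)) ^ 2 ∈ h.L := pow_mem (mul_mem hxL (mul_mem (mul_mem hgL hxL) (inv_mem hgL))) 2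
  have hmsl : h.sl _ hmL = (h.sl x hxL * (g0 * h.sl x hxL * g0⁻¹)) ^ 2 := by
    show h.toSL ((⟨x, hxL⟩ * (⟨g, hgL⟩ * ⟨x, hxL⟩ * ⟨g, hgL⟩⁻¹)) ^ 2) = _
    rw [map_pow, map_mul, map_mul, map_mul, map_inv, hg]; rfl
  obtain ⟨f, hfm, hfL, hf5, hf1⟩ := h.exists_five hmL (by rw [hmsl, ← pow_mul]; exact hg10)
    (by rw [hmsl]; exact hg2)
  -- the two conjugates fix a common part of order at least 27
  have hgQ := h.Q_norm g (h.L_norms g hgL)
  set P1 := h.preFix x with hP1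
  set P2 := P1.map (MulAut.conj g).toMonoidHom with hP2
  have hP2Q : P2 ≤ h.Q := by
    rintro _ ⟨q, hq, rfl⟩
    exact hgQ q hq.1
  have hP1Q : P1 ≤ h.Q := fun q hq => hq.1
  have hc2 : Nat.card P2 = Nat.card P1 := Subgroup.card_map_of_injective (MulAut.conj g).injective
  obtain ⟨k, hk, hkc⟩ := (Nat.dvd_prime_pow (p := 3) Nat.prime_three).1
    (show Nat.card P1 ∣ 3 ^ 5 from (card_dvd_of_le hP1Q).trans (h.Q_card.dvd.trans (by norm_num)))
  have hk4 : 4 ≤ k := by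
    by_contra hk4
    refine hlt (hkc.symm ▸ ?_)
    calc 3 ^ k ≤ 3 ^ 3 := Nat.pow_le_pow_right (by norm_num) (by omega)
      _ = 27 := by norm_num
  obtain ⟨i, hi, hic⟩ := (Nat.dvd_prime_pow (p := 3) Nat.prime_three).1
    (show Nat.card (P1 ⊓ P2 : Subgroup G) ∣ 3 ^ 5 from
      (card_dvd_of_le (inf_le_left.trans hP1Q)).trans (h.Q_card.dvd.trans (by norm_num)))
  have hi3 : 3 ≤ i := by
    have e2 : Nat.card P2 * P2.relIndex h.Q = Nat.card h.Q := card_mul_relIndex hP2Q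
    have hrel : P2.relIndex P1 ≤ P2.relIndex h.Q := Subgroup.relIndex_le_of_le_right hP1Q
      (by intro h0; rw [h0, h.Q_card] at e2; omega)
    have e1 : Nat.card (P1 ⊓ P2 : Subgroup G) * P2.relIndex P1 = Nat.card P1 := by
      rw [← Subgroup.inf_relIndex_left]
      exact card_mul_relIndex inf_le_left
    rw [hic, hkc] at e1
    rw [hc2, hkc, h.Q_card] at e2
    have hk' : 81 ≤ 3 ^ k := le_trans (by norm_num) (Nat.pow_le_pow_right (by norm_num) hk4)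
    by_contra hi'
    have : 3 ^ i ≤ 9 := le_trans (Nat.pow_le_pow_right (by norm_num) (show i ≤ 2 by omega)) (by norm_num)
    nlinarith
  have hfixmod : ∀ q ∈ P1 ⊓ P2, ∀ y ∈ ({x, g * x * g⁻¹} : Set G), y * q * y⁻¹ * q⁻¹ ∈ h.Z := by
    rintro q ⟨hq1, q', hq', rfl⟩ y (rfl | rfl)
    · exact hq1.2
    · show (g * x * g⁻¹) * (g * q' * g⁻¹) * (g * x * g⁻¹)⁻¹ * (g * q' * g⁻¹)⁻¹ ∈ h.Z
      have : (g * x * g⁻¹) * (g * q' * g⁻¹) * (g * x * g⁻¹)⁻¹ * (g * q' * g⁻¹)⁻¹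
          = g * (x * q' * x⁻¹ * q'⁻¹) * g⁻¹ := by group
      rw [this]
      exact h.L_norms g hgL _ hq'.2
  set P := P1 ⊓ P2 ⊔ h.Z with hP
  have hPQ : P ≤ h.Q := sup_le (inf_le_left.trans hP1Q) h.Z_le
  let N : Subgroup G :=
    { carrier := {y | y ∈ h.L ∧ ∀ q ∈ P1 ⊓ P2, y * q * y⁻¹ * q⁻¹ ∈ h.Z}
      one_mem' := ⟨one_mem _, fun q _ => by simp⟩
      mul_mem' := fun {a b} ha hb => ⟨mul_mem ha.1 hb.1, fun q hq => by
        have : a * b * q * (a * b)⁻¹ * q⁻¹ = a * (b * q * b⁻¹ * q⁻¹) * a⁻¹ * (a * q * a⁻¹ * q⁻¹) := by group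
        rw [this]
        exact mul_mem (h.L_norms a ha.1 _ (hb.2 q hq)) (ha.2 q hq)⟩
      inv_mem' := fun {a} ha => ⟨inv_mem ha.1, fun q hq => by
        have : a⁻¹ * q * a⁻¹⁻¹ * q⁻¹ = a⁻¹ * (a * q * a⁻¹ * q⁻¹)⁻¹ * a⁻¹⁻¹ := by group
        rw [this]
        exact h.L_norms a⁻¹ (inv_mem ha.1) _ (inv_mem (ha.2 q hq))⟩ }
  have hxN : x ∈ N := ⟨hxL, fun q hq => hfixmod q hq x (Or.inl rfl)⟩
  have hyN : g * x * g⁻¹ ∈ N :=
    ⟨mul_mem (mul_mem hgL hxL) (inv_mem hgL), fun q hq => hfixmod q hq _ (Or.inr rfl)⟩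
  have hfN : f ∈ N := zpowers_le.2 (pow_mem (mul_mem hxN hyN) 2) hfm
  have hnormP : ∀ q ∈ P, f * q * f⁻¹ * q⁻¹ ∈ h.Z := by
    intro q hq
    have hle : P ≤ h.preFix f := sup_le (fun a ha => ⟨hP1Q (mem_inf.1 ha).1, hfN.2 a ha⟩)
      (fun z hz => ⟨h.Z_le hz, by rw [h.L_cent f hfN.1 z hz]; simp⟩)
    exact (hle hq).2
  have hfc : ∀ q ∈ P, f * q = q * f := by
    intro q hq
    refine OddLocal.CoprimeFix.comm_of_fixed (k := f * q * f⁻¹ * q⁻¹) (by group)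
      (h.L_cent f hfL _ (hnormP q hq)) ?_
    refine Nat.Coprime.coprime_dvd_left (orderOf_dvd_of_pow_eq_one hf5) ?_
    refine Nat.Coprime.coprime_dvd_right (Subgroup.orderOf_dvd_natCard h.Z (hnormP q hq)) ?_
    rw [h.Z_card]; norm_num
  have hPZ : P ≤ h.Z := by
    rw [← h.five_fix_Z hfL hf5 hf1]
    exact fun q hq => mem_fixIn.2 ⟨hPQ hq, by rw [hfc q hq, mul_inv_cancel_right]⟩
  have := Subgroup.card_le_of_le ((le_sup_left : P1 ⊓ P2 ≤ P).trans hPZ)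
  rw [h.Z_card, hic] at this
  have : 3 ^ 3 ≤ 3 ^ i := Nat.pow_le_pow_right (by norm_num) hi3
  omega

end Hyp

end Cfsg.Agent.Lib.McL3Local35
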