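import Cfsg.Agent.Lib.McL3Local35.Cover
import Cfsg.Agent.Lib.ZStar.Elements
import Cfsg.Agent.S3329
import Cfsg.Agent.S3334

/-!
# The case `C(t)/⟨t⟩ ≅ A₈`
-/

set_option autoImplicit false
set_option maxRecDepth 100000

namespace Cfsg.Agent.Lib.McL3Local35

open Subgroup Equiv

namespace Std

variable {G : Type*} [Group G] [Finite G] (d : Std G)

theorem CT_card : Nat.card d.CT = 2 * Nat.card d.X := by
  have h := d.TT.card_mul_index
  have h2 : Nat.card d.TT = 2 := by
    rw [TT, Nat.card_zpowers]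
    exact orderOf_eq_prime (Subtype.ext (by rw [SubgroupClass.coe_pow, pow_two]; exact d.t_sq))
      fun h => d.t_ne (congrArg Subtype.val h)
  rw [h2, Subgroup.index] at h
  exact h.symm

theorem X_equiv_A (hY : d.HY) (hA : d.CaseA) : Nonempty (d.X ≃* alternatingGroup (Fin 8)) := by
  obtain ⟨P, hP⟩ := d.exists_sylow
  haveI : (d.Db.subgroupOf d.NX).Normal := Subgroup.normal_in_normalizer
  obtain ⟨eN⟩ := d.nonempty_eN_A hA
  obtain ⟨hle, hsq, hn⟩ := d.Ny_q_facts hY
  haveI := hn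
  obtain ⟨⟨eC⟩, ⟨eL⟩⟩ := d.comp_A hA
  have hq : Nat.card (normalizer (zpowers d.yb : Set d.X) ⧸ d.Db.subgroupOf (normalizer (zpowers d.yb : Set d.X))) = 4 := by
    have h := (d.Db.subgroupOf (normalizer (zpowers d.yb : Set d.X))).card_mul_index
    rw [Nat.card_congr (Subgroup.subgroupOfEquivOfLe hle).toEquiv, d.Db_card, d.Ny_card_q hY, d.Kc_card_A hA,
      Subgroup.index] at h
    omega
  exact Cfsg.Agent.S3329.result P d.Db hP d.yb d.zb d.closure_Db d.Db_comm d.Db_card d.Db_exp (d.cent_Db_A hA) eN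
    (d.Db_normal_yb hY) ((d.cent_yb_card hY).trans (d.Kc_card_A hA)) _ rfl hle hq
    (fun g => by
      obtain ⟨x, rfl⟩ := QuotientGroup.mk'_surjective _ g
      rw [← map_pow, QuotientGroup.mk'_apply, QuotientGroup.eq_one_iff]
      exact hsq x x.2)
    eC eL

theorem cover_A (e : d.X ≃* alternatingGroup (Fin 8)) :
    Cfsg.IsNonsplitDoubleCover d.CT (alternatingGroup (Fin 8)) := by
  obtain ⟨a, ha, c, hc, he⟩ := d.B_commutator d.t_B
  exact Cover.isNonsplit_of_hom (e.toMonoidHom.comp d.q) (e.surjective.comp d.q_surj) d.tt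
    (fun h => d.t_ne (congrArg Subtype.val h)) (Subtype.ext d.t_sq)
    (fun x => by
      rw [MonoidHom.comp_apply, MulEquiv.coe_toMonoidHom, EmbeddingLike.map_eq_one_iff, d.q_eq_one]
      exact or_congr ⟨fun h => Subtype.ext h, fun h => h ▸ rfl⟩ ⟨fun h => Subtype.ext h, fun h => h ▸ rfl⟩)
    (fun x => Subtype.ext (d.mem_CT.1 x.2)) ⟨a, d.B_le_CT ha⟩ ⟨c, d.B_le_CT hc⟩ (Subtype.ext he)

/-- `t` is not central modulo the odd core. -/
theorem not_oddCore_top (e : d.X ≃* alternatingGroup (Fin 8)) :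
    d.CT ⊔ Cfsg.oddCore G ≠ ⊤ := by
  intro htop
  set O := Cfsg.oddCore G with hO
  haveI hOn : O.Normal := Cfsg.pPrimeCore_normal 2 G
  have hodd : Odd (Nat.card O) := ZStar.Elements.oddCore_odd
  have hcardX : Nat.card d.X = 20160 := by
    rw [Nat.card_congr e.toEquiv, nat_card_alternatingGroup, Nat.card_fin]
    rfl
  have hsurj : Function.Surjective ((QuotientGroup.mk' O).comp d.CT.subtype) := fun x => by
    obtain ⟨g, rfl⟩ := QuotientGroup.mk'_surjective O x
    have hg : g ∈ d.CT ⊔ O := htop ▸ mem_top g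
    obtain ⟨c, hc, o, ho, rfl⟩ := Subgroup.mem_sup_of_normal_right.1 hg
    refine ⟨⟨c, hc⟩, ?_⟩
    rw [MonoidHom.comp_apply, map_mul, QuotientGroup.mk'_apply, QuotientGroup.mk'_apply,
      (QuotientGroup.eq_one_iff o).2 ho, mul_one]
    rfl
  have hdvd : Nat.card (G ⧸ O) ∣ Nat.card d.CT := Subgroup.card_dvd_of_surjective _ hsurj
  have h729 : 729 ∣ Nat.card G := d.S_card ▸ Subgroup.card_subgroup_dvd_card d.S
  have hGO : Nat.card G = Nat.card (G ⧸ O) * Nat.card O := Subgroup.card_eq_card_quotient_mul_card_subgroup O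
  refine d.odd_normal O hodd ?_
  by_contra h
  have hcop : Nat.Coprime 729 (Nat.card O) := by
    rw [show 729 = 3 ^ 6 from rfl]
    exact Nat.Coprime.pow_left 6 ((Nat.prime_three.coprime_iff_not_dvd).2 h)
  rw [hGO] at h729
  have h' : 729 ∣ Nat.card d.CT := (hcop.dvd_of_dvd_mul_right h729).trans hdvd
  rw [d.CT_card, hcardX] at h'
  omega

/-- The first case. -/
theorem mcl_of_caseA (hY : d.HY) (hA : d.CaseA) : Nonempty (G ≃* Cfsg.Spor.McL) := by
  obtain ⟨e⟩ := d.X_equiv_A hY hA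
  exact (Cfsg.Agent.S3334.result d.t (orderOf_eq_prime (by rw [pow_two, d.t_sq]) d.t_ne) (d.cover_A e)).resolve_left
    (d.not_oddCore_top e)

end Std

end Cfsg.Agent.Lib.McL3Local35
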