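import Cfsg.Agent.Lib.McL3Local35.Axes

/-!
# The centraliser of `z z2` lies in the normaliser of `J`
-/

set_option autoImplicit false

namespace Cfsg.Agent.Lib.McL3Local35

open Subgroup

namespace Std

variable {G : Type*} [Group G] [Finite G] (d : Std G)

/-- The point `z z2` fixed by `s`. -/
noncomputable def yp : G := d.z * d.z2

theorem yp_J : d.yp ∈ d.J := mul_mem d.z_mem_J d.z2_mem_J

theorem yp_D : d.yp ∈ d.D := mul_mem d.z_D d.z2_D

theorem s_yp : d.s * d.yp * d.s⁻¹ = d.yp := by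
  rw [d.s_inv, yp]
  calc d.s * (d.z * d.z2) * d.s = (d.s * d.z * d.s) * (d.s * d.z2 * d.s) := by
        calc d.s * (d.z * d.z2) * d.s = d.s * d.z * (d.s * d.s) * d.z2 * d.s := by rw [d.s_sq]; group
          _ = _ := by group
    _ = d.z2 * d.z := by rw [d.s_z, d.s_z2]
    _ = d.z * d.z2 := d.J_comm _ d.z2_mem_J _ d.z_mem_J

theorem e_yp : d.e * d.yp * d.e⁻¹ = d.yp⁻¹ := by
  rw [yp, mul_inv_rev]
  calc d.e * (d.z * d.z2) * d.e⁻¹ = (d.e * d.z * d.e⁻¹) * (d.e * d.z2 * d.e⁻¹) := by group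
    _ = d.z⁻¹ * d.z2⁻¹ := by rw [d.e_inverts.1, d.e_inverts.2]
    _ = _ := d.J_comm _ (inv_mem d.z_mem_J) _ (inv_mem d.z2_mem_J)

/-- A 3-group centralising `z z2` and normalised by its centraliser, by `e` and by `s`, lies in `J`. -/
theorem three_le_J {R : Subgroup G} (hp : IsPGroup 3 R)
    (hnorm : ∀ c : G, c * d.yp = d.yp * c → Norms c R) (he : Norms d.e R) (hs : Norms d.s R) : R ≤ d.J := by
  have : Fact (Nat.Prime 3) := ⟨Nat.prime_three⟩
  have hJ : d.J ≤ normalizer (R : Set G) := fun j hj =>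
    (hnorm j (d.J_comm j hj _ d.yp_J)).mem_normalizer
  have hp' : IsPGroup 3 (d.J ⊔ R : Subgroup G) :=
    IsPGroup.to_sup_of_normal_right' (d.toHyp.isPGroup_S.to_le d.J_le) hp hJ
  obtain ⟨g, hg⟩ := d.S_sylow _ hp'
  have hgJ := d.toHyp.conj_eq_J fun x hx => hg x (mem_sup_left hx)
  have hRM : ∀ r ∈ R, r ∈ d.M ∧ g * r * g⁻¹ ∈ d.S := by
    intro r hr
    have h1 := hg r (mem_sup_right hr)
    refine ⟨d.M_three r ?_ ?_, h1⟩
    · have h2 := (hgJ.inv.mul (d.toHyp.S_norms_J h1)).mul hgJ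
      rwa [show g⁻¹ * (g * r * g⁻¹) * g = r by group] at h2
    · obtain ⟨k, hk⟩ := hp ⟨r, hr⟩
      obtain ⟨i, -, hi⟩ := (Nat.dvd_prime_pow Nat.prime_three).1
        (orderOf_dvd_of_pow_eq_one (x := r) (n := 3 ^ k) (congrArg Subtype.val hk))
      exact ⟨i, hi⟩
  -- the images in `A₆` of `R` commute and have order dividing three
  have hconj : ∀ (r : G) (hr : r ∈ d.M) (hgr : g * r * g⁻¹ ∈ d.S),
      Six.InP (d.pi ⟨g * r * g⁻¹, d.toHyp.S_le_M hgr⟩) := fun r hr hgr => (d.pi_S _).2 hgr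
  have hcomm : ∀ a ∈ R, ∀ b ∈ R, ∀ (ha : a ∈ d.M) (hb : b ∈ d.M),
      d.img a ha * d.img b hb = d.img b hb * d.img a ha ∧ d.img a ha * d.img a ha * d.img a ha = 1 := by
    intro a haR b hbR ha hb
    obtain ⟨-, ha'⟩ := hRM a haR
    obtain ⟨-, hb'⟩ := hRM b hbR
    have hpa := hconj a ha ha'
    have hpb := hconj b hb hb'
    set u := d.pi ⟨g * a * g⁻¹, d.toHyp.S_le_M ha'⟩ with hu
    set v := d.pi ⟨g * b * g⁻¹, d.toHyp.S_le_M hb'⟩ with hv
    have hab : ∀ (w : G) (hw : w ∈ d.M), (g * w * g⁻¹ ∈ d.J) → d.img w hw = 1 := by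
      intro w hw hwJ
      rw [d.img_eq_one hw]
      have := hgJ.inv _ hwJ
      simpa [mul_assoc] using this
    constructor
    · have h1 : d.img (a * b * a⁻¹ * b⁻¹) (mul_mem (mul_mem (mul_mem ha hb) (inv_mem ha)) (inv_mem hb)) = 1 := by
        refine hab _ _ ?_
        rw [show g * (a * b * a⁻¹ * b⁻¹) * g⁻¹ =
          (g * a * g⁻¹) * (g * b * g⁻¹) * (g * a * g⁻¹)⁻¹ * (g * b * g⁻¹)⁻¹ by group]
        refine (d.pi_ker ⟨_, mul_mem (mul_mem (mul_mem (d.toHyp.S_le_M ha') (d.toHyp.S_le_M hb'))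
          (inv_mem (d.toHyp.S_le_M ha'))) (inv_mem (d.toHyp.S_le_M hb'))⟩).1 ?_
        show d.pi ((⟨g * a * g⁻¹, d.toHyp.S_le_M ha'⟩ : d.M) * (⟨g * b * g⁻¹, d.toHyp.S_le_M hb'⟩ : d.M) * (⟨g * a * g⁻¹, d.toHyp.S_le_M ha'⟩ : d.M)⁻¹ * (⟨g * b * g⁻¹, d.toHyp.S_le_M hb'⟩ : d.M)⁻¹) = 1
        rw [map_mul, map_mul, map_mul, map_inv, map_inv, ← hu, ← hv, (Six.inP_closed u hpa v hpb).2.2,
          mul_inv_cancel_right, mul_inv_cancel]
      rw [d.img_mul (mul_mem (mul_mem ha hb) (inv_mem ha)) (inv_mem hb), d.img_mul (mul_mem ha hb) (inv_mem ha),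
        d.img_mul ha hb, d.img_inv ha, d.img_inv hb, mul_inv_eq_one, mul_inv_eq_iff_eq_mul] at h1
      exact h1
    · have h1 : d.img (a * a * a) (mul_mem (mul_mem ha ha) ha) = 1 := by
        refine hab _ _ ?_
        rw [show g * (a * a * a) * g⁻¹ = (g * a * g⁻¹) * (g * a * g⁻¹) * (g * a * g⁻¹) by group]
        refine (d.pi_ker ⟨_, mul_mem (mul_mem (d.toHyp.S_le_M ha') (d.toHyp.S_le_M ha')) (d.toHyp.S_le_M ha')⟩).1 ?_
        show d.pi ((⟨g * a * g⁻¹, d.toHyp.S_le_M ha'⟩ : d.M) * (⟨g * a * g⁻¹, d.toHyp.S_le_M ha'⟩ : d.M) * (⟨g * a * g⁻¹, d.toHyp.S_le_M ha'⟩ : d.M)) = 1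
        rw [map_mul, map_mul, ← hu]
        have key : ∀ x : Six.A6, Six.InP x → x * x * x = 1 := by decide +kernel
        exact key u hpa
      rw [d.img_mul (mul_mem ha ha) ha, d.img_mul ha ha] at h1
      exact h1
  intro r hr
  obtain ⟨hrM, -⟩ := hRM r hr
  rw [← d.img_eq_one hrM]
  by_contra h1
  have her := he r hr
  have hsr := hs r hr
  have hc1 := (hcomm r hr _ her hrM (hRM _ her).1).1
  have hc2 := (hcomm r hr _ hsr hrM (hRM _ hsr).1).1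
  rw [d.img_conj d.e_mem hrM, d.e_img] at hc1
  rw [d.img_conj d.s_mem hrM, d.s_img] at hc2
  exact Six.not_normalised _ (hcomm r hr r hr hrM hrM).2 h1 ⟨hc1, hc2⟩

/-- If the 3-core of `C(z z2)` contains its centraliser, `C(z z2)` normalises `J`. -/
theorem cent_yp {R : Subgroup G} (hp : IsPGroup 3 R) (hle : ∀ r ∈ R, r * d.yp = d.yp * r)
    (hnorm : ∀ g : G, g * d.yp * g⁻¹ = d.yp ∨ g * d.yp * g⁻¹ = d.yp⁻¹ → Norms g R)
    (hself : ∀ c : G, c * d.yp = d.yp * c → (∀ r ∈ R, c * r = r * c) → c ∈ R) :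
    ∀ c : G, c * d.yp = d.yp * c → Norms c d.J := by
  have hR : R ≤ d.J := d.three_le_J hp
    (fun c hc => hnorm c (Or.inl (by rw [hc, mul_inv_cancel_right])))
    (hnorm _ (Or.inr d.e_yp)) (hnorm _ (Or.inl d.s_yp))
  have heq : R = d.J := le_antisymm hR fun j hj =>
    hself j (d.J_comm j hj _ d.yp_J) fun r hr => d.J_comm j hj r (hR hr)
  intro c hc
  rw [← heq]
  exact hnorm c (Or.inl (by rw [hc, mul_inv_cancel_right]))

end Std

end Cfsg.Agent.Lib.McL3Local35
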