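import Cfsg.Agent.Lib.McL3Local35.QuotE

/-!
# The component `B ≅ SL(2,5)` of the centraliser of `Z` in `C(t)`
-/

set_option autoImplicit false
set_option maxRecDepth 100000
set_option synthInstance.maxSize 4000

namespace Cfsg.Agent.Lib.McL3Local35

namespace SLFive

/-- A fixed element of order three. -/
def x0 : SL := ⟨!![0, -1; 1, -1], by decide +kernel⟩

theorem x0_conj : ∀ y : SL, y * y * y = 1 → y ≠ 1 → ∃ g : SL, g * x0 = y * g := by decide +kernel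

theorem conj_transitive {x y : SL} (hx : x * x * x = 1) (hx1 : x ≠ 1) (hy : y * y * y = 1) (hy1 : y ≠ 1) :
    ∃ g : SL, g * x = y * g := by
  obtain ⟨a, ha⟩ := x0_conj x hx hx1
  obtain ⟨b, hb⟩ := x0_conj y hy hy1
  refine ⟨b * a⁻¹, ?_⟩
  calc b * a⁻¹ * x = b * a⁻¹ * (x * a) * a⁻¹ := by group
    _ = b * a⁻¹ * (a * x0) * a⁻¹ := by rw [ha]
    _ = b * x0 * a⁻¹ := by group
    _ = y * (b * a⁻¹) := by rw [hb, mul_assoc]

theorem cent_three : ∀ x : SL, x * x * x = 1 → x ≠ 1 → ∀ k : SL, k * x = x * k →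
    k = 1 ∨ k = x ∨ k = x⁻¹ ∨ k = -1 ∨ k = x * -1 ∨ k = x⁻¹ * -1 := by
  decide +kernel

end SLFive

open Subgroup

namespace Std

variable {G : Type*} [Group G] [Finite G] (d : Std G)

/-- The part of `L` centralising `t`. -/
noncomputable def Lt : Subgroup G := d.L ⊓ d.CT

theorem mem_Lt {g : G} : g ∈ d.Lt ↔ g ∈ d.L ∧ g * d.t = d.t * g := by rw [Lt, mem_inf, d.mem_CT]

/-- `Lt` onto `SL(2,5)`. -/
noncomputable def slT : d.Lt →* SLFive.SL :=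
  d.toSL.comp (Subgroup.inclusion (show d.Lt ≤ d.L from inf_le_left))

theorem slT_surj : Function.Surjective d.slT := fun g0 => by
  obtain ⟨⟨m, hm⟩, hmi⟩ := d.toSL_surj g0
  obtain ⟨q, hq, hfix⟩ := exists_fixed_mul_odd (t := d.t) (x := m) (A := d.Q) d.t_sq
    (Hyp.odd_of_three (k := 5) (by rw [d.Q_card]; norm_num))
    (d.toHyp.invol_comm_mod d.t_mem_L d.t_sq d.t_ne hm)
  refine ⟨⟨m * q, d.mem_Lt.2 ⟨mul_mem hm (d.Q_le_L hq), ?_⟩⟩, ?_⟩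
  · calc m * q * d.t = d.t * (d.t * (m * q) * d.t) := by rw [← mul_assoc, ← mul_assoc, d.t_sq, one_mul]
      _ = _ := by rw [hfix]
  · show d.toSL (⟨m, hm⟩ * ⟨q, d.Q_le_L hq⟩) = g0
    rw [map_mul, hmi, (d.toSL_ker ⟨q, d.Q_le_L hq⟩).2 hq, mul_one]

theorem slT_ker {g : d.Lt} : d.slT g = 1 ↔ (g : G) ∈ d.Z := by
  show d.toSL ⟨g, _⟩ = 1 ↔ _
  rw [d.toSL_ker]
  refine ⟨fun hQ => ?_, fun hZ => d.Z_le hZ⟩
  show (g : G) ∈ d.Z
  rw [← d.toHyp.invol_fix_Z d.t_mem_L d.t_sq d.t_ne, mem_fixIn, d.t_inv]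
  refine ⟨hQ, ?_⟩
  rw [← (d.mem_Lt.1 g.2).2, mul_assoc, d.t_sq, mul_one]

theorem Z_le_Lt : d.Z ≤ d.Lt := fun x hx => d.mem_Lt.2 ⟨d.Q_le_L (d.Z_le hx), by
  rw [← d.zpowers_z] at hx
  obtain ⟨n, rfl⟩ := hx
  exact ((show Commute d.z d.t from (d.inE_D d.z_D).comm).zpow_left n).eq⟩

theorem t_Lt : d.t ∈ d.Lt := d.mem_Lt.2 ⟨d.t_mem_L, rfl⟩

theorem D_le_Lt : d.D ≤ d.Lt := fun _ hx =>
  d.mem_Lt.2 ⟨d.toHyp.S_le_L (d.J_le (d.D_le_J hx)), (d.inE_D hx).comm⟩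

theorem Lt_card : Nat.card d.Lt = 360 := by
  have h1 := d.slT.ker.card_mul_index
  have hk : Nat.card d.slT.ker = 3 := by
    rw [← d.Z_card]
    exact Nat.card_congr
      { toFun := fun g => ⟨(g.1 : G), d.slT_ker.1 g.2⟩
        invFun := fun z => ⟨⟨z, d.Z_le_Lt z.2⟩, d.slT_ker.2 z.2⟩
        left_inv := fun _ => rfl
        right_inv := fun _ => rfl }
  have hc : Nat.card SLFive.SL = 120 := by
    rw [Nat.card_eq_fintype_card]
    decide +kernel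
  rw [Subgroup.index_ker, MonoidHom.range_eq_top.2 d.slT_surj, Subgroup.card_top, hk, hc] at h1
  omega

/-- The component. -/
noncomputable def B : Subgroup G := ⁅d.Lt, d.Lt⁆

theorem B_le_Lt : d.B ≤ d.Lt :=
  Subgroup.commutator_le.2 fun _ ha _ hb => mul_mem (mul_mem (mul_mem ha hb) (inv_mem ha)) (inv_mem hb)

theorem B_le_L : d.B ≤ d.L := d.B_le_Lt.trans inf_le_left

theorem B_le_CT : d.B ≤ d.CT := d.B_le_Lt.trans inf_le_right

theorem B_commz {b : G} (hb : b ∈ d.B) : b * d.z = d.z * b := d.L_cent b (d.B_le_L hb) _ d.z_mem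

theorem B_commt {b : G} (hb : b ∈ d.B) : b * d.t = d.t * b := d.mem_CT.1 (d.B_le_CT hb)

theorem B_inf_Z {x : G} (hB : x ∈ d.B) (hZ : x ∈ d.Z) : x = 1 := by
  classical
  set P : Subgroup d.Lt := d.D.subgroupOf d.Lt with hP
  let _ : CommGroup P :=
    { (inferInstance : Group P) with
      mul_comm := fun a b => Subtype.ext (Subtype.ext (d.J_comm _ (d.D_le_J a.2) _ (d.D_le_J b.2))) }
  set xl : d.Lt := ⟨x, d.Z_le_Lt hZ⟩ with hxl
  have hcomm : xl ∈ commutator d.Lt := by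
    have h1 : (commutator d.Lt).map d.Lt.subtype = d.B := by
      rw [B, commutator_def, Subgroup.map_commutator, ← MonoidHom.range_eq_map, Subgroup.range_subtype]
    rw [← h1] at hB
    obtain ⟨y, hy, he⟩ := hB
    rwa [show xl = y from Subtype.ext he.symm]
  have hker := Abelianization.commutator_subset_ker (MonoidHom.transfer (MonoidHom.id P)) hcomm
  have key : ∀ (k : ℕ) (g0 : d.Lt), g0⁻¹ * xl ^ k * g0 ∈ P → g0⁻¹ * xl ^ k * g0 = xl ^ k := fun k g0 _ => by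
    have hg : Commute (g0 : G) x := d.L_cent _ (d.mem_Lt.1 g0.2).1 x hZ
    refine Subtype.ext ?_
    show (g0 : G)⁻¹ * x ^ k * (g0 : G) = x ^ k
    rw [mul_assoc, ← (hg.pow_right k).eq, inv_mul_cancel_left]
  have hidx : P.index = 40 := by
    have h2 := P.card_mul_index
    rw [hP, Nat.card_congr (Subgroup.subgroupOfEquivOfLe d.D_le_Lt).toEquiv, d.D_card, d.Lt_card] at h2
    rw [hP]
    omega
  rw [MonoidHom.mem_ker, MonoidHom.transfer_eq_pow _ xl key] at hker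
  have h3 : x ^ P.index = 1 := congrArg (fun p : P => ((p : d.Lt) : G)) hker
  have hx3 : x ^ 3 = 1 := d.Q_exp _ (d.Z_le hZ)
  rwa [hidx, show (40 : ℕ) = 3 * 13 + 1 from rfl, pow_succ, pow_mul, hx3, one_pow, one_mul] at h3

/-- `B` onto `SL(2,5)`. -/
noncomputable def slB : d.B →* SLFive.SL := d.slT.comp (Subgroup.inclusion d.B_le_Lt)

theorem slB_surj : Function.Surjective d.slB := fun M => by
  obtain ⟨a, b, rfl⟩ := SLFive.is_commutator M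
  obtain ⟨a', rfl⟩ := d.slT_surj a
  obtain ⟨b', rfl⟩ := d.slT_surj b
  refine ⟨⟨_, Subgroup.commutator_mem_commutator a'.2 b'.2⟩, ?_⟩
  rw [← map_inv, ← map_inv, ← map_mul, ← map_mul, ← map_mul]
  rfl

theorem slB_inj : Function.Injective d.slB := (injective_iff_map_eq_one d.slB).2 fun b hb =>
  Subtype.ext (d.B_inf_Z b.2 (d.slT_ker.1 hb))

theorem B_card : Nat.card d.B = 120 := by
  rw [Nat.card_eq_of_bijective _ ⟨d.slB_inj, d.slB_surj⟩, Nat.card_eq_fintype_card]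
  decide +kernel

theorem B_commutator {b : G} (hb : b ∈ d.B) : ∃ a ∈ d.B, ∃ c ∈ d.B, b = a * c * a⁻¹ * c⁻¹ := by
  obtain ⟨a, c, he⟩ := SLFive.is_commutator (d.slB ⟨b, hb⟩)
  obtain ⟨a', rfl⟩ := d.slB_surj a
  obtain ⟨c', rfl⟩ := d.slB_surj c
  refine ⟨a', a'.2, c', c'.2, ?_⟩
  rw [← map_inv, ← map_inv, ← map_mul, ← map_mul, ← map_mul] at he
  exact congrArg Subtype.val (d.slB_inj he)

theorem z2_Lt : d.z2 ∈ d.Lt := d.D_le_Lt d.z2_D

theorem e1_Lt : d.e1 ∈ d.Lt := d.mem_Lt.2 ⟨d.e1_L, d.e1_comm⟩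

theorem z2_B : d.z2 ∈ d.B := by
  have h := Subgroup.commutator_mem_commutator d.e1_Lt d.z2_Lt
  rw [commutatorElement_def, d.e1_z2, ← pow_two, inv_pow, ← inv_eq_sq d.z2_three, inv_inv] at h
  exact h

theorem e1_B : d.e1 ∈ d.B := by
  obtain ⟨b, hb⟩ := d.slB_surj (d.slT ⟨d.e1, d.e1_Lt⟩)
  have hm : (b : G)⁻¹ * d.e1 ∈ d.Z := by
    have : d.slT (⟨b, d.B_le_Lt b.2⟩⁻¹ * ⟨d.e1, d.e1_Lt⟩) = 1 := by
      rw [map_mul, map_inv, show d.slT ⟨(b : G), d.B_le_Lt b.2⟩ = d.slB b from rfl, hb, inv_mul_cancel]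
    exact d.slT_ker.1 this
  have h4 : d.e1 ^ 4 = 1 := by
    rw [show 4 = 2 * 2 from rfl, pow_mul, pow_two d.e1, d.e1_sq, pow_two, d.t_sq]
  set ζ := (b : G)⁻¹ * d.e1 with hζ
  have hζ3 : ζ ^ 3 = 1 := d.Q_exp _ (d.Z_le hm)
  have hc : Commute (b : G) ζ := d.L_cent _ (d.B_le_L b.2) _ hm
  have he : d.e1 = (b : G) * ζ := by rw [hζ, mul_inv_cancel_left]
  rw [he, hc.mul_pow, show ζ ^ 4 = ζ by rw [pow_succ, hζ3, one_mul], mul_eq_one_iff_eq_inv'] at h4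
  have : ζ = 1 := d.B_inf_Z (by rw [h4]; exact inv_mem (pow_mem b.2 4)) hm
  rw [he, this, mul_one]
  exact b.2

theorem t_B : d.t ∈ d.B := d.e1_sq ▸ mul_mem d.e1_B d.e1_B

theorem norms_B {g : G} (hZ : Norms g d.Z) (hc : g * d.t = d.t * g) : Norms g d.B := by
  have hconj : ∀ x ∈ d.Lt, g * x * g⁻¹ ∈ d.Lt := fun x hx => by
    obtain ⟨hxL, hxt⟩ := d.mem_Lt.1 hx
    refine d.mem_Lt.2 ⟨d.L_normal g hZ x hxL, ?_⟩
    exact (((show Commute g d.t from hc).mul_left hxt).mul_left (Commute.inv_left hc)).eq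
  have hle : d.B ≤ d.B.comap (MulAut.conj g).toMonoidHom := Subgroup.commutator_le.2 fun a ha b hb => by
    show g * (a * b * a⁻¹ * b⁻¹) * g⁻¹ ∈ d.B
    have h := Subgroup.commutator_mem_commutator (hconj a ha) (hconj b hb)
    rw [commutatorElement_def] at h
    rw [show g * (a * b * a⁻¹ * b⁻¹) * g⁻¹ =
      (g * a * g⁻¹) * (g * b * g⁻¹) * (g * a * g⁻¹)⁻¹ * (g * b * g⁻¹)⁻¹ by group]
    exact h
  exact fun u hu => hle hu

/-- An element centralising `B` modulo `⟨t⟩` centralises it. -/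
theorem comm_B_of_mod {g : G} (h : ∀ b ∈ d.B, g * b * g⁻¹ = b ∨ g * b * g⁻¹ = b * d.t) :
    ∀ b ∈ d.B, g * b = b * g := by
  intro b hb
  obtain ⟨a, ha, c, hc, rfl⟩ := d.B_commutator hb
  rw [← mul_inv_eq_iff_eq_mul]
  have e : g * (a * c * a⁻¹ * c⁻¹) * g⁻¹ =
      (g * a * g⁻¹) * (g * c * g⁻¹) * (g * a * g⁻¹)⁻¹ * (g * c * g⁻¹)⁻¹ := by group
  have hat : Commute d.t a := (d.B_commt ha).symm
  have hct : Commute d.t c := (d.B_commt hc).symm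
  rw [e]
  rcases h a ha with h1 | h1 <;> rcases h c hc with h2 | h2 <;> rw [h1, h2]
  · calc a * (c * d.t) * a⁻¹ * (c * d.t)⁻¹ = a * c * (d.t * a⁻¹) * d.t⁻¹ * c⁻¹ := by group
      _ = a * c * a⁻¹ * c⁻¹ := by rw [hat.inv_right.eq]; group
  · calc a * d.t * c * (a * d.t)⁻¹ * c⁻¹ = a * (d.t * c) * d.t⁻¹ * a⁻¹ * c⁻¹ := by group
      _ = a * c * a⁻¹ * c⁻¹ := by rw [hct.eq]; group
  · calc a * d.t * (c * d.t) * (a * d.t)⁻¹ * (c * d.t)⁻¹ = a * (d.t * c) * a⁻¹ * (d.t⁻¹ * c⁻¹) := by group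
      _ = a * (c * d.t) * a⁻¹ * (c * d.t)⁻¹ := by rw [hct.eq, mul_inv_rev]
      _ = a * c * (d.t * a⁻¹) * d.t⁻¹ * c⁻¹ := by group
      _ = a * c * a⁻¹ * c⁻¹ := by rw [hat.inv_right.eq]; group

/-- Elements centralising `t` and `Z`. -/
noncomputable def K : Subgroup G := d.CT ⊓ centralizer ({d.z} : Set G)

theorem mem_K {g : G} : g ∈ d.K ↔ g * d.t = d.t * g ∧ g * d.z = d.z * g := by
  rw [K, mem_inf, d.mem_CT, mem_centralizer_singleton_iff]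

theorem B_le_K : d.B ≤ d.K := fun _ hb => d.mem_K.2 ⟨d.B_commt hb, d.B_commz hb⟩

theorem Kc_le_K : d.Kc ≤ d.K := fun _ hk => d.mem_K.2 ⟨(d.mem_Kc.1 hk).1, (d.mem_Kc.1 hk).2.1⟩

theorem K_norms_Z {g : G} (hg : g ∈ d.K) : Norms g d.Z :=
  Norms.of_cent fun _ hx => d.cent_Z (d.mem_K.1 hg).2 hx

theorem K_reduce {g : G} (hg : g ∈ d.K) : ∃ b ∈ d.B, ∃ k ∈ d.Kc, g = b * k := by
  obtain ⟨hgt, hgz⟩ := d.mem_K.1 hg
  have hN := d.norms_B (d.K_norms_Z hg) hgt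
  set y : d.B := ⟨g * d.z2 * g⁻¹, hN _ d.z2_B⟩ with hy
  set x : d.B := ⟨d.z2, d.z2_B⟩ with hx
  have h3 : ∀ w : d.B, (w : G) ^ 3 = 1 → d.slB w * d.slB w * d.slB w = 1 := fun w hw => by
    rw [← map_mul, ← map_mul, ← map_one d.slB]
    refine congrArg d.slB (Subtype.ext ?_)
    show (w : G) * w * w = 1
    rw [← pow_three', hw]
  have hne : ∀ w : d.B, (w : G) ≠ 1 → d.slB w ≠ 1 := fun w hw h => hw (by
    rw [← map_one d.slB] at h
    exact congrArg Subtype.val (d.slB_inj h))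
  obtain ⟨M, hM⟩ := SLFive.conj_transitive (h3 x d.z2_three) (hne x d.z2_ne)
    (h3 y (by show (g * d.z2 * g⁻¹) ^ 3 = 1; rw [conj_pow, d.z2_three]; simp))
    (hne y (by show g * d.z2 * g⁻¹ ≠ 1; simp [conj_eq_one_iff, d.z2_ne]))
  obtain ⟨b, rfl⟩ := d.slB_surj M
  rw [← map_mul, ← map_mul] at hM
  have hM' : (b : G) * d.z2 = g * d.z2 * g⁻¹ * b := congrArg Subtype.val (d.slB_inj hM)
  refine ⟨b, b.2, (b : G)⁻¹ * g, ?_, (mul_inv_cancel_left _ _).symm⟩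
  refine d.mem_Kc.2 ⟨?_, ?_, ?_⟩
  · exact ((Commute.inv_left (d.B_commt b.2)).mul_left hgt).eq
  · exact ((Commute.inv_left (d.B_commz b.2)).mul_left hgz).eq
  · calc (b : G)⁻¹ * g * d.z2 = (b : G)⁻¹ * (g * d.z2 * g⁻¹ * b) * ((b : G)⁻¹ * g) := by group
      _ = d.z2 * ((b : G)⁻¹ * g) := by rw [← hM']; group

theorem Kc_inf_B {k : G} (hk : k ∈ d.Kc) (hB : k ∈ d.B) : k ∈ d.D ∨ k * d.t ∈ d.D := by
  set x : d.B := ⟨d.z2, d.z2_B⟩ with hx
  set t' : d.B := ⟨d.t, d.t_B⟩ with ht'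
  have ht : d.slB t' = -1 := d.toHyp.invol_sl d.t_mem_L d.t_sq d.t_ne
  have h3 : d.slB x * d.slB x * d.slB x = 1 := by
    rw [← map_mul, ← map_mul, ← map_one d.slB]
    refine congrArg d.slB (Subtype.ext ?_)
    show d.z2 * d.z2 * d.z2 = 1
    rw [← pow_three', d.z2_three]
  have h1 : d.slB x ≠ 1 := fun h => d.z2_ne (by
    rw [← map_one d.slB] at h
    exact congrArg Subtype.val (d.slB_inj h))
  have hc : d.slB ⟨k, hB⟩ * d.slB x = d.slB x * d.slB ⟨k, hB⟩ := by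
    rw [← map_mul, ← map_mul]
    exact congrArg d.slB (Subtype.ext (d.mem_Kc.1 hk).2.2)
  have key : ∀ w : d.B, d.slB ⟨k, hB⟩ = d.slB w → k = (w : G) := fun w hw => congrArg Subtype.val (d.slB_inj hw)
  rcases SLFive.cent_three _ h3 h1 _ hc with h | h | h | h | h | h
  · exact Or.inl (by rw [key 1 (h.trans (map_one _).symm)]; exact one_mem _)
  · exact Or.inl (by rw [key x h]; exact d.z2_D)
  · exact Or.inl (by rw [key x⁻¹ (h.trans (map_inv _ _).symm)]; exact inv_mem d.z2_D)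
  · exact Or.inr (by rw [key t' (h.trans ht.symm)]; show d.t * d.t ∈ d.D; rw [d.t_sq]; exact one_mem _)
  · refine Or.inr ?_
    rw [key (x * t') (h.trans (by rw [map_mul, ht]))]
    show d.z2 * d.t * d.t ∈ d.D
    rw [mul_assoc, d.t_sq, mul_one]
    exact d.z2_D
  · refine Or.inr ?_
    rw [key (x⁻¹ * t') (h.trans (by rw [map_mul, map_inv, ht]))]
    show d.z2⁻¹ * d.t * d.t ∈ d.D
    rw [mul_assoc, d.t_sq, mul_one]
    exact inv_mem d.z2_D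

theorem D_comm_e1 {δ : G} (hδ : δ ∈ d.D) (h : δ * d.e1 = d.e1 * δ) : δ ∈ d.Z := by
  have hB : ∀ x ∈ d.D, ∃ i : ℕ, ∃ j : ℕ, x = d.z ^ i * d.z2 ^ j := by
    intro x hx
    refine d.D_induction (P := fun x => ∃ i : ℕ, ∃ j : ℕ, x = d.z ^ i * d.z2 ^ j) hx ⟨1, 0, by simp⟩
      ⟨0, 1, by simp⟩ ⟨0, 0, by simp⟩ ?_
    rintro a b ⟨i, j, rfl⟩ ⟨k, l, rfl⟩
    refine ⟨i + k, j + l, ?_⟩
    have hc : Commute d.z d.z2 := d.J_comm _ d.z_mem_J _ d.z2_mem_J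
    rw [pow_add, pow_add, mul_assoc, ← mul_assoc (d.z2 ^ j), (hc.pow_pow k j).symm.eq]
    simp only [mul_assoc]
  obtain ⟨i, j, rfl⟩ := hB δ hδ
  have h1 : d.e1 * (d.z ^ i * d.z2 ^ j) * d.e1⁻¹ = d.z ^ i * (d.z2⁻¹) ^ j := by
    rw [show d.e1 * (d.z ^ i * d.z2 ^ j) * d.e1⁻¹ = (d.e1 * d.z ^ i * d.e1⁻¹) * (d.e1 * d.z2 ^ j * d.e1⁻¹) by group,
      ← conj_pow, ← conj_pow, d.e1_z, d.e1_z2]
  rw [← h, mul_inv_cancel_right, mul_right_inj, inv_pow] at h1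
  have h2 : (d.z2 ^ j) ^ 3 = 1 := by rw [← pow_mul, mul_comm, pow_mul, d.z2_three, one_pow]
  by_cases h0 : d.z2 ^ j = 1
  · rw [h0, mul_one]; exact pow_mem d.z_mem i
  · exact absurd h1.symm (three_inv_ne h2 h0)

theorem plane_anti_ne {a b : Plane.M2} (hab : a * b = b * a) (hab' : a * b = -(b * a)) : a * b = 0 := by
  have key : ∀ x : ZMod 3, x = -x → x = 0 := by decide
  rw [hab] at hab' ⊢
  ext i j
  exact key _ (congrFun (congrFun hab' i) j)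

/-- An element of `C(D)` centralising `B` lies in `Z⟨t⟩`. -/
theorem Kc_comm_B {k : G} (hk : k ∈ d.Kc) (h : k * d.e1 = d.e1 * k) : k ∈ d.Z ∨ k * d.t ∈ d.Z := by
  have hE := d.Kc_inE hk
  have hc : d.rho k * d.rho d.e1 = d.rho d.e1 * d.rho k := by
    rw [← d.rho_mul hE d.inE_e1, ← d.rho_mul d.inE_e1 hE, h]
  have hne : d.rho d.e * d.rho d.e1 ≠ 0 := fun h0 => by
    have h2 : (d.rho d.e * d.rho d.e1) * (-d.rho d.e1) = d.rho d.e := by
      rw [mul_neg, mul_assoc, d.rho_e1_sq, mul_neg, neg_neg, mul_one]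
    rw [h0, zero_mul] at h2
    exact d.rho_det d.inE_e (by rw [← h2]; exact Matrix.det_zero)
  have hpm : d.rho k = 1 ∨ d.rho k = -1 := by
    rcases d.rho_q hk with hr | hr | hr | hr
    · exact Or.inl hr
    · exact Or.inr hr
    · rw [hr] at hc
      exact absurd (plane_anti_ne hc d.rho_anti) hne
    · rw [hr] at hc
      simp only [neg_mul, mul_neg, neg_inj] at hc
      exact absurd (plane_anti_ne hc d.rho_anti) hne
  rcases d.Kc_rho_pm hk hpm with hD | hD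
  · exact Or.inl (d.D_comm_e1 hD h)
  · exact Or.inr (d.D_comm_e1 hD ((show Commute k d.e1 from h).mul_left d.e1_comm.symm).eq)

/-- The kernel of the action of `C(t,Z)` on `B`. -/
theorem K_comm_B {g : G} (hg : g ∈ d.K) (h : ∀ b ∈ d.B, g * b = b * g) : g ∈ d.Z ∨ g * d.t ∈ d.Z := by
  obtain ⟨hgt, hgz⟩ := d.mem_K.1 hg
  exact d.Kc_comm_B (d.mem_Kc.2 ⟨hgt, hgz, h _ d.z2_B⟩) (h _ d.e1_B)

end Std

end Cfsg.Agent.Lib.McL3Local35
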