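import Cfsg.Agent.Lib.McL3Local35.Tools

/-!
# Splitting the centraliser and normaliser of an element of order three
-/

set_option autoImplicit false
set_option maxRecDepth 100000

namespace Cfsg.Agent.Lib.McL3Local35.Split

open Subgroup Equiv

/-- The rotation of three letters. -/
def rot : Perm (Fin 3) := ⟨![1, 2, 0], ![2, 0, 1], by decide, by decide⟩

/-- A flip of three letters. -/
def flip : Perm (Fin 3) := ⟨![0, 2, 1], ![0, 2, 1], by decide, by decide⟩

/-- The dihedral group of order six on three letters. -/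
def dihedralPerm : DihedralGroup 3 →* Perm (Fin 3) :=
  dihedralHom rot flip (by decide) (by decide) (by decide)

theorem dihedralPerm_bijective : Function.Bijective dihedralPerm := by
  constructor
  · intro x y h
    have key : ∀ x y : DihedralGroup 3, dihedralPerm x = dihedralPerm y → x = y := by decide
    exact key x y h
  · intro y
    have key : ∀ y : Perm (Fin 3), ∃ x, dihedralPerm x = y := by decide
    exact key y

theorem sign_dihedralPerm_r : ∀ i : ZMod 3, Perm.sign (dihedralPerm (.r i)) = 1 := by decide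

theorem sign_dihedralPerm_sr : ∀ i : ZMod 3, Perm.sign (dihedralPerm (.sr i)) = -1 := by decide

section

variable {X : Type*} [Group X]

/-- The cyclic group of order three generated by an element. -/
def c3Hom (z : X) (hz : z ^ 3 = 1) : Multiplicative (ZMod 3) →* X where
  toFun i := z ^ (Multiplicative.toAdd i).val
  map_one' := pow_zero _
  map_mul' := fun i j => by
    rw [toAdd_mul, ← pow_add, ZMod.val_add]
    exact (pow_eq_pow_mod _ hz).symm

theorem c3Hom_mem (z : X) (hz : z ^ 3 = 1) (i : Multiplicative (ZMod 3)) : c3Hom z hz i ∈ zpowers z :=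
  pow_mem (mem_zpowers z) _

theorem c3Hom_inj {z : X} (hz : z ^ 3 = 1) (hz1 : z ≠ 1) {i : Multiplicative (ZMod 3)} (h : c3Hom z hz i = 1) :
    i = 1 := by
  have hi : (Multiplicative.toAdd i).val = 0 := by
    by_contra hne
    have hlt := ZMod.val_lt (Multiplicative.toAdd i)
    have hd := orderOf_dvd_of_pow_eq_one (x := z) h
    rw [orderOf_eq_prime hz hz1] at hd
    have := Nat.le_of_dvd (Nat.pos_of_ne_zero hne) hd
    omega
  exact toAdd_eq_zero.1 ((ZMod.val_eq_zero _).1 hi)

theorem c3Hom_surj {z : X} (hz : z ^ 3 = 1) {x : X} (hx : x ∈ zpowers z) : ∃ i, c3Hom z hz i = x := by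
  rcases pow_three_cases hz hx with rfl | rfl | rfl
  · exact ⟨1, map_one _⟩
  · exact ⟨Multiplicative.ofAdd 1, pow_one _⟩
  · exact ⟨Multiplicative.ofAdd 2, (inv_eq_sq hz).symm⟩

variable {z : X} {Y : Subgroup X} (hz3 : z ^ 3 = 1) (hz1 : z ≠ 1) (hYz : ∀ y ∈ Y, y * z = z * y)
  (hdis : ∀ y ∈ Y, y ∈ zpowers z → y = 1)
  (hcov : ∀ g : X, g * z = z * g → ∃ y ∈ Y, g * y⁻¹ ∈ zpowers z)

include hz3 hz1 hYz hdis hcov in
theorem split_cent :
    Nonempty (centralizer ({z} : Set X) ≃* Multiplicative (ZMod 3) × Y) := by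
  have hle : ∀ y ∈ Y, y ∈ centralizer ({z} : Set X) := fun y hy => mem_centralizer_singleton_iff.2 (hYz y hy)
  let f : Multiplicative (ZMod 3) →* centralizer ({z} : Set X) :=
    (c3Hom z hz3).codRestrict _ fun i => mem_centralizer_singleton_iff.2
      ((Commute.refl z).pow_left _).eq
  let g : Y →* centralizer ({z} : Set X) := Subgroup.inclusion hle
  have hcomm : ∀ i y, Commute (f i) (g y) := fun i y => Subtype.ext
    ((show Commute z (y : X) from (hYz y y.2).symm).pow_left _).eq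
  refine ⟨(MulEquiv.ofBijective (f.noncommCoprod g hcomm) ⟨?_, ?_⟩).symm⟩
  · rw [injective_iff_map_eq_one]
    rintro ⟨i, y⟩ h
    rw [MonoidHom.noncommCoprod_apply] at h
    have h' : c3Hom z hz3 i * (y : X) = 1 := congrArg Subtype.val h
    have hy : (y : X) = 1 := hdis y y.2 (by
      rw [eq_inv_of_mul_eq_one_right h']
      exact inv_mem (c3Hom_mem z hz3 i))
    rw [hy, mul_one] at h'
    exact Prod.ext (c3Hom_inj hz3 hz1 h') (Subtype.ext hy)
  · rintro ⟨x, hx⟩
    obtain ⟨y, hy, hm⟩ := hcov x (mem_centralizer_singleton_iff.1 hx)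
    obtain ⟨i, hi⟩ := c3Hom_surj hz3 hm
    refine ⟨(i, ⟨y, hy⟩), ?_⟩
    rw [MonoidHom.noncommCoprod_apply]
    refine Subtype.ext ?_
    show c3Hom z hz3 i * y = x
    rw [hi, inv_mul_cancel_right]

variable {w : X} (hw : w * w = 1) (hwz : w * z * w⁻¹ = z⁻¹) (hYw : ∀ y ∈ Y, w * y * w⁻¹ ∈ Y)

include hz3 hz1 hYz hdis hcov hw hwz hYw in
theorem split_norm [Finite X] {P : Type*} [Group P] (N : Subgroup X)
    (hN : N = normalizer (zpowers z : Set X)) (α : N →* P)
    (hinj : ∀ g : N, (g : X) ∈ Y → α g = 1 → g = 1) :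
    ∃ Φ : N →* Perm (Fin 3) × P, Function.Injective Φ ∧
      Nat.card N = 6 * Nat.card Y ∧
      ∀ f : P →* ℤˣ, (∀ g : N, (g : X) ∈ Y → f (α g) = 1) →
        (∀ g : N, (g : X) = z → f (α g) = 1) →
        (∀ g : N, (g : X) = w → f (α g) = -1) →
        ∀ g, Perm.sign (Φ g).1 * f (Φ g).2 = 1 := by
  have hwi : w⁻¹ = w := inv_eq_of_mul_eq_one_right hw
  have hzN : z ∈ N := hN ▸ le_normalizer (mem_zpowers z)
  have hwN : w ∈ N := hN ▸ Subgroup.mem_normalizer_fintype fun y hy => by
    obtain ⟨n, rfl⟩ := hy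
    show w * z ^ n * w⁻¹ ∈ zpowers z
    rw [← conj_zpow, hwz]
    exact zpow_mem (inv_mem (mem_zpowers z)) n
  have hYN : Y ≤ N := fun y hy => hN ▸ Subgroup.mem_normalizer_fintype fun x hx => by
    obtain ⟨n, rfl⟩ := hx
    show y * z ^ n * y⁻¹ ∈ zpowers z
    rw [← conj_zpow, hYz y hy, mul_inv_cancel_right]
    exact zpow_mem (mem_zpowers z) n
  have hne : z⁻¹ ≠ z := fun h => hz1 (by
    have h2 : z * z = 1 := by nth_rw 1 [← h]; exact inv_mul_cancel z
    rw [pow_succ, pow_two, h2, one_mul] at hz3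
    exact hz3)
  -- the shape of the members of `N`
  have hshape : ∀ g ∈ N, ∃ y ∈ Y, ∃ c ∈ zpowers z, g = c * y ∨ g = c * y * w := by
    intro g hg
    have hm : g * z * g⁻¹ ∈ zpowers z := (mem_normalizer_iff.1 (hN ▸ hg) z).1 (mem_zpowers z)
    rcases pow_three_cases hz3 hm with h | h | h
    · exact absurd (by simpa using h) hz1
    · obtain ⟨y, hy, hc⟩ := hcov g (mul_inv_eq_iff_eq_mul.1 h)
      exact ⟨y, hy, _, hc, Or.inl (inv_mul_cancel_right _ _).symm⟩
    · obtain ⟨y, hy, hc⟩ := hcov (g * w) (mul_inv_eq_iff_eq_mul.1 (by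
        calc g * w * z * (g * w)⁻¹ = (g * (w * z * w⁻¹) * g⁻¹) := by group
          _ = (g * z * g⁻¹)⁻¹ := by rw [hwz]; group
          _ = z := by rw [h, inv_inv]))
      refine ⟨y, hy, _, hc, Or.inr ?_⟩
      rw [inv_mul_cancel_right, mul_assoc, hw, mul_one]
  have hnorm : (Y.subgroupOf N).Normal := ⟨fun n hn g => by
    replace hn : (n : X) ∈ Y := hn
    show (g : X) * n * (g : X)⁻¹ ∈ Y
    obtain ⟨y, hy, c, hc, hg⟩ := hshape g g.2
    have hzc : ∀ x ∈ Y, c * x * c⁻¹ = x := fun x hx => by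
      obtain ⟨k, rfl⟩ := hc
      show z ^ k * x * (z ^ k)⁻¹ = x
      rw [((show Commute z x from (hYz x hx).symm).zpow_left k).eq, mul_inv_cancel_right]
    rcases hg with hg | hg <;> rw [hg]
    · have e : c * y * (n : X) * (c * y)⁻¹ = c * (y * n * y⁻¹) * c⁻¹ := by group
      rw [e, hzc _ (mul_mem (mul_mem hy hn) (inv_mem hy))]
      exact mul_mem (mul_mem hy hn) (inv_mem hy)
    · have e : c * y * w * (n : X) * (c * y * w)⁻¹ = c * (y * (w * n * w⁻¹) * y⁻¹) * c⁻¹ := by group
      have hm := mul_mem (mul_mem hy (hYw _ hn)) (inv_mem hy)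
      rw [e, hzc _ hm]
      exact hm⟩
  set π := QuotientGroup.mk' (Y.subgroupOf N) with hπ
  have hπ1 : ∀ g : N, π g = 1 ↔ (g : X) ∈ Y := fun g => QuotientGroup.eq_one_iff g
  set a := π ⟨z, hzN⟩ with ha
  set b := π ⟨w, hwN⟩ with hb
  have ha3 : a ^ 3 = 1 := by
    rw [ha, ← map_pow]; exact (hπ1 _).2 (by show z ^ 3 ∈ Y; rw [hz3]; exact one_mem _)
  have hb2 : b * b = 1 := by
    rw [hb, ← map_mul]; exact (hπ1 _).2 (by show w * w ∈ Y; rw [hw]; exact one_mem _)
  have hab : b * a * b = a⁻¹ := by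
    rw [ha, hb, ← map_mul, ← map_mul, ← map_inv]
    refine congrArg π (Subtype.ext ?_)
    show w * z * w = z⁻¹
    rw [← hwz, hwi]
  set ψ := dihedralHom a b ha3 hb2 hab with hψ
  have hbij : Function.Bijective ψ := by
    constructor
    · rw [injective_iff_map_eq_one]
      rintro (i | i) h
      · rw [hψ, dihedralHom_r, ha, ← map_pow, hπ1] at h
        have h1 := hdis _ h (pow_mem (mem_zpowers z) _)
        have h2 := c3Hom_inj hz3 hz1 (i := Multiplicative.ofAdd i) h1
        rw [ofAdd_eq_one] at h2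
        rw [h2]; rfl
      · exfalso
        rw [hψ, dihedralHom_sr, ha, hb, ← map_pow, ← map_mul, hπ1] at h
        have h1 := hYz _ h
        have e : w * z ^ i.val * z = w * z * z ^ i.val := by
          rw [mul_assoc, ← pow_succ, pow_succ', mul_assoc]
        change w * z ^ i.val * z = z * (w * z ^ i.val) at h1
        rw [e, ← mul_assoc] at h1
        have h3 := mul_right_cancel h1
        rw [← mul_inv_eq_iff_eq_mul, hwz] at h3
        exact hne h3
    · intro x
      obtain ⟨g, rfl⟩ := QuotientGroup.mk'_surjective _ x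
      obtain ⟨y, hy, c, hc, hg⟩ := hshape g g.2
      obtain ⟨i, hi⟩ := c3Hom_surj hz3 hc
      have hc' : π ⟨c, (zpowers_le.2 hzN) hc⟩ = a ^ (Multiplicative.toAdd i).val := by
        rw [ha, ← map_pow]; exact congrArg π (Subtype.ext hi.symm)
      have hy' : π ⟨y, hYN hy⟩ = 1 := (hπ1 _).2 hy
      rcases hg with hg | hg
      · refine ⟨.r (Multiplicative.toAdd i), ?_⟩
        rw [hψ, dihedralHom_r, ← hc',
          show g = ⟨c, (zpowers_le.2 hzN) hc⟩ * ⟨y, hYN hy⟩ from Subtype.ext hg, map_mul, hy', mul_one]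
      · refine ⟨.r (Multiplicative.toAdd i) * .sr 0, ?_⟩
        rw [map_mul, hψ, dihedralHom_r, dihedralHom_sr, ZMod.val_zero, pow_zero, mul_one, ← hc', hb,
          show g = ⟨c, (zpowers_le.2 hzN) hc⟩ * ⟨y, hYN hy⟩ * ⟨w, hwN⟩ from Subtype.ext hg,
          map_mul (QuotientGroup.mk' (Y.subgroupOf N)), map_mul (QuotientGroup.mk' (Y.subgroupOf N)), ← hπ, hy',
          mul_one]
  set e := MulEquiv.ofBijective ψ hbij with he
  set χ : N →* Perm (Fin 3) := (dihedralPerm.comp e.symm.toMonoidHom).comp π with hχ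
  have hχ1 : ∀ g, χ g = 1 → (g : X) ∈ Y := fun g hg => by
    have h1 : e.symm (π g) = 1 := dihedralPerm_bijective.1 (hg.trans (map_one _).symm)
    rw [← map_one e.symm] at h1
    exact (hπ1 g).1 (e.symm.injective h1)
  have hχv : ∀ (g : N) (x : DihedralGroup 3), ψ x = π g → χ g = dihedralPerm x := fun g x hx => by
    show dihedralPerm (e.symm (π g)) = _
    rw [← hx, show ψ x = e x from rfl, MulEquiv.symm_apply_apply]
  refine ⟨χ.prod α, ?_, ?_, fun f hfY hfz hfw g => ?_⟩
  · rw [injective_iff_map_eq_one]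
    intro g hg
    rw [MonoidHom.prod_apply, Prod.mk_eq_one] at hg
    exact hinj g (hχ1 g hg.1) hg.2
  · have h1 := (Y.subgroupOf N).card_mul_index
    rw [Subgroup.index, ← Nat.card_congr e.toEquiv, Nat.card_congr (Subgroup.subgroupOfEquivOfLe hYN).toEquiv,
      DihedralGroup.nat_card] at h1
    omega
  · obtain ⟨y, hy, c, hc, hg⟩ := hshape g g.2
    obtain ⟨i, hi⟩ := c3Hom_surj hz3 hc
    set zN : N := ⟨z, hzN⟩ with hzN'
    set yN : N := ⟨y, hYN hy⟩ with hyN'
    set wN : N := ⟨w, hwN⟩ with hwN'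
    set σ : N →* ℤˣ := (Perm.sign.comp χ) * (f.comp α) with hσ
    show σ g = 1
    have hσz : σ zN = 1 := by
      show Perm.sign (χ zN) * f (α zN) = 1
      rw [hχv zN (.r 1) (pow_one _), sign_dihedralPerm_r, hfz zN rfl, one_mul]
    have hσy : σ yN = 1 := by
      show Perm.sign (χ yN) * f (α yN) = 1
      rw [hχv yN 1 ((map_one ψ).trans ((hπ1 yN).2 hy).symm), map_one, map_one, hfY yN hy, one_mul]
    have hσw : σ wN = 1 := by
      show Perm.sign (χ wN) * f (α wN) = 1
      rw [hχv wN (.sr 0) (by rw [hψ, dihedralHom_sr, ZMod.val_zero, pow_zero, mul_one]), sign_dihedralPerm_sr,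
        hfw wN rfl]
      decide
    rcases hg with hg | hg
    · rw [show g = zN ^ (Multiplicative.toAdd i).val * yN from Subtype.ext (by rw [hg, ← hi]; rfl), map_mul, map_pow,
        hσz, hσy, one_pow, one_mul]
    · rw [show g = zN ^ (Multiplicative.toAdd i).val * yN * wN from Subtype.ext (by rw [hg, ← hi]; rfl), map_mul,
        map_mul, map_pow, hσz, hσy, hσw, one_pow, one_mul, one_mul]

end

end Cfsg.Agent.Lib.McL3Local35.Split
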