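import Cfsg.Agent.Lib.McL3Local35.CompB
import Cfsg.Agent.Lib.McL3Local35.Split
import Cfsg.Agent.Lib.Spectrum.SL25Recognition
import Cfsg.Agent.Lib.Alternating.Aut

/-!
# The centraliser and the normaliser of the image of `Z`
-/

set_option autoImplicit false
set_option maxRecDepth 100000

namespace Cfsg.Agent.Lib.McL3Local35

open Subgroup Equiv

/-- A homomorphism to a commutative group kills commutators. -/
theorem map_commutator_one {H A : Type*} [Group H] [CommGroup A] (f : H →* A) (a b : H) :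
    f (a * b * a⁻¹ * b⁻¹) = 1 := by
  simp [mul_assoc, mul_comm]

namespace Std

variable {G : Type*} [Group G] [Finite G] (d : Std G)

/-- The image of an element of `C(t)`. -/
noncomputable def img' (g : G) (hg : g ∈ d.CT) : d.X := d.q ⟨g, hg⟩

theorem img'_mul {a b : G} (ha : a ∈ d.CT) (hb : b ∈ d.CT) :
    d.img' (a * b) (mul_mem ha hb) = d.img' a ha * d.img' b hb := map_mul d.q ⟨a, ha⟩ ⟨b, hb⟩

/-- The image of the component. -/
noncomputable def Bb : Subgroup d.X := (d.B.subgroupOf d.CT).map d.q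

theorem mem_Bb {x : d.X} : x ∈ d.Bb ↔ ∃ b : d.CT, (b : G) ∈ d.B ∧ d.q b = x := by
  rw [Bb, Subgroup.mem_map]; rfl

theorem Bb_mem {b : G} (hb : b ∈ d.B) : d.q ⟨b, d.B_le_CT hb⟩ ∈ d.Bb := d.mem_Bb.2 ⟨_, hb, rfl⟩

theorem Bb_iff {c : d.CT} : d.q c ∈ d.Bb ↔ (c : G) ∈ d.B := by
  refine ⟨fun h => ?_, fun h => d.mem_Bb.2 ⟨c, h, rfl⟩⟩
  obtain ⟨b, hb, he⟩ := d.mem_Bb.1 h
  rcases d.q_eq.1 he with h | h <;> rw [h]
  exacts [hb, mul_mem hb d.t_B]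

theorem Bb_card : Nat.card d.Bb = 60 := by
  have h := d.card_image d.B_le_CT d.t_B
  rw [d.B_card] at h
  rw [Bb]
  omega

theorem Bb_commutator (x : d.Bb) : ∃ a c : d.Bb, x = a * c * a⁻¹ * c⁻¹ := by
  obtain ⟨⟨b, hb⟩, hB, he⟩ := d.mem_Bb.1 x.2
  obtain ⟨a, ha, c, hc, rfl⟩ := d.B_commutator hB
  refine ⟨⟨_, d.Bb_mem ha⟩, ⟨_, d.Bb_mem hc⟩, Subtype.ext ?_⟩
  rw [← he]
  show _ = d.q ⟨a, d.B_le_CT ha⟩ * d.q ⟨c, d.B_le_CT hc⟩ * (d.q ⟨a, d.B_le_CT ha⟩)⁻¹ * (d.q ⟨c, d.B_le_CT hc⟩)⁻¹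
  rw [← map_inv, ← map_inv, ← map_mul, ← map_mul, ← map_mul]
  rfl

theorem Bb_nonempty_equiv : Nonempty (d.Bb ≃* alternatingGroup (Fin 5)) := by
  refine Cfsg.Agent.Lib.Spectrum.nonempty_equiv_a5_of_card_sixty d.Bb_card fun hs => ?_
  have : Nontrivial d.Bb := Finite.one_lt_card_iff_nontrivial.1 (by rw [d.Bb_card]; norm_num)
  refine absurd (le_antisymm le_top fun x _ => ?_) (hs.commutator_lt_top_of_nontrivial).ne
  obtain ⟨a, c, rfl⟩ := d.Bb_commutator x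
  rw [commutator_def, ← commutatorElement_def]
  exact Subgroup.commutator_mem_commutator (mem_top a) (mem_top c)

/-- The normaliser of the image of `Z`. -/
noncomputable abbrev NZ : Subgroup d.X := normalizer (zpowers d.zb : Set d.X)

theorem zb_three : d.zb ^ 3 = 1 := d.Db_exp _ (d.Db_mem d.z_D)

theorem zb_ne : d.zb ≠ 1 := fun h => d.z_ne
  (d.q_three (a := ⟨d.z, d.D_le_CT d.z_D⟩) (b := 1) d.z_three (by simp) (h.trans (map_one _).symm))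

theorem zb_zpow {x : d.X} (hx : x ∈ zpowers d.zb) : ∃ c : d.CT, (c : G) ∈ d.Z ∧ d.q c = x := by
  obtain ⟨n, rfl⟩ := hx
  exact ⟨⟨d.z, d.D_le_CT d.z_D⟩ ^ n, by rw [SubgroupClass.coe_zpow]; exact zpow_mem d.z_mem n, map_zpow _ _ _⟩

theorem q_Z {c : d.CT} (hc : (c : G) ∈ d.Z ∨ (c : G) * d.t ∈ d.Z) : d.q c ∈ zpowers d.zb := by
  have key : ∀ c : d.CT, (c : G) ∈ d.Z → d.q c ∈ zpowers d.zb := fun c hc => by
    rw [← d.zpowers_z] at hc
    obtain ⟨n, hn⟩ := hc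
    refine ⟨n, ?_⟩
    rw [show c = ⟨d.z, d.D_le_CT d.z_D⟩ ^ n from Subtype.ext (by rw [SubgroupClass.coe_zpow]; exact hn.symm),
      map_zpow]
    rfl
  rcases hc with hc | hc
  · exact key c hc
  · have h1 := key (c * d.tt) hc
    rwa [map_mul, d.q_eq_one.2 (Or.inr rfl : (d.tt : G) = 1 ∨ (d.tt : G) = d.t), mul_one] at h1

theorem Bb_zb {y : d.X} (hy : y ∈ d.Bb) : y * d.zb = d.zb * y := by
  obtain ⟨b, hb, rfl⟩ := d.mem_Bb.1 hy
  rw [zb, ← map_mul, ← map_mul]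
  exact congrArg d.q (Subtype.ext (d.B_commz hb))

theorem lift_comm_zb {c : d.CT} (h : d.q c * d.zb = d.zb * d.q c) : (c : G) ∈ d.K :=
  d.mem_K.2 ⟨d.mem_CT.1 c.2, d.comm_three (a := ⟨d.z, d.D_le_CT d.z_D⟩) d.z_three h⟩

theorem lift_NZ {c : d.CT} (h : d.q c ∈ d.NZ) : Norms (c : G) d.Z := by
  have hm := (mem_normalizer_iff.1 h d.zb).1 (mem_zpowers _)
  obtain ⟨a, ha, he⟩ := d.zb_zpow hm
  intro x hx
  rw [← d.zpowers_z] at hx
  obtain ⟨n, rfl⟩ := hx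
  show (c : G) * d.z ^ n * (c : G)⁻¹ ∈ d.Z
  rw [← conj_zpow]
  refine zpow_mem ?_ n
  rw [d.conj_three (c := c) (a := ⟨d.z, d.D_le_CT d.z_D⟩) (b := a) d.z_three (d.Q_exp _ (d.Z_le ha)) he.symm]
  exact ha

theorem NZ_Bb {g : d.X} (hg : g ∈ d.NZ) {y : d.X} (hy : y ∈ d.Bb) : g * y * g⁻¹ ∈ d.Bb := by
  obtain ⟨c, rfl⟩ := d.q_surj g
  obtain ⟨b, hb, rfl⟩ := d.mem_Bb.1 hy
  rw [← map_inv, ← map_mul, ← map_mul, d.Bb_iff]
  exact d.norms_B (d.lift_NZ hg) (d.mem_CT.1 c.2) _ hb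

theorem Bb_le_NZ : d.Bb ≤ d.NZ := fun y hy => Subgroup.mem_normalizer_fintype fun x hx => by
  obtain ⟨n, rfl⟩ := hx
  show y * d.zb ^ n * y⁻¹ ∈ zpowers d.zb
  rw [← conj_zpow, d.Bb_zb hy, mul_inv_cancel_right]
  exact zpow_mem (mem_zpowers _) n

theorem exists_alpha : ∃ α : d.NZ →* Perm (Fin 5),
    ∀ g : d.NZ, α g = 1 ↔ ∀ y ∈ d.Bb, (g : d.X) * y = y * (g : d.X) := by
  obtain ⟨eA⟩ := d.Bb_nonempty_equiv
  have : (d.Bb.subgroupOf d.NZ).Normal := ⟨fun n hn g => d.NZ_Bb g.2 (y := (n : d.X)) hn⟩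
  set e' := (Subgroup.subgroupOfEquivOfLe d.Bb_le_NZ).trans eA with he'
  refine ⟨((Cfsg.Agent.Lib.Alternating.autEquiv (α := Fin 5) (by simp) (by simp)).symm.toMonoidHom.comp
    (MulAut.congr e').toMonoidHom).comp MulAut.conjNormal, fun g => ?_⟩
  rw [MonoidHom.comp_apply, MonoidHom.comp_apply, MulEquiv.coe_toMonoidHom, MulEquiv.coe_toMonoidHom,
    EmbeddingLike.map_eq_one_iff, EmbeddingLike.map_eq_one_iff]
  constructor
  · intro h y hy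
    have h1 : (((MulAut.conjNormal g) ⟨⟨y, d.Bb_le_NZ hy⟩, hy⟩ : d.Bb.subgroupOf d.NZ) : d.X) = y := by rw [h]; rfl
    rw [MulAut.conjNormal_apply] at h1
    exact mul_inv_eq_iff_eq_mul.1 h1
  · intro h
    ext1 y
    refine Subtype.ext (Subtype.ext ?_)
    rw [MulAut.conjNormal_apply]
    show (g : d.X) * ((y : d.NZ) : d.X) * (g : d.X)⁻¹ = _
    exact mul_inv_eq_iff_eq_mul.2 (h _ y.2)

/-- The action on the component. -/
noncomputable def alpha : d.NZ →* Perm (Fin 5) := d.exists_alpha.choose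

theorem alpha_eq_one {g : d.NZ} :
    d.alpha g = 1 ↔ ∀ y ∈ d.Bb, (g : d.X) * y = y * (g : d.X) := d.exists_alpha.choose_spec g

/-- A lift of an element centralising the image of `B` centralises `B`. -/
theorem lift_comm {c : d.CT} (h : ∀ y ∈ d.Bb, d.q c * y = y * d.q c) : ∀ b ∈ d.B, (c : G) * b = b * c := by
  refine d.comm_B_of_mod fun b hb => ?_
  have h1 := h _ (d.Bb_mem hb)
  rw [← mul_inv_eq_iff_eq_mul, ← map_inv, ← map_mul, ← map_mul, eq_comm] at h1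
  exact d.q_eq.1 h1

theorem alpha_even {g : d.NZ} (hg : (g : d.X) ∈ d.Bb) : Perm.sign (d.alpha g) = 1 := by
  obtain ⟨a, c, he⟩ := d.Bb_commutator ⟨g, hg⟩
  set a' : d.NZ := ⟨a, d.Bb_le_NZ a.2⟩ with ha'
  set c' : d.NZ := ⟨c, d.Bb_le_NZ c.2⟩ with hc'
  rw [show g = a' * c' * a'⁻¹ * c'⁻¹ from Subtype.ext (congrArg Subtype.val he :)]
  exact map_commutator_one (Perm.sign.comp d.alpha) a' c'

theorem alpha_zb {g : d.NZ} (hg : (g : d.X) = d.zb) : d.alpha g = 1 :=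
  d.alpha_eq_one.2 fun y hy => by rw [hg, d.Bb_zb hy]

theorem Bb_inf_zb {y : d.X} (hy : y ∈ d.Bb) (hz : y ∈ zpowers d.zb) : y = 1 := by
  obtain ⟨c, hc, rfl⟩ := d.zb_zpow hz
  rw [show c = 1 from Subtype.ext (d.B_inf_Z (d.Bb_iff.1 hy) hc), map_one]

theorem alpha_inj_Bb {g : d.NZ} (hg : (g : d.X) ∈ d.Bb) (h : d.alpha g = 1) : g = 1 := by
  obtain ⟨c, hc, he⟩ := d.mem_Bb.1 hg
  have h1 := d.K_comm_B (d.B_le_K hc) (d.lift_comm (by rw [he]; exact d.alpha_eq_one.1 h))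
  exact Subtype.ext (d.Bb_inf_zb hg (he ▸ d.q_Z h1))

theorem alpha_Bb_onto {σ : Perm (Fin 5)} (hσ : Perm.sign σ = 1) :
    ∃ g : d.NZ, (g : d.X) ∈ d.Bb ∧ d.alpha g = σ := by
  set f := d.alpha.comp (Subgroup.inclusion d.Bb_le_NZ) with hf
  have hinj : Function.Injective f := (injective_iff_map_eq_one f).2 fun y hy =>
    Subtype.ext (congrArg (fun g : d.NZ => (g : d.X)) (d.alpha_inj_Bb (g := ⟨y, d.Bb_le_NZ y.2⟩) y.2 hy) :)
  have hle : f.range ≤ alternatingGroup (Fin 5) := by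
    rintro _ ⟨y, rfl⟩
    exact Perm.mem_alternatingGroup.2 (d.alpha_even y.2)
  have he : f.range = alternatingGroup (Fin 5) := Subgroup.eq_of_le_of_card_ge hle (by
    rw [← Nat.card_congr (MonoidHom.ofInjective hinj).toEquiv, d.Bb_card, nat_card_alternatingGroup,
      Nat.card_eq_fintype_card, Fintype.card_fin]
    decide)
  have hm : σ ∈ f.range := he ▸ Perm.mem_alternatingGroup.2 hσ
  obtain ⟨y, rfl⟩ := hm
  exact ⟨_, y.2, rfl⟩

theorem e2_CT : d.e2 ∈ d.CT := d.mem_CT.2 d.inE_e2.comm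

/-- The image of `e2`. -/
noncomputable def wb : d.X := d.q ⟨d.e2, d.e2_CT⟩

theorem wb_sq : d.wb * d.wb = 1 := by
  rw [wb, ← map_mul]
  refine d.q_eq_one.2 (Or.inr ?_)
  show d.e2 * d.e2 = d.t
  calc d.e2 * d.e2 = d.s * d.e1 * (d.s * d.s) * d.e1 * d.s := by rw [e2]; group
    _ = d.s * (d.e1 * d.e1) * d.s := by rw [d.s_sq]; group
    _ = d.t := by rw [d.e1_sq, d.s_comm, mul_assoc, d.s_sq, mul_one]

theorem wb_zb : d.wb * d.zb * d.wb⁻¹ = d.zb⁻¹ := by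
  rw [wb, zb, ← map_inv, ← map_inv, ← map_mul, ← map_mul]
  exact congrArg d.q (Subtype.ext d.e2_z)

theorem wb_NZ : d.wb ∈ d.NZ := Subgroup.mem_normalizer_fintype fun y hy => by
  obtain ⟨n, rfl⟩ := hy
  show d.wb * d.zb ^ n * d.wb⁻¹ ∈ zpowers d.zb
  rw [← conj_zpow, d.wb_zb]
  exact zpow_mem (inv_mem (mem_zpowers _)) n

theorem alpha_wb {g : d.NZ} (hg : (g : d.X) = d.wb) : Perm.sign (d.alpha g) = -1 := by
  rcases Int.units_eq_one_or (Perm.sign (d.alpha g)) with h | h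
  · exfalso
    obtain ⟨k, hk, hke⟩ := d.alpha_Bb_onto (σ := (d.alpha g)⁻¹) (by rw [map_inv, h]; simp)
    have h1 : d.alpha (g * k) = 1 := by rw [map_mul, hke, mul_inv_cancel]
    obtain ⟨⟨b, hbt⟩, hb, hbe⟩ := d.mem_Bb.1 hk
    replace hb : b ∈ d.B := hb
    have hc := d.lift_comm (c := ⟨d.e2, d.e2_CT⟩ * ⟨b, hbt⟩) (by
      rw [map_mul, hbe, show d.q ⟨d.e2, d.e2_CT⟩ = (g : d.X) from hg.symm]
      exact d.alpha_eq_one.1 h1)
    have h2 : d.e2 * b * d.z2 = d.z2 * (d.e2 * b) := hc _ d.z2_B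
    have h3 : d.e2 * d.z2 = d.z2 * d.e2 := mul_inv_eq_iff_eq_mul.1 d.e2_z2
    have h4 : b * d.z2 = d.z2 * b := by
      refine mul_left_cancel (a := d.e2) ?_
      rw [← mul_assoc, h2, ← mul_assoc, ← h3, mul_assoc]
    have hbK : b ∈ d.Kc := d.mem_Kc.2 ⟨d.B_commt hb, d.B_commz hb, h4⟩
    have hr : d.rho b = 1 ∨ d.rho b = -1 := by
      rcases d.Kc_inf_B hbK hb with hD | hD
      · exact Or.inl (d.rho_D hD)
      · right
        have := d.rho_D hD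
        rw [d.rho_mul (d.Kc_inE hbK) d.inE_t, d.rho_t, mul_neg, mul_one, neg_eq_iff_eq_neg] at this
        exact this
    have hcE : d.rho (d.e2 * b) * d.rho d.e1 = d.rho d.e1 * d.rho (d.e2 * b) := by
      rw [← d.rho_mul (d.inE_e2.mul (d.Kc_inE hbK)) d.inE_e1, ← d.rho_mul d.inE_e1 (d.inE_e2.mul (d.Kc_inE hbK))]
      exact congrArg d.rho (hc _ d.e1_B)
    have hx : d.rho (d.e2 * b) = d.rho d.e * d.rho d.e1 ∨ d.rho (d.e2 * b) = -(d.rho d.e * d.rho d.e1) := by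
      rw [d.rho_mul d.inE_e2 (d.Kc_inE hbK)]
      rcases hr with hr | hr <;> rcases d.rho_e2 with h5 | h5 <;> rw [hr, h5] <;> simp
    have hanti : d.rho d.e * d.rho d.e1 * d.rho d.e1 = -(d.rho d.e1 * (d.rho d.e * d.rho d.e1)) := by
      nth_rw 1 [d.rho_anti]
      rw [neg_mul, mul_assoc]
    have hzero : d.rho d.e * d.rho d.e1 * d.rho d.e1 = 0 := by
      refine plane_anti_ne ?_ hanti
      rcases hx with hx | hx <;> rw [hx] at hcE
      · exact hcE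
      · simpa only [neg_mul, mul_neg, neg_inj] using hcE
    rw [mul_assoc, d.rho_e1_sq, mul_neg, mul_one, neg_eq_zero] at hzero
    exact d.rho_det d.inE_e (by rw [hzero]; exact Matrix.det_zero)
  · exact h

theorem D_split {δ : G} (hδ : δ ∈ d.D) : ∀ b ∈ d.B, ∃ b' ∈ d.B, b * δ * b'⁻¹ ∈ d.Z := by
  refine d.D_induction (P := fun δ => ∀ b ∈ d.B, ∃ b' ∈ d.B, b * δ * b'⁻¹ ∈ d.Z) hδ ?_ ?_ ?_ ?_
  · exact fun b hb => ⟨b, hb, by rw [d.B_commz hb, mul_inv_cancel_right]; exact d.z_mem⟩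
  · exact fun b hb => ⟨b * d.z2, mul_mem hb d.z2_B, by rw [mul_inv_cancel]; exact one_mem _⟩
  · exact fun b hb => ⟨b, hb, by rw [mul_one, mul_inv_cancel]; exact one_mem _⟩
  · intro a c ha hc b hb
    obtain ⟨b1, hb1, h1⟩ := ha b hb
    obtain ⟨b2, hb2, h2⟩ := hc b1 hb1
    refine ⟨b2, hb2, ?_⟩
    rw [show b * (a * c) * b2⁻¹ = (b * a * b1⁻¹) * (b1 * c * b2⁻¹) by group]
    exact mul_mem h1 h2

theorem Kc_split_A (hA : d.CaseA) {g : G} (hg : g ∈ d.K) :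
    ∃ b ∈ d.B, g * b⁻¹ ∈ d.Z ∨ g * b⁻¹ * d.t ∈ d.Z := by
  obtain ⟨b, hb, k, hk, rfl⟩ := d.K_reduce hg
  rcases hA k hk with hD | hD
  · obtain ⟨b', hb', h⟩ := d.D_split hD b hb
    exact ⟨b', hb', Or.inl h⟩
  · obtain ⟨b', hb', h⟩ := d.D_split hD b hb
    refine ⟨b', hb', Or.inr ?_⟩
    rwa [mul_assoc (b * k), (Commute.inv_left (d.B_commt hb')).eq, ← mul_assoc, mul_assoc b]

theorem sign_prod_ker_card :
    Nat.card (((Perm.sign).comp (MonoidHom.fst (Perm (Fin 3)) (Perm (Fin 5)))) *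
      ((Perm.sign).comp (MonoidHom.snd (Perm (Fin 3)) (Perm (Fin 5))))).ker = 360 := by
  set f := ((Perm.sign).comp (MonoidHom.fst (Perm (Fin 3)) (Perm (Fin 5)))) *
    ((Perm.sign).comp (MonoidHom.snd (Perm (Fin 3)) (Perm (Fin 5)))) with hf
  have h1 := f.ker.card_mul_index
  have hs : Function.Surjective f := fun u => by
    rcases Int.units_eq_one_or u with rfl | rfl
    · exact ⟨1, map_one _⟩
    · refine ⟨(Equiv.swap 0 1, 1), ?_⟩
      show Perm.sign (Equiv.swap (0 : Fin 3) 1) * Perm.sign (1 : Perm (Fin 5)) = -1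
      rw [Perm.sign_swap (by decide)]
      simp
  rw [Subgroup.index_ker, MonoidHom.range_eq_top.2 hs, Subgroup.card_top, Nat.card_prod, Nat.card_perm,
    Nat.card_perm] at h1
  simp [Nat.card_eq_fintype_card, Nat.factorial] at h1 ⊢
  omega

/-- The centraliser and normaliser of the image of `Z` in the first case. -/
theorem comp_A (hA : d.CaseA) :
    Nonempty (centralizer ({d.zb} : Set d.X) ≃* Multiplicative (ZMod 3) × alternatingGroup (Fin 5)) ∧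
      Nonempty (normalizer (zpowers d.zb : Set d.X) ≃*
        (((Perm.sign).comp (MonoidHom.fst (Perm (Fin 3)) (Perm (Fin 5)))) *
          ((Perm.sign).comp (MonoidHom.snd (Perm (Fin 3)) (Perm (Fin 5))))).ker) := by
  have hcov : ∀ g : d.X, g * d.zb = d.zb * g → ∃ y ∈ d.Bb, g * y⁻¹ ∈ zpowers d.zb := by
    intro g hg
    obtain ⟨c, rfl⟩ := d.q_surj g
    obtain ⟨b, hb, h⟩ := d.Kc_split_A hA (d.lift_comm_zb hg)
    refine ⟨_, d.Bb_mem hb, ?_⟩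
    rw [← map_inv, ← map_mul]
    exact d.q_Z h
  constructor
  · obtain ⟨e⟩ := Split.split_cent d.zb_three d.zb_ne (fun y hy => d.Bb_zb hy) (fun y hy => d.Bb_inf_zb hy) hcov
    obtain ⟨eA⟩ := d.Bb_nonempty_equiv
    exact ⟨e.trans (MulEquiv.prodCongr (MulEquiv.refl _) eA)⟩
  · obtain ⟨Φ, hinj, hcard, hsign⟩ := Split.split_norm d.zb_three d.zb_ne (fun y hy => d.Bb_zb hy)
      (fun y hy => d.Bb_inf_zb hy) hcov d.wb_sq d.wb_zb (fun y hy => d.NZ_Bb d.wb_NZ hy) d.NZ rfl d.alpha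
      (fun g hg h => d.alpha_inj_Bb hg h)
    have hs := hsign Perm.sign (fun g hg => d.alpha_even hg) (fun g hg => by rw [d.alpha_zb hg, map_one])
      (fun g hg => d.alpha_wb hg)
    set Φ' := Φ.codRestrict (((Perm.sign).comp (MonoidHom.fst (Perm (Fin 3)) (Perm (Fin 5)))) *
      ((Perm.sign).comp (MonoidHom.snd (Perm (Fin 3)) (Perm (Fin 5))))).ker (fun g => hs g) with hΦ'
    refine ⟨MulEquiv.ofBijective Φ' ((Nat.bijective_iff_injective_and_card _).2 ⟨?_, ?_⟩)⟩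
    · exact fun a b h => hinj (congrArg Subtype.val h)
    · rw [hcard, d.Bb_card, sign_prod_ker_card]

theorem conj_u_inv {u g : G} (hu : d.IsU u) (hg : g = d.e1 ∨ g = d.s) : g * u * g⁻¹ = u⁻¹ := by
  set δ := g * u * g⁻¹ * u with hδ
  have hD : δ ∈ d.D := d.conj_u hu hg
  have hgt : g * d.t = d.t * g := by rcases hg with rfl | rfl; exacts [d.e1_comm, d.s_comm]
  have hcu : Commute δ u⁻¹ := (show Commute δ u from (d.Kc_commD hu.mem hD).symm).inv_right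
  have he : g * u * g⁻¹ = δ * u⁻¹ := by rw [hδ, mul_inv_cancel_right]
  have h2 : δ ^ 2 = 1 := by
    have h1 : (g * u * g⁻¹) ^ 2 = d.t := by
      rw [conj_pow, pow_two u, hu.sq, hgt, mul_inv_cancel_right]
    rw [he, hcu.mul_pow, inv_pow, pow_two u, hu.sq, d.t_inv] at h1
    exact mul_eq_right.1 h1
  have h3 := d.J_exp _ (d.D_le_J hD)
  rw [pow_succ, h2, one_mul] at h3
  rw [he, h3, one_mul]

theorem e2_u {u : G} (hu : d.IsU u) : d.e2 * u * d.e2⁻¹ = u⁻¹ := by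
  have hs := d.conj_u_inv hu (Or.inr rfl)
  have h1 := d.conj_u_inv hu (Or.inl rfl)
  calc d.e2 * u * d.e2⁻¹ = d.s * (d.e1 * (d.s * u * d.s) * d.e1⁻¹) * d.s⁻¹ := by
        rw [e2]; simp only [mul_inv_rev, d.s_inv]; group
    _ = d.s * (d.e1 * u * d.e1⁻¹)⁻¹ * d.s⁻¹ := by
      rw [show d.s * u * d.s = u⁻¹ by rw [← hs, d.s_inv]]; group
    _ = d.s * u * d.s⁻¹ := by rw [h1, inv_inv]
    _ = u⁻¹ := hs

theorem u_not_BZ {u : G} (hu : d.IsU u) {b : G} (hb : b ∈ d.B)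
    (h : b * u ∈ d.Z ∨ b * u * d.t ∈ d.Z) : False := by
  obtain ⟨b', hb', hζ⟩ : ∃ b' ∈ d.B, b' * u ∈ d.Z := by
    rcases h with h | h
    · exact ⟨b, hb, h⟩
    · refine ⟨b * d.t, mul_mem hb d.t_B, ?_⟩
      rwa [mul_assoc, ← (d.mem_Kc.1 hu.mem).1, ← mul_assoc]
  have hk : b' ∈ d.Kc := by
    have hm := mul_mem (d.D_le_Kc ((d.mem_D.2 ⟨d.toHyp.A_le_J (d.toHyp.Z_le_A hζ), d.t_cent_Z hζ⟩) : b' * u ∈ d.D))
      (inv_mem hu.mem)
    rwa [mul_inv_cancel_right] at hm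
  have hr : d.rho b' = 1 ∨ d.rho b' = -1 := by
    rcases d.Kc_inf_B hk hb' with hD | hD
    · exact Or.inl (d.rho_D hD)
    · right
      have := d.rho_D hD
      rw [d.rho_mul (d.Kc_inE hk) d.inE_t, d.rho_t, mul_neg, mul_one, neg_eq_iff_eq_neg] at this
      exact this
  have h1 := d.rho_D (d.mem_D.2 ⟨d.toHyp.A_le_J (d.toHyp.Z_le_A hζ), d.t_cent_Z hζ⟩ : b' * u ∈ d.D)
  rw [d.rho_mul (d.Kc_inE hk) (d.Kc_inE hu.mem), hu.rho] at h1
  have h2 := d.rho_e_sq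
  rcases hr with hr | hr <;> rw [hr] at h1
  · rw [one_mul] at h1
    rw [h1, one_mul] at h2
    exact Plane.neg_one_ne h2.symm
  · rw [neg_mul, one_mul, neg_eq_iff_eq_neg] at h1
    rw [h1, neg_mul_neg, one_mul] at h2
    exact Plane.neg_one_ne h2.symm

theorem u_CT {u : G} (hu : d.IsU u) : u ∈ d.CT := d.Kc_le_CT hu.mem

/-- The image of `u`. -/
noncomputable def ub {u : G} (hu : d.IsU u) : d.X := d.q ⟨u, d.u_CT hu⟩

theorem ub_sq {u : G} (hu : d.IsU u) : d.ub hu * d.ub hu = 1 := by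
  rw [ub, ← map_mul]
  exact d.q_eq_one.2 (Or.inr hu.sq)

theorem ub_zb {u : G} (hu : d.IsU u) : d.ub hu * d.zb = d.zb * d.ub hu := by
  rw [ub, zb, ← map_mul, ← map_mul]
  exact congrArg d.q (Subtype.ext (d.mem_Kc.1 hu.mem).2.1)

theorem ub_NZ {u : G} (hu : d.IsU u) : d.ub hu ∈ d.NZ := Subgroup.mem_normalizer_fintype fun y hy => by
  obtain ⟨n, rfl⟩ := hy
  show d.ub hu * d.zb ^ n * (d.ub hu)⁻¹ ∈ zpowers d.zb
  rw [← conj_zpow, d.ub_zb hu, mul_inv_cancel_right]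
  exact zpow_mem (mem_zpowers _) n

/-- The component extended by `u`. -/
noncomputable def Yu {u : G} (hu : d.IsU u) : Subgroup d.X where
  carrier := {x | x ∈ d.Bb ∨ x * d.ub hu ∈ d.Bb}
  one_mem' := Or.inl (one_mem _)
  mul_mem' := by
    intro a b ha hb
    have key : ∀ y ∈ d.Bb, d.ub hu * y * d.ub hu ∈ d.Bb := fun y hy => by
      have := d.NZ_Bb (d.ub_NZ hu) hy
      rwa [inv_eq_of_mul_eq_one_right (d.ub_sq hu)] at this
    rcases ha with ha | ha <;> rcases hb with hb | hb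
    · exact Or.inl (mul_mem ha hb)
    · exact Or.inr (by rw [mul_assoc]; exact mul_mem ha hb)
    · refine Or.inr ?_
      have e : a * b * d.ub hu = (a * d.ub hu) * (d.ub hu * b * d.ub hu) := by
        simp only [mul_assoc]
        rw [← mul_assoc (d.ub hu) (d.ub hu), d.ub_sq hu, one_mul]
      rw [e]
      exact mul_mem ha (key b hb)
    · refine Or.inl ?_
      have e : a * b = (a * d.ub hu) * (d.ub hu * (b * d.ub hu) * d.ub hu) := by
        rw [show d.ub hu * (b * d.ub hu) * d.ub hu = d.ub hu * b * (d.ub hu * d.ub hu) by group, d.ub_sq hu,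
          mul_one, ← mul_assoc, mul_assoc a, d.ub_sq hu, mul_one]
      rw [e]
      exact mul_mem ha (key _ hb)
  inv_mem' := by
    intro a ha
    rcases ha with ha | ha
    · exact Or.inl (inv_mem ha)
    · refine Or.inr ?_
      have := d.NZ_Bb (d.ub_NZ hu) (inv_mem ha)
      rwa [inv_eq_of_mul_eq_one_right (d.ub_sq hu), mul_inv_rev, inv_eq_of_mul_eq_one_right (d.ub_sq hu),
        ← mul_assoc, d.ub_sq hu, one_mul] at this

theorem mem_Yu {u : G} (hu : d.IsU u) {x : d.X} : x ∈ d.Yu hu ↔ x ∈ d.Bb ∨ x * d.ub hu ∈ d.Bb := Iff.rfl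

theorem Yu_zb {u : G} (hu : d.IsU u) {y : d.X} (hy : y ∈ d.Yu hu) : y * d.zb = d.zb * y := by
  rcases (d.mem_Yu hu).1 hy with hy | hy
  · exact d.Bb_zb hy
  · have h1 := d.Bb_zb hy
    rw [mul_assoc, d.ub_zb hu, ← mul_assoc, ← mul_assoc] at h1
    exact mul_right_cancel h1

theorem Yu_inf_zb {u : G} (hu : d.IsU u) {y : d.X} (hy : y ∈ d.Yu hu) (hz : y ∈ zpowers d.zb) : y = 1 := by
  rcases (d.mem_Yu hu).1 hy with h | h
  · exact d.Bb_inf_zb h hz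
  · exfalso
    obtain ⟨⟨c, hc⟩, hcZ, rfl⟩ := d.zb_zpow hz
    replace hcZ : c ∈ d.Z := hcZ
    rw [ub, ← map_mul, d.Bb_iff] at h
    replace h : c * u ∈ d.B := h
    have hcu : c * u = u * c := (d.cent_Z (d.mem_Kc.1 hu.mem).2.1 hcZ).symm
    refine d.u_not_BZ hu (inv_mem h) (Or.inl ?_)
    rw [hcu, mul_inv_rev, mul_assoc, inv_mul_cancel, mul_one]
    exact inv_mem hcZ

theorem Kc_split_B {u : G} (hu : d.IsU u) {g : d.X} (hg : g * d.zb = d.zb * g) :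
    ∃ y ∈ d.Yu hu, g * y⁻¹ ∈ zpowers d.zb := by
  obtain ⟨c, rfl⟩ := d.q_surj g
  obtain ⟨b, hb, k, hk, hbk⟩ := d.K_reduce (d.lift_comm_zb hg)
  set bk : d.CT := ⟨b, d.B_le_CT hb⟩ with hbk'
  have hck : d.q c = d.q bk * d.q ⟨k, d.Kc_le_CT hk⟩ := by
    rw [← map_mul]; exact congrArg d.q (Subtype.ext hbk)
  have key : ∀ δ : d.CT, (δ : G) ∈ d.D → ∃ y ∈ d.Bb, d.q δ * y⁻¹ ∈ zpowers d.zb := by
    intro δ hδ
    obtain ⟨b', hb', h⟩ := d.D_split hδ 1 (one_mem _)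
    rw [one_mul] at h
    refine ⟨_, d.Bb_mem hb', ?_⟩
    rw [← map_inv, ← map_mul]
    exact d.q_Z (Or.inl h)
  have hcase : ∃ y ∈ d.Yu hu, d.q ⟨k, d.Kc_le_CT hk⟩ * y⁻¹ ∈ zpowers d.zb := by
    have htt : d.q d.tt = 1 := d.q_eq_one.2 (Or.inr rfl)
    have hYub : ∀ y ∈ d.Bb, y * d.ub hu ∈ d.Yu hu := fun y hy =>
      (d.mem_Yu hu).2 (Or.inr (by rw [mul_assoc, d.ub_sq hu, mul_one]; exact hy))
    rcases hu.gen k hk with h | h | h | h
    · obtain ⟨y, hy, h1⟩ := key ⟨k, d.Kc_le_CT hk⟩ h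
      exact ⟨y, (d.mem_Yu hu).2 (Or.inl hy), h1⟩
    · obtain ⟨y, hy, h1⟩ := key (⟨k, d.Kc_le_CT hk⟩ * d.tt) h
      rw [map_mul, htt, mul_one] at h1
      exact ⟨y, (d.mem_Yu hu).2 (Or.inl hy), h1⟩
    · obtain ⟨y, hy, h1⟩ := key (⟨k, d.Kc_le_CT hk⟩ * ⟨u, d.u_CT hu⟩) h
      refine ⟨_, hYub y hy, ?_⟩
      rw [map_mul] at h1
      rw [mul_inv_rev, inv_eq_of_mul_eq_one_right (d.ub_sq hu), ← mul_assoc]
      exact h1
    · obtain ⟨y, hy, h1⟩ := key (⟨k, d.Kc_le_CT hk⟩ * ⟨u, d.u_CT hu⟩ * d.tt) h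
      refine ⟨_, hYub y hy, ?_⟩
      rw [map_mul, map_mul, htt, mul_one] at h1
      rw [mul_inv_rev, inv_eq_of_mul_eq_one_right (d.ub_sq hu), ← mul_assoc]
      exact h1
  obtain ⟨y, hy, h1⟩ := hcase
  refine ⟨d.q bk * y, mul_mem ((d.mem_Yu hu).2 (Or.inl (d.Bb_mem hb))) hy, ?_⟩
  obtain ⟨n, hn⟩ := h1
  rw [hck, mul_inv_rev, show d.q bk * d.q ⟨k, d.Kc_le_CT hk⟩ * (y⁻¹ * (d.q bk)⁻¹)
    = d.q bk * (d.q ⟨k, d.Kc_le_CT hk⟩ * y⁻¹) * (d.q bk)⁻¹ by group, ← hn]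
  refine ⟨n, ?_⟩
  rw [((show Commute (d.q bk) d.zb from d.Bb_zb (d.Bb_mem hb)).zpow_right n).eq, mul_inv_cancel_right]

theorem Yu_card {u : G} (hu : d.IsU u) : Nat.card (d.Yu hu) = 120 := by
  have hmem : d.ub hu ∈ d.Yu hu := (d.mem_Yu hu).2 (Or.inr (by rw [d.ub_sq hu]; exact one_mem _))
  have hnot : d.ub hu ∉ d.Bb := fun h => by
    rw [ub, d.Bb_iff] at h
    exact d.u_not_BZ hu (inv_mem h) (Or.inl (by rw [inv_mul_cancel]; exact one_mem _))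
  rw [card_two_cosets hmem hnot (fun y hy => (d.mem_Yu hu).2 (Or.inl hy)) fun g hg => ?_, d.Bb_card]
  rcases (d.mem_Yu hu).1 hg with h | h
  · exact Or.inl h
  · refine Or.inr ?_
    have h2 := d.NZ_Bb (d.ub_NZ hu) h
    rwa [inv_eq_of_mul_eq_one_right (d.ub_sq hu), mul_assoc, mul_assoc, d.ub_sq hu, mul_one,
      ← inv_eq_of_mul_eq_one_right (d.ub_sq hu)] at h2

theorem alpha_inj_Yu {u : G} (hu : d.IsU u) (g : d.NZ) (hg : (g : d.X) ∈ d.Yu hu) (h : d.alpha g = 1) : g = 1 := by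
  obtain ⟨c, hc⟩ := d.q_surj (g : d.X)
  have hK : (c : G) ∈ d.K := d.lift_comm_zb (by rw [hc]; exact d.Yu_zb hu hg)
  have h1 := d.K_comm_B hK (d.lift_comm (by rw [hc]; exact d.alpha_eq_one.1 h))
  exact Subtype.ext (d.Yu_inf_zb hu hg (hc ▸ d.q_Z h1))

theorem Yu_equiv {u : G} (hu : d.IsU u) : Nonempty (d.Yu hu ≃* Perm (Fin 5)) := by
  have hle : d.Yu hu ≤ d.NZ := fun y hy => Subgroup.mem_normalizer_fintype fun x hx => by
    obtain ⟨n, rfl⟩ := hx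
    show y * d.zb ^ n * y⁻¹ ∈ zpowers d.zb
    rw [← conj_zpow, d.Yu_zb hu hy, mul_inv_cancel_right]
    exact zpow_mem (mem_zpowers _) n
  refine ⟨MulEquiv.ofBijective (d.alpha.comp (Subgroup.inclusion hle))
    ((Nat.bijective_iff_injective_and_card _).2 ⟨(injective_iff_map_eq_one _).2 fun y hy => ?_, ?_⟩)⟩
  · exact Subtype.ext (congrArg (fun g : d.NZ => (g : d.X)) (d.alpha_inj_Yu hu ⟨y, hle y.2⟩ y.2 hy) :)
  · rw [d.Yu_card hu, Nat.card_perm, Nat.card_eq_fintype_card, Fintype.card_fin]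
    rfl

/-- The centraliser and normaliser of the image of `Z` in the second case. -/
theorem comp_B {u : G} (hu : d.IsU u) :
    Nonempty (centralizer ({d.zb} : Set d.X) ≃* Multiplicative (ZMod 3) × Perm (Fin 5)) ∧
      Nonempty (normalizer (zpowers d.zb : Set d.X) ≃* Perm (Fin 3) × Perm (Fin 5)) := by
  constructor
  · obtain ⟨e⟩ := Split.split_cent d.zb_three d.zb_ne (fun y hy => d.Yu_zb hu hy)
      (fun y hy => d.Yu_inf_zb hu hy) (fun g hg => d.Kc_split_B hu hg)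
    obtain ⟨eS⟩ := d.Yu_equiv hu
    exact ⟨e.trans (MulEquiv.prodCongr (MulEquiv.refl _) eS)⟩
  · have hwu : d.wb * d.ub hu * d.wb⁻¹ = d.ub hu := by
      rw [wb, ub, ← map_inv, ← map_mul, ← map_mul,
        show (⟨d.e2, d.e2_CT⟩ : d.CT) * ⟨u, d.u_CT hu⟩ * (⟨d.e2, d.e2_CT⟩ : d.CT)⁻¹ =
          (⟨u, d.u_CT hu⟩ : d.CT)⁻¹ from Subtype.ext (d.e2_u hu), map_inv]
      exact inv_eq_of_mul_eq_one_right (d.ub_sq hu)
    have hYw : ∀ y ∈ d.Yu hu, d.wb * y * d.wb⁻¹ ∈ d.Yu hu := fun y hy => by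
      rcases (d.mem_Yu hu).1 hy with h | h
      · exact (d.mem_Yu hu).2 (Or.inl (d.NZ_Bb d.wb_NZ h))
      · refine (d.mem_Yu hu).2 (Or.inr ?_)
        have h2 := d.NZ_Bb d.wb_NZ h
        have e : d.wb * (y * d.ub hu) * d.wb⁻¹ = (d.wb * y * d.wb⁻¹) * (d.wb * d.ub hu * d.wb⁻¹) := by group
        rwa [e, hwu] at h2
    obtain ⟨Φ, hinj, hcard, -⟩ := Split.split_norm d.zb_three d.zb_ne (fun y hy => d.Yu_zb hu hy)
      (fun y hy => d.Yu_inf_zb hu hy) (fun g hg => d.Kc_split_B hu hg) d.wb_sq d.wb_zb hYw d.NZ rfl d.alpha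
      (d.alpha_inj_Yu hu)
    refine ⟨MulEquiv.ofBijective Φ ((Nat.bijective_iff_injective_and_card _).2 ⟨hinj, ?_⟩)⟩
    rw [hcard, d.Yu_card hu, Nat.card_prod, Nat.card_perm, Nat.card_perm, Nat.card_eq_fintype_card,
      Nat.card_eq_fintype_card, Fintype.card_fin, Fintype.card_fin]
    rfl

end Std

end Cfsg.Agent.Lib.McL3Local35
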