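import Cfsg.Agent.Lib.McL3Local35.CompX
import Cfsg.Agent.Lib.PGroups.Omega
import Cfsg.Prelude.Def_SporadicB

/-!
# Double covers and normal subgroups of odd order
-/

set_option autoImplicit false
set_option maxRecDepth 100000

namespace Cfsg.Agent.Lib.McL3Local35

open Subgroup Equiv

namespace Cover

theorem center_alt_eight {x : alternatingGroup (Fin 8)} (hx : ∀ y, y * x = x * y) : x = 1 := by
  have hm : x ∈ center (alternatingGroup (Fin 8)) := Subgroup.mem_center_iff.2 hx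
  rwa [alternatingGroup.center_eq_bot (by simp), Subgroup.mem_bot] at hm

/-- A central extension by an involution which is a commutator is a nonsplit double cover. -/
theorem isNonsplit_of_hom {H : Type*} [Group H] [Finite H] (f : H →* alternatingGroup (Fin 8))
    (hf : Function.Surjective f) (τ : H) (hτ : τ ≠ 1) (hτ2 : τ * τ = 1)
    (hker : ∀ h : H, f h = 1 ↔ h = 1 ∨ h = τ) (hc : ∀ h : H, h * τ = τ * h)
    (a c : H) (hac : τ = a * c * a⁻¹ * c⁻¹) :
    Cfsg.IsNonsplitDoubleCover H (alternatingGroup (Fin 8)) := by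
  have hτc : τ ∈ center H := Subgroup.mem_center_iff.2 hc
  have hz : center H = f.ker := by
    refine le_antisymm (fun x hx => MonoidHom.mem_ker.2 (center_alt_eight fun y => ?_)) fun x hx => ?_
    · obtain ⟨y, rfl⟩ := hf y
      rw [← map_mul, ← map_mul, Subgroup.mem_center_iff.1 hx y]
    · rcases (hker x).1 hx with rfl | rfl
      exacts [one_mem _, hτc]
  refine ⟨?_, ⟨(QuotientGroup.quotientMulEquivOfEq hz).trans (QuotientGroup.quotientKerEquivOfSurjective f hf)⟩,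
    fun L hL => ?_⟩
  · rw [Nat.card_eq_two_iff]
    refine ⟨1, ⟨τ, hτc⟩, fun h => hτ (congrArg Subtype.val h).symm, ?_⟩
    refine Set.eq_univ_of_forall fun x => ?_
    rcases (hker x).1 (MonoidHom.mem_ker.1 (hz ▸ x.2 : (x : H) ∈ f.ker)) with h | h
    · exact Or.inl (Subtype.ext h)
    · exact Or.inr (Subtype.ext h)
  · obtain ⟨⟨ζ, l⟩, rfl⟩ := hL.2 a
    obtain ⟨⟨ζ', l'⟩, rfl⟩ := hL.2 c
    have hmem : ∀ x : H, x ∈ center H → ∀ y : H, x * y * x⁻¹ = y := fun x hx y => by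
      rw [← (Subgroup.mem_center_iff.1 hx y), mul_inv_cancel_right]
    have h1 : τ = (l : H) * l' * (l : H)⁻¹ * (l' : H)⁻¹ := by
      rw [hac]
      show (ζ : H) * l * ((ζ' : H) * l') * ((ζ : H) * l)⁻¹ * ((ζ' : H) * l')⁻¹ = _
      calc (ζ : H) * l * ((ζ' : H) * l') * ((ζ : H) * l)⁻¹ * ((ζ' : H) * l')⁻¹
          = ((ζ : H) * ((l : H) * ((ζ' : H) * l') * (l : H)⁻¹) * (ζ : H)⁻¹) * (l' : H)⁻¹ * (ζ' : H)⁻¹ := by group
        _ = (l : H) * ((ζ' : H) * l') * (l : H)⁻¹ * (l' : H)⁻¹ * (ζ' : H)⁻¹ := by rw [hmem _ ζ.2]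
        _ = (l : H) * (ζ' : H) * ((l' : H) * (l : H)⁻¹ * (l' : H)⁻¹) * (ζ' : H)⁻¹ := by group
        _ = (l : H) * ((ζ' : H) * ((l' : H) * (l : H)⁻¹ * (l' : H)⁻¹) * (ζ' : H)⁻¹) := by group
        _ = _ := by rw [hmem _ ζ'.2]; group
    have htL : τ ∈ L := by
      rw [h1]
      exact mul_mem (mul_mem (mul_mem l.2 l'.2) (inv_mem l.2)) (inv_mem l'.2)
    exact hτ (Subgroup.disjoint_def.1 hL.disjoint hτc htL)

end Cover

namespace Std

variable {G : Type*} [Group G] [Finite G] (d : Std G)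

include d in
/-- A normal subgroup of odd order has order prime to three. -/
theorem odd_normal (O : Subgroup G) [hOn : O.Normal] (hodd : Odd (Nat.card O)) (h3 : 3 ∣ Nat.card O) : False := by
  have : Fact (Nat.Prime 3) := ⟨Nat.prime_three⟩
  obtain ⟨⟨x, hxO⟩, hx⟩ := exists_prime_orderOf_dvd_card' (G := O) 3 h3
  replace hx : orderOf x = 3 := by rw [← hx, ← Subgroup.orderOf_coe]
  obtain ⟨g, hg⟩ := d.S_sylow (zpowers x) (IsPGroup.of_card (n := 1) (by rw [Nat.card_zpowers, hx, pow_one]))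
  set y := g * x * g⁻¹ with hy
  have hyS : y ∈ d.S := hg x (mem_zpowers x)
  have hyO : y ∈ O := hOn.conj_mem x hxO g
  have hy1 : y ≠ 1 := fun h => by
    rw [hy, conj_eq_one_iff] at h
    rw [h, orderOf_one] at hx
    omega
  have : (O.subgroupOf d.S).Normal := ⟨fun n hn k => hOn.conj_mem n hn k⟩
  have hne := Cfsg.Agent.Lib.PGroups.normal_inf_center_ne_bot d.toHyp.isPGroup_S (O.subgroupOf d.S)
    fun h => hy1 (by
      have hm : (⟨y, hyS⟩ : d.S) ∈ O.subgroupOf d.S := hyO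
      rw [h, Subgroup.mem_bot] at hm
      exact congrArg Subtype.val hm)
  obtain ⟨⟨c, hc⟩, hc1⟩ := Subgroup.ne_bot_iff_exists_ne_one.1 hne
  obtain ⟨hcO, hcc⟩ := Subgroup.mem_inf.1 hc
  have hc1' : (c : G) ≠ 1 := fun h => hc1 (Subtype.ext (Subtype.ext h))
  have hcZ : (c : G) ∈ d.Z := d.Z_center c c.2 fun s hs =>
    congrArg Subtype.val (Subgroup.mem_center_iff.1 hcc ⟨s, hs⟩)
  have hle : zpowers (c : G) = d.Z := Subgroup.eq_of_le_of_card_ge (zpowers_le.2 hcZ) (by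
    rw [d.Z_card, Nat.card_zpowers, orderOf_eq_prime (d.Q_exp _ (d.Z_le hcZ)) hc1'])
  have hzO : d.z ∈ O := (zpowers_le.2 (show (c : G) ∈ O from hcO)) (hle.symm ▸ d.z_mem)
  have hz2O : d.z2 ∈ O := by
    have := hOn.conj_mem d.z hzO d.s
    rwa [d.s_inv] at this
  set x2 : d.B := ⟨d.z2, d.z2_B⟩ with hx2
  have h31 : d.slB x2 * d.slB x2 * d.slB x2 = 1 := by
    rw [← map_mul, ← map_mul, ← map_one d.slB]
    refine congrArg d.slB (Subtype.ext ?_)
    show d.z2 * d.z2 * d.z2 = 1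
    rw [← pow_three', d.z2_three]
  have h32 : d.slB x2 ≠ 1 := fun h => d.z2_ne (by
    rw [← map_one d.slB] at h
    exact congrArg Subtype.val (d.slB_inj h))
  obtain ⟨M, hM⟩ := SLFive.pair_four _ h31 h32
  obtain ⟨b, rfl⟩ := d.slB_surj M
  rw [← map_inv, ← map_mul, ← map_mul, ← map_mul, ← map_pow,
    ← d.toHyp.invol_sl d.t_mem_L d.t_sq d.t_ne] at hM
  have heq : (x2 * (b * x2 * b⁻¹)) ^ 2 = ⟨d.t, d.t_B⟩ := d.slB_inj hM
  have h1 : (d.z2 * ((b : G) * d.z2 * (b : G)⁻¹)) ^ 2 = d.t := congrArg Subtype.val heq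
  have ht : d.t ∈ O := h1 ▸ pow_mem (mul_mem hz2O (hOn.conj_mem _ hz2O _)) 2
  have h2 : 2 ∣ Nat.card O := by
    have h := orderOf_dvd_natCard (⟨d.t, ht⟩ : O)
    rwa [← Subgroup.orderOf_coe, orderOf_eq_prime (p := 2) (by rw [pow_two, d.t_sq]) d.t_ne] at h
  exact absurd hodd (Nat.not_odd_iff_even.2 (even_iff_two_dvd.2 h2))

end Std

end Cfsg.Agent.Lib.McL3Local35
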