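import Mathlib

/-!
# Facts about the symmetric group of degree eight
-/

set_option autoImplicit false
set_option maxRecDepth 100000

namespace Cfsg.Agent.Lib.McL3Local35.Eight

open Equiv

/-- The symmetric group of degree eight. -/
abbrev S8 := Perm (Fin 8)

/-- `(0 1 2)` -/
def a : S8 := ⟨![1, 2, 0, 3, 4, 5, 6, 7], ![2, 0, 1, 3, 4, 5, 6, 7], by decide, by decide⟩

/-- `(3 4 5)` -/
def b : S8 := ⟨![0, 1, 2, 4, 5, 3, 6, 7], ![0, 1, 2, 5, 3, 4, 6, 7], by decide, by decide⟩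

/-- `(6 7)` -/
def c : S8 := swap 6 7

/-- `(4 5)(6 7)` -/
def dd : S8 := swap 4 5 * swap 6 7

/-- `(2 3)(4 5)(6 7)` -/
def T3 : S8 := swap 2 3 * (swap 4 5 * swap 6 7)

/-- `(0 1)(2 4)(3 5)` -/
def T3' : S8 := swap 0 1 * (swap 2 4 * swap 3 5)

/-- `(0 1)(2 3)(4 5)(6 7)` -/
def Q4 : S8 := swap 0 1 * (swap 2 3 * (swap 4 5 * swap 6 7))

/-- The list of the members of `⟨a, b⟩`. -/
def L9 : List S8 := [1, a, a⁻¹, b, b⁻¹, a * b, a * b⁻¹, a⁻¹ * b, a⁻¹ * b⁻¹]

theorem L9_closed : (∀ x ∈ L9, ∀ y ∈ L9, x * y ∈ L9) ∧ (∀ x ∈ L9, x⁻¹ ∈ L9) := by decide +kernel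

/-- The standard Sylow 3-subgroup. -/
def P0 : Subgroup S8 where
  carrier := {x | x ∈ L9}
  one_mem' := List.mem_cons_self
  mul_mem' := fun hx hy => L9_closed.1 _ hx _ hy
  inv_mem' := fun hx => L9_closed.2 _ hx

theorem mem_P0 {x : S8} : x ∈ P0 ↔ x ∈ L9 := Iff.rfl

theorem card_P0 : Nat.card P0 = 9 := by
  have h : Nat.card P0 = Nat.card {x : S8 // x ∈ L9.toFinset} :=
    Nat.card_congr (Equiv.subtypeEquivRight fun x => (List.mem_toFinset).symm)
  rw [h, Nat.card_eq_finsetCard]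
  decide +kernel

/-- The members of `⟨a, b⟩` moving three letters. -/
def L4 : List S8 := [a, a⁻¹, b, b⁻¹]

/-- The permutations by which pairs of generators are normalised. -/
def G8 : List S8 :=
  let x : S8 := swap 1 2
  let y : S8 := swap 4 5
  let w : S8 := swap 0 3 * (swap 1 4 * swap 2 5)
  [1, x, y, x * y, w, x * w, y * w, x * (y * w)]

theorem normalise : ∀ p ∈ L9, ∀ r ∈ L9, p ≠ 1 → r ≠ 1 → r ≠ p → r ≠ p⁻¹ → p.support.card = r.support.card →
    p * r ∉ L4 → ∃ g ∈ G8, g * p = a * g ∧ g * r = b * g := by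
  decide +kernel

theorem single_five : ∀ p ∈ L4, ∃ f : S8, f * p = p * f ∧ f ^ 5 = 1 ∧ f ≠ 1 := by
  intro p hp
  let f1 : S8 := ⟨![0, 1, 2, 4, 5, 6, 7, 3], ![0, 1, 2, 7, 3, 4, 5, 6], by decide, by decide⟩
  let f2 : S8 := ⟨![1, 2, 6, 3, 4, 5, 7, 0], ![7, 0, 1, 3, 4, 5, 2, 6], by decide, by decide⟩
  have key : ∀ p ∈ L4, (f1 * p = p * f1 ∧ f1 ^ 5 = 1 ∧ f1 ≠ 1) ∨ (f2 * p = p * f2 ∧ f2 ^ 5 = 1 ∧ f2 ≠ 1) := by
    decide +kernel
  rcases key p hp with h | h
  exacts [⟨_, h⟩, ⟨_, h⟩]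

/-- The shape of a permutation commuting with `a` and carrying `b` to `b'`. -/
def shape (b' : S8) (i j k : Fin 8) : Fin 8 → Fin 8 :=
  ![i, a i, a (a i), j, b' j, b' (b' j), k, if k = 6 then 7 else 6]

theorem shape_eq {σ b' : S8} (hb' : b' = b ∨ b' = b⁻¹) (ha : σ * a = a * σ) (hb : σ * b = b' * σ) :
    ∃ i ∈ ([0, 1, 2] : List (Fin 8)), ∃ j ∈ ([3, 4, 5] : List (Fin 8)), ∃ k ∈ ([6, 7] : List (Fin 8)),
      ∀ x, σ x = shape b' i j k x := by
  have pa : ∀ x, σ (a x) = a (σ x) := fun x => congrArg (fun p : S8 => p x) ha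
  have pb : ∀ x, σ (b x) = b' (σ x) := fun x => congrArg (fun p : S8 => p x) hb
  have kb : ∀ x : Fin 8, b' x = x ↔ b x = x := by
    rcases hb' with rfl | rfl
    · exact fun x => Iff.rfl
    · decide +kernel
  have inA : ∀ x, a x ≠ x → σ x ∈ ([0, 1, 2] : List (Fin 8)) := by
    intro x hx
    have key : ∀ y : Fin 8, a y ≠ y → y ∈ ([0, 1, 2] : List (Fin 8)) := by decide +kernel
    exact key _ fun h => hx (σ.injective (by rw [pa, h]))
  have inB : ∀ x, b x ≠ x → σ x ∈ ([3, 4, 5] : List (Fin 8)) := by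
    intro x hx
    have key : ∀ y : Fin 8, b y ≠ y → y ∈ ([3, 4, 5] : List (Fin 8)) := by decide +kernel
    exact key _ fun h => hx (σ.injective (by rw [pb, (kb _).2 h]))
  have inC : ∀ x, a x = x → b x = x → σ x ∈ ([6, 7] : List (Fin 8)) := by
    intro x hx hy
    have key : ∀ y : Fin 8, a y = y → b y = y → y ∈ ([6, 7] : List (Fin 8)) := by decide +kernel
    exact key _ (by rw [← pa, hx]) ((kb _).1 (by rw [← pb, hy]))
  refine ⟨σ 0, inA 0 (by decide +kernel), σ 3, inB 3 (by decide +kernel), σ 6,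
    inC 6 (by decide +kernel) (by decide +kernel), fun x => ?_⟩
  have h67 : σ 7 = if σ 6 = 6 then 7 else 6 := by
    have h7 := inC 7 (by decide +kernel) (by decide +kernel)
    have h6 := inC 6 (by decide +kernel) (by decide +kernel)
    have hne : σ 7 ≠ σ 6 := σ.injective.ne (by decide)
    simp only [List.mem_cons, List.not_mem_nil, or_false] at h6 h7
    rcases h6 with h6 | h6 <;> rcases h7 with h7 | h7 <;> simp [h6, h7] at hne ⊢
  have h1 : σ 1 = a (σ 0) := pa 0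
  have h2 : σ 2 = a (a (σ 0)) := by rw [← h1, ← pa]; rfl
  have h4 : σ 4 = b' (σ 3) := pb 3
  have h5 : σ 5 = b' (b' (σ 3)) := by rw [← h4, ← pb]; rfl
  fin_cases x
  exacts [rfl, h1, h2, rfl, h4, h5, rfl, h67]

theorem cent_pair {σ : S8} (h2 : σ * σ = 1) (ha : σ * a = a * σ) (hb : σ * b = b * σ) : σ = 1 ∨ σ = c := by
  obtain ⟨i, hi, j, hj, k, hk, hs⟩ := shape_eq (Or.inl rfl) ha hb
  have key : ∀ i ∈ ([0, 1, 2] : List (Fin 8)), ∀ j ∈ ([3, 4, 5] : List (Fin 8)), ∀ k ∈ ([6, 7] : List (Fin 8)),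
      (∀ x, shape b i j k (shape b i j k x) = x) →
        (∀ x, shape b i j k x = x) ∨ (∀ x, shape b i j k x = c x) := by decide +kernel
  rcases key i hi j hj k hk (fun x => by rw [← hs, ← hs, ← Perm.mul_apply, h2, Perm.one_apply]) with h | h
  · exact Or.inl (Equiv.ext fun x => (hs x).trans (h x))
  · exact Or.inr (Equiv.ext fun x => (hs x).trans (h x))

/-- The involutions centralising `a` and inverting `b`. -/
def R6 : List S8 := [swap 4 5, swap 3 5, swap 3 4, dd, swap 3 5 * swap 6 7, swap 3 4 * swap 6 7]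

theorem inv_pair {σ : S8} (h2 : σ * σ = 1) (ha : σ * a = a * σ) (hb : σ * b = b⁻¹ * σ) (hs1 : Perm.sign σ = 1) :
    IsConj σ dd := by
  obtain ⟨i, hi, j, hj, k, hk, hs⟩ := shape_eq (Or.inr rfl) ha hb
  have key : ∀ i ∈ ([0, 1, 2] : List (Fin 8)), ∀ j ∈ ([3, 4, 5] : List (Fin 8)), ∀ k ∈ ([6, 7] : List (Fin 8)),
      (∀ x, shape b⁻¹ i j k (shape b⁻¹ i j k x) = x) → ∃ r ∈ R6, ∀ x, shape b⁻¹ i j k x = r x := by
    decide +kernel
  obtain ⟨r, hr, hx⟩ := key i hi j hj k hk (fun x => by rw [← hs, ← hs, ← Perm.mul_apply, h2, Perm.one_apply])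
  obtain rfl : σ = r := Equiv.ext fun x => (hs x).trans (hx x)
  have key2 : ∀ r ∈ R6, Perm.sign r = 1 → ∃ g ∈ [1, b, b⁻¹], g * r = dd * g := by decide +kernel
  obtain ⟨g, -, hg⟩ := key2 σ hr hs1
  exact isConj_iff.2 ⟨g, by rw [hg, mul_inv_cancel_right]⟩

theorem cycleType_reps : c.cycleType = Multiset.replicate 1 2 ∧ dd.cycleType = Multiset.replicate 2 2 ∧
    T3.cycleType = Multiset.replicate 3 2 ∧ Q4.cycleType = Multiset.replicate 4 2 := by
  have hs : ∀ x y : Fin 8, x ≠ y → (swap x y).cycleType = Multiset.replicate 1 2 := fun x y h => by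
    rw [(Perm.IsCycle.cycleType (Perm.isCycle_swap h)), Perm.card_support_swap h]; rfl
  have hd : dd.cycleType = Multiset.replicate 2 2 := by
    rw [dd, Perm.Disjoint.cycleType_mul (by unfold Perm.Disjoint; decide +kernel), hs _ _ (by decide),
      hs _ _ (by decide), ← Multiset.replicate_add]
  have ht : T3.cycleType = Multiset.replicate 3 2 := by
    rw [T3, show swap (4 : Fin 8) 5 * swap 6 7 = dd from rfl,
      Perm.Disjoint.cycleType_mul (by unfold Perm.Disjoint; decide +kernel), hd, hs _ _ (by decide),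
      ← Multiset.replicate_add]
  refine ⟨hs _ _ (by decide), hd, ht, ?_⟩
  rw [Q4, show swap (2 : Fin 8) 3 * (swap 4 5 * swap 6 7) = T3 from rfl,
    Perm.Disjoint.cycleType_mul (by unfold Perm.Disjoint; decide +kernel), ht, hs _ _ (by decide),
    ← Multiset.replicate_add]

theorem invol_cases {σ : S8} (h2 : σ * σ = 1) :
    σ = 1 ∨ IsConj σ c ∨ IsConj σ dd ∨ IsConj σ T3 ∨ IsConj σ Q4 := by
  have hc : σ.cycleType = Multiset.replicate σ.cycleType.card 2 :=
    Perm.cycleType_of_pow_prime_eq_one (by rw [pow_two, h2])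
  have hle : σ.cycleType.sum ≤ 8 := by
    rw [Perm.sum_cycleType]
    exact (Finset.card_le_univ _).trans_eq (Fintype.card_fin 8)
  rw [hc, Multiset.sum_replicate, smul_eq_mul] at hle
  obtain ⟨c1, c2, c3, c4⟩ := cycleType_reps
  have hk : σ.cycleType.card = 0 ∨ σ.cycleType.card = 1 ∨ σ.cycleType.card = 2 ∨ σ.cycleType.card = 3 ∨
      σ.cycleType.card = 4 := by omega
  rcases hk with hk | hk | hk | hk | hk <;> rw [hk] at hc
  · exact Or.inl (Perm.cycleType_eq_zero.1 (hc.trans (Multiset.replicate_zero 2)))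
  · exact Or.inr (Or.inl (Perm.isConj_iff_cycleType_eq.2 (hc.trans c1.symm)))
  · exact Or.inr (Or.inr (Or.inl (Perm.isConj_iff_cycleType_eq.2 (hc.trans c2.symm))))
  · exact Or.inr (Or.inr (Or.inr (Or.inl (Perm.isConj_iff_cycleType_eq.2 (hc.trans c3.symm)))))
  · exact Or.inr (Or.inr (Or.inr (Or.inr (Perm.isConj_iff_cycleType_eq.2 (hc.trans c4.symm)))))

theorem signs : Perm.sign c = -1 ∧ Perm.sign dd = 1 ∧ Perm.sign T3 = -1 ∧ Perm.sign Q4 = 1 := by decide +kernel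

theorem sq_reps : c * c = 1 ∧ dd * dd = 1 ∧ T3 * T3 = 1 ∧ T3' * T3' = 1 ∧ Q4 * Q4 = 1 := by decide +kernel

theorem products : T3 * T3' = T3' * T3 ∧ IsConj T3' T3 ∧ IsConj (T3 * T3') Q4 := by
  refine ⟨by decide +kernel, ?_, ?_⟩
  · refine Perm.isConj_iff_cycleType_eq.2 ?_
    rw [T3', Perm.Disjoint.cycleType_mul (by unfold Perm.Disjoint; decide +kernel),
      Perm.Disjoint.cycleType_mul (by unfold Perm.Disjoint; decide +kernel), cycleType_reps.2.2.1,
      (Perm.isCycle_swap (by decide)).cycleType, (Perm.isCycle_swap (by decide)).cycleType,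
      (Perm.isCycle_swap (by decide)).cycleType, Perm.card_support_swap (by decide),
      Perm.card_support_swap (by decide), Perm.card_support_swap (by decide)]
    rfl
  · let g : S8 := ⟨![0, 1, 2, 5, 3, 4, 6, 7], ![0, 1, 2, 4, 5, 3, 6, 7], by decide, by decide⟩
    have key : (T3 * T3') * (T3 * T3') = 1 ∧ ∀ x : Fin 8, (T3 * T3') x ≠ x := by decide +kernel
    rcases invol_cases key.1 with h | h | h | h | h
    · exact absurd (congrArg (fun p : S8 => p 0) h) (key.2 0)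
    all_goals first
      | exact h
      | exfalso
        obtain ⟨q, hq⟩ := isConj_iff.1 h
        have hall : ∀ x : Fin 8, (q * (T3 * T3') * q⁻¹) x ≠ x := fun x hx =>
          key.2 (q⁻¹ x) (by simpa [Perm.mul_apply] using congrArg (q⁻¹ : S8) hx)
        rw [hq] at hall
        exact absurd rfl (fun _ : (0 : Fin 8) = 0 => by
          have h0 := hall 0
          revert h0
          decide +kernel)

end Cfsg.Agent.Lib.McL3Local35.Eight
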