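import Cfsg.Agent.Lib.McL3Local35.Weak

/-!
# The involution `t`, the plane `D = C_J(t)` and the conjugates of `Z` in it
-/

set_option autoImplicit false

namespace Cfsg.Agent.Lib.McL3Local35

open Subgroup
open scoped Pointwise

theorem inP_conj : ∀ σ : Six.A6, Six.InN σ → ∀ x : Six.A6, Six.InP x → Six.InP (σ * x * σ⁻¹) := by
  intro σ hσ x hx
  have hP : ∀ y, Six.InP y → y ∈ Six.P := fun y hy => hy
  have hle : Subgroup.closure {Six.p1, Six.p2} ≤ Six.P.comap (MulAut.conj σ).toMonoidHom := by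
    rw [Subgroup.closure_le]
    rintro y (rfl | rfl)
    · exact hσ.1
    · exact hσ.2
  refine hle ?_
  have h1 : Six.p1 ∈ Subgroup.closure {Six.p1, Six.p2} := subset_closure (Or.inl rfl)
  have h2 : Six.p2 ∈ Subgroup.closure {Six.p1, Six.p2} := subset_closure (Or.inr rfl)
  rcases hx with rfl | rfl | rfl | rfl | rfl | rfl | rfl | rfl | rfl
  · exact one_mem _
  · exact h1
  · exact inv_mem h1
  · exact h2
  · exact inv_mem h2
  · exact mul_mem h1 h2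
  · exact mul_mem h1 (inv_mem h2)
  · exact mul_mem (inv_mem h1) h2
  · exact mul_mem (inv_mem h1) (inv_mem h2)

/-- A subgroup of order nine of `A₆` is conjugate to `P`. -/
theorem six_conj {U : Subgroup Six.A6} (hU : Nat.card U = 9) :
    ∃ a : Six.A6, ∀ y, Six.InP (a * y * a⁻¹) ↔ y ∈ U := by
  have : Fact (Nat.Prime 3) := ⟨Nat.prime_three⟩
  have h360 : Nat.card Six.A6 = 360 := by rw [nat_card_alternatingGroup]; simp [Nat.factorial]
  obtain ⟨P1, hP1⟩ := (IsPGroup.of_card (n := 2) (by rw [hU]; norm_num) : IsPGroup 3 U).exists_le_sylow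
  obtain ⟨P2, hP2⟩ := (IsPGroup.of_card (n := 2) (by rw [Six.card_P]; norm_num) :
    IsPGroup 3 Six.P).exists_le_sylow
  have hsyl : ∀ X : Sylow 3 Six.A6, Nat.card X = 9 := fun X => by
    rw [X.card_eq_multiplicity, h360, show (360 : ℕ) = 3 ^ 2 * 40 by norm_num,
      Nat.factorization_mul (by norm_num) (by norm_num), Nat.Prime.factorization_pow Nat.prime_three,
      Finsupp.add_apply, Finsupp.single_eq_same, Nat.factorization_eq_zero_of_not_dvd (by norm_num : ¬ 3 ∣ 40)]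
    rfl
  obtain ⟨a, ha⟩ := MulAction.exists_smul_eq Six.A6 P1 P2
  have e1 : U = P1 := Subgroup.eq_of_le_of_card_ge hP1 (by rw [hU]; exact (hsyl P1).le)
  have e2 : Six.P = P2 := Subgroup.eq_of_le_of_card_ge hP2 (by rw [Six.card_P]; exact (hsyl P2).le)
  refine ⟨a, fun y => ?_⟩
  rw [← Six.mem_P, e2, e1, ← ha]
  show a * y * a⁻¹ ∈ MulAut.conj a • (P1 : Subgroup Six.A6) ↔ _
  rw [Subgroup.mem_pointwise_smul_iff_inv_smul_mem]
  simp [MulAut.conj_symm_apply, MulAut.inv_def, mul_assoc]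

namespace Std

variable {G : Type*} [Group G] [Finite G] (d : Std G)

/-- The image in `A₆` of a member of `M₀`. -/
def img (x : G) (hx : x ∈ d.M) : Six.A6 := d.pi ⟨x, hx⟩

theorem img_mul {x y : G} (hx : x ∈ d.M) (hy : y ∈ d.M) :
    d.img (x * y) (mul_mem hx hy) = d.img x hx * d.img y hy := d.pi.map_mul ⟨x, hx⟩ ⟨y, hy⟩

theorem img_inv {x : G} (hx : x ∈ d.M) : d.img x⁻¹ (inv_mem hx) = (d.img x hx)⁻¹ := d.pi.map_inv ⟨x, hx⟩

theorem img_pow {x : G} (hx : x ∈ d.M) (n : ℕ) : d.img (x ^ n) (pow_mem hx n) = d.img x hx ^ n :=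
  d.pi.map_pow ⟨x, hx⟩ n

theorem img_conj {x y : G} (hx : x ∈ d.M) (hy : y ∈ d.M) :
    d.img (x * y * x⁻¹) (mul_mem (mul_mem hx hy) (inv_mem hx)) = d.img x hx * d.img y hy * (d.img x hx)⁻¹ := by
  rw [d.img_mul (mul_mem hx hy) (inv_mem hx), d.img_mul hx hy, d.img_inv hx]

theorem img_eq_one {x : G} (hx : x ∈ d.M) : d.img x hx = 1 ↔ x ∈ d.J := d.pi_ker ⟨x, hx⟩

theorem norms_S_iff {g : G} (hg : g ∈ d.M) : Norms g d.S ↔ Six.InN (d.img g hg) := by
  constructor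
  · intro h
    refine Six.inN_of_conj _ fun x hx => ?_
    obtain ⟨y, rfl⟩ := d.pi_surj x
    have hy := (d.pi_S y).1 hx
    show Six.InP (d.img g hg * d.img y y.2 * (d.img g hg)⁻¹)
    rw [← d.img_conj hg y.2]
    exact (d.pi_S _).2 (h _ hy)
  · intro h s hs
    have hsM := d.toHyp.S_le_M hs
    refine (d.pi_S ⟨_, mul_mem (mul_mem hg hsM) (inv_mem hg)⟩).1 ?_
    show Six.InP (d.img _ _)
    rw [d.img_conj hg hsM]
    exact inP_conj _ h _ ((d.pi_S ⟨s, hsM⟩).2 hs)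

theorem norms_Z_of_S {g : G} (h : Norms g d.S) : Norms g d.Z := fun z hz => by
  refine d.Z_center _ (h z (d.toHyp.Z_le_S hz)) fun x hx => ?_
  have hx' : g⁻¹ * x * g ∈ d.S := by simpa using h.inv x hx
  calc x * (g * z * g⁻¹) = g * ((g⁻¹ * x * g) * z) * g⁻¹ := by group
    _ = g * (z * (g⁻¹ * x * g)) * g⁻¹ := by rw [d.Z_central z hz _ hx']
    _ = g * z * g⁻¹ * x := by group

theorem norms_Z_iff {g : G} (hJ : Norms g d.J) : Norms g d.Z ↔ Norms g d.S :=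
  ⟨fun h => d.toHyp.norms_S h hJ, d.norms_Z_of_S⟩

theorem Z_cases {g z : G} (hg : Norms g d.Z) (hz : z ∈ d.Z) (hz1 : z ≠ 1) :
    g * z * g⁻¹ = z ∨ g * z * g⁻¹ = z⁻¹ := by
  have hZz : d.Z = zpowers z := by
    symm
    refine Subgroup.eq_of_le_of_card_ge (zpowers_le.2 hz) ?_
    rw [d.Z_card, Nat.card_zpowers]
    have h3 := (Subgroup.orderOf_dvd_natCard d.Z hz).trans d.Z_card.dvd
    rcases (Nat.dvd_prime Nat.prime_three).1 h3 with h | h
    · exact absurd (orderOf_eq_one_iff.1 h) hz1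
    · exact h.ge
  have hm := hg z hz
  rw [hZz] at hm
  rcases pow_three_cases (d.Q_exp z (d.Z_le hz)) hm with h | h | h
  · exact absurd (by simpa using h) hz1
  · exact Or.inl h
  · exact Or.inr h

theorem exists_e : ∃ e : G, ∃ he : e ∈ d.M, d.img e he = Six.ebar ∧ e ^ 4 = 1 := by
  obtain ⟨⟨m, hm⟩, hmi⟩ := d.pi_surj Six.ebar
  refine ⟨m ^ 81, pow_mem hm _, ?_, ?_⟩
  · rw [d.img_pow hm, show d.img m hm = Six.ebar from hmi]
    decide +kernel
  · have h4 : m ^ 4 ∈ d.J := by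
      rw [← d.img_eq_one (pow_mem hm 4), d.img_pow hm, show d.img m hm = Six.ebar from hmi]
      decide +kernel
    rw [← pow_mul, show 81 * 4 = 4 * 81 from rfl, pow_mul, show (81 : ℕ) = 3 * 27 from rfl, pow_mul,
      d.J_exp _ h4, one_pow]

/-- The element of order four normalising `S`. -/
noncomputable def e : G := d.exists_e.choose

theorem e_mem : d.e ∈ d.M := d.exists_e.choose_spec.1

theorem e_img : d.img d.e d.e_mem = Six.ebar := d.exists_e.choose_spec.2.1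

theorem e_pow : d.e ^ 4 = 1 := d.exists_e.choose_spec.2.2

/-- The involution `t`. -/
noncomputable def t : G := d.e * d.e

theorem t_mem : d.t ∈ d.M := mul_mem d.e_mem d.e_mem

theorem t_img : d.img d.t d.t_mem = Six.tbar := by
  show d.img (d.e * d.e) _ = _
  rw [d.img_mul d.e_mem d.e_mem, d.e_img, Six.ebar_sq]

theorem t_sq : d.t * d.t = 1 := by
  rw [t, show d.e * d.e * (d.e * d.e) = d.e ^ 4 by simp [pow_succ, mul_assoc], d.e_pow]

theorem t_inv : d.t⁻¹ = d.t := inv_eq_of_mul_eq_one_right d.t_sq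

theorem t_ne : d.t ≠ 1 := fun h => Six.tbar_ne (by
  rw [← d.t_img, d.img_eq_one, h]
  exact one_mem _)

theorem e_norms_J : Norms d.e d.J := d.M_norms _ d.e_mem

theorem t_norms_J : Norms d.t d.J := d.M_norms _ d.t_mem

theorem e_norms_S : Norms d.e d.S := (d.norms_S_iff d.e_mem).2 (d.e_img.symm ▸ Six.ebar_norm)

theorem e_norms_Z : Norms d.e d.Z := d.norms_Z_of_S d.e_norms_S

theorem t_norms_S : Norms d.t d.S := d.e_norms_S.mul d.e_norms_S

theorem t_norms_Z : Norms d.t d.Z := d.e_norms_Z.mul d.e_norms_Z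

theorem t_cent_Z {z : G} (hz : z ∈ d.Z) : d.t * z * d.t = z := by
  rcases eq_or_ne z 1 with rfl | hz1
  · rw [mul_one, d.t_sq]
  rcases d.Z_cases d.e_norms_Z hz hz1 with h | h
  · calc d.t * z * d.t = d.t * z * d.t⁻¹ := by rw [d.t_inv]
      _ = d.e * (d.e * z * d.e⁻¹) * d.e⁻¹ := by rw [t]; group
      _ = z := by rw [h, h]
  · calc d.t * z * d.t = d.t * z * d.t⁻¹ := by rw [d.t_inv]
      _ = d.e * (d.e * z * d.e⁻¹) * d.e⁻¹ := by rw [t]; group
      _ = d.e * z⁻¹ * d.e⁻¹ := by rw [h]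
      _ = (d.e * z * d.e⁻¹)⁻¹ := by group
      _ = z := by rw [h, inv_inv]

theorem t_inverts_mod_A {q : G} (hq : q ∈ d.Q) : d.t * q * d.t * q ∈ d.toHyp.A := by
  have hqS := d.Q_le hq
  have hqM := d.toHyp.S_le_M hqS
  have hQ := d.Q_norm _ d.t_norms_Z q hq
  rw [d.t_inv] at hQ
  refine mem_inf.2 ⟨?_, mul_mem hQ hq⟩
  rw [← d.img_eq_one (mul_mem (mul_mem (mul_mem d.t_mem hqM) d.t_mem) hqM)]
  rw [d.img_mul (mul_mem (mul_mem d.t_mem hqM) d.t_mem) hqM, d.img_mul (mul_mem d.t_mem hqM) d.t_mem,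
    d.img_mul d.t_mem hqM, d.t_img]
  have h := Six.tbar_invert _ ((d.pi_S ⟨q, hqM⟩).2 hqS)
  rw [inv_eq_of_mul_eq_one_right Six.tbar_sq] at h
  show Six.tbar * d.pi ⟨q, hqM⟩ * Six.tbar * d.pi ⟨q, hqM⟩ = 1
  rw [h, inv_mul_cancel]

theorem t_inverts_A {a : G} (ha : a ∈ d.toHyp.A) : a * (d.t * a * d.t) ∈ d.Z := by
  have haQ := d.toHyp.A_le_Q ha
  have hta : d.t * a * d.t ∈ d.toHyp.A := by
    have h1 := d.t_norms_J a (d.toHyp.A_le_J ha)
    have h2 := d.Q_norm _ d.t_norms_Z a haQ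
    rw [d.t_inv] at h1 h2
    exact mem_inf.2 ⟨h1, h2⟩
  refine d.Q_center _ (mul_mem haQ (d.toHyp.A_le_Q hta)) fun q hq => ?_
  -- `[q⁻¹, t a t] = [q, a]` and so `[q, a · t a t] = 1`
  set a' := d.t * a * d.t with ha'
  set b := d.t * q * d.t * q with hb
  have hbA : b ∈ d.toHyp.A := d.t_inverts_mod_A hq
  have hba : b * a' = a' * b := d.J_comm _ (d.toHyp.A_le_J hbA) _ (d.toHyp.A_le_J hta)
  set c := q * a * q⁻¹ * a⁻¹ with hc
  have hcZ : c ∈ d.Z := d.Q_comm q hq a haQ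
  have htc := d.t_cent_Z hcZ
  have hq' : d.t * q * d.t = b * q⁻¹ := by rw [hb]; group
  have e1 : (d.t * q * d.t) * a' * (d.t * q * d.t)⁻¹ * a'⁻¹ = c := by
    rw [mul_inv_rev, mul_inv_rev, ha', mul_inv_rev, mul_inv_rev, d.t_inv]
    calc d.t * q * d.t * (d.t * a * d.t) * (d.t * (q⁻¹ * d.t)) * (d.t * (a⁻¹ * d.t))
        = d.t * q * (d.t * d.t) * a * (d.t * d.t) * q⁻¹ * (d.t * d.t) * a⁻¹ * d.t := by group
      _ = d.t * c * d.t := by rw [d.t_sq, hc]; group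
      _ = c := htc
  have e2 : q⁻¹ * a' * q * a'⁻¹ = c := by
    rw [← e1, hq']
    have hx : q⁻¹ * a' * q * a'⁻¹ ∈ d.Z := by
      simpa using d.Q_comm q⁻¹ (inv_mem hq) a' (d.toHyp.A_le_Q hta)
    have hxb := d.Z_central _ hx b (d.Q_le (d.toHyp.A_le_Q hbA))
    calc q⁻¹ * a' * q * a'⁻¹ = b * (q⁻¹ * a' * q * a'⁻¹) * b⁻¹ := by rw [hxb, mul_inv_cancel_right]
      _ = b * q⁻¹ * a' * q * (b * a')⁻¹ := by group
      _ = b * q⁻¹ * a' * (b * q⁻¹)⁻¹ * a'⁻¹ := by rw [hba]; group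
  have hcc := d.Z_central _ hcZ
  have e3 : q * a' * q⁻¹ = c⁻¹ * a' := by
    have hx : q⁻¹ * a' * q = c * a' := by rw [← e2]; group
    calc q * a' * q⁻¹ = q * (c⁻¹ * (c * a')) * q⁻¹ := by group
      _ = (q * c⁻¹) * (q⁻¹ * a' * q) * q⁻¹ := by rw [hx]; group
      _ = c⁻¹ * a' := by rw [d.Z_central _ (inv_mem hcZ) q (d.Q_le hq)]; group
  have e4 : q * a * q⁻¹ = c * a := by rw [hc]; group
  calc q * (a * a') = (q * a * q⁻¹) * (q * a' * q⁻¹) * q := by group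
    _ = c * (a * c⁻¹) * a' * q := by rw [e3, e4]; group
    _ = a * a' * q := by rw [d.Z_central _ (inv_mem hcZ) a (d.Q_le haQ)]; group

theorem t_mem_L : d.t ∈ d.L := by
  obtain ⟨⟨m, hm⟩, hms⟩ := d.toSL_surj (-1)
  have hm2 : m ^ 2 ∈ d.Q := by
    rw [← d.toHyp.sl_eq_one (pow_mem hm 2)]
    show d.toSL (⟨m, hm⟩ ^ 2) = 1
    rw [map_pow, hms]
    simp [pow_two]
  set t0 := m ^ 243 with ht0
  have ht0L : t0 ∈ d.L := pow_mem hm _
  have ht02 : t0 * t0 = 1 := by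
    rw [ht0, ← pow_add, show 243 + 243 = 2 * (3 * 81) from rfl, pow_mul, pow_mul, d.Q_exp _ hm2, one_pow]
  have ht0i : t0⁻¹ = t0 := inv_eq_of_mul_eq_one_right ht02
  have ht01 : t0 ≠ 1 := by
    intro h
    have : d.toSL (⟨m, hm⟩ ^ 243) = 1 := (d.toSL_ker _).2 (show t0 ∈ d.Q from h.symm ▸ one_mem _)
    rw [map_pow, hms] at this
    exact absurd this (by decide +kernel)
  set u := d.t * t0 with hu
  have huZ : Norms u d.Z := d.t_norms_Z.mul (d.L_norms _ ht0L)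
  have hui : u⁻¹ = t0 * d.t := by rw [hu, mul_inv_rev, ht0i, d.t_inv]
  have hQA : ∀ q ∈ d.Q, u * q * u⁻¹ * q⁻¹ ∈ d.toHyp.A := by
    intro q hq
    have hz := d.toHyp.invol_inverts ht0L ht02 ht01 hq
    set z := q * (t0 * q * t0) with hzdef
    have : u * q * u⁻¹ * q⁻¹ = (d.t * q⁻¹ * d.t * q⁻¹) * (q * (d.t * z * d.t) * q⁻¹) := by
      rw [hui, hu, hzdef]
      calc d.t * t0 * q * (t0 * d.t) * q⁻¹ = d.t * q⁻¹ * (q * (t0 * q * t0)) * d.t * q⁻¹ := by group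
        _ = d.t * q⁻¹ * (d.t * d.t) * (q * (t0 * q * t0)) * d.t * q⁻¹ := by rw [d.t_sq, mul_one]
        _ = _ := by group
    rw [this, d.t_cent_Z hz, d.Z_central z hz q (d.Q_le hq), mul_inv_cancel_right]
    exact mul_mem (d.t_inverts_mod_A (inv_mem hq)) (d.toHyp.Z_le_A hz)
  have hAZ : ∀ a ∈ d.toHyp.A, u * a * u⁻¹ * a⁻¹ ∈ d.Z := by
    intro a ha
    have hz := d.toHyp.invol_inverts ht0L ht02 ht01 (d.toHyp.A_le_Q ha)
    set z := a * (t0 * a * t0) with hzdef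
    have : u * a * u⁻¹ * a⁻¹ = (a * (d.t * a * d.t))⁻¹ * a * (d.t * z * d.t) * a⁻¹ := by
      rw [hui, hu, hzdef, mul_inv_rev, mul_inv_rev, mul_inv_rev, d.t_inv]
      calc d.t * t0 * a * (t0 * d.t) * a⁻¹ = d.t * a⁻¹ * (a * (t0 * a * t0)) * d.t * a⁻¹ := by group
        _ = d.t * a⁻¹ * (d.t * (a⁻¹ * a) * d.t) * (a * (t0 * a * t0)) * d.t * a⁻¹ := by
          rw [inv_mul_cancel, mul_one, d.t_sq, mul_one]
        _ = _ := by group
    rw [this, d.t_cent_Z hz, mul_assoc _ a z, d.Z_central z hz a (d.Q_le (d.toHyp.A_le_Q ha))]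
    simpa [mul_assoc] using mul_mem (inv_mem (d.t_inverts_A ha)) hz
  have hZ1 : ∀ z ∈ d.Z, u * z * u⁻¹ * z⁻¹ = 1 := by
    intro z hz
    rw [hui, hu]
    have h0 : t0 * z = z * t0 := d.L_cent _ ht0L z hz
    calc d.t * t0 * z * (t0 * d.t) * z⁻¹ = d.t * (t0 * z * t0) * d.t * z⁻¹ := by group
      _ = (d.t * z * d.t) * z⁻¹ := by rw [h0, mul_assoc z, ht02, mul_one]
      _ = 1 := by rw [d.t_cent_Z hz, mul_inv_cancel]
  have hpow : ∀ n : ℕ, (∀ q ∈ d.Q, u ^ n * q * (u ^ n)⁻¹ * q⁻¹ ∈ d.toHyp.A) ∧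
      (∀ a ∈ d.toHyp.A, u ^ n * a * (u ^ n)⁻¹ * a⁻¹ ∈ d.Z) ∧
      (∀ z ∈ d.Z, u ^ n * z * (u ^ n)⁻¹ * z⁻¹ = 1) := by
    intro n
    induction n with
    | zero => exact ⟨fun q _ => by simp, fun a _ => by simp, fun z _ => by simp⟩
    | succ n ih =>
      have key : ∀ x : G, u ^ (n + 1) * x * (u ^ (n + 1))⁻¹ * x⁻¹
          = u * (u ^ n * x * (u ^ n)⁻¹ * x⁻¹) * u⁻¹ * (u * x * u⁻¹ * x⁻¹) := by
        intro x; rw [pow_succ']; group
      refine ⟨fun q hq => ?_, fun a ha => ?_, fun z hz => ?_⟩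
      · rw [key]
        have hA1 := ih.1 q hq
        have := mul_mem (d.toHyp.Z_le_A (hAZ _ hA1)) hA1
        rw [inv_mul_cancel_right] at this
        exact mul_mem this (hQA q hq)
      · rw [key]
        exact mul_mem (huZ _ (ih.2.1 a ha)) (hAZ a ha)
      · rw [key, ih.2.2 z hz, mul_one, mul_inv_cancel, one_mul, hZ1 z hz]
  obtain ⟨k, hk⟩ := three_element (g := u) fun x hx hcop => by
    obtain ⟨n, rfl⟩ := (mem_powers_iff_mem_zpowers.2 hx : x ∈ Submonoid.powers u)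
    obtain ⟨h1, h2, h3⟩ := hpow n
    have hser := series_three (x := u ^ n) d.toHyp.A_le_Q d.toHyp.Z_le_A
      (by rw [d.Q_card]; simpa using hcop.pow_right 5) h1 h2 h3
    exact d.toHyp.eq_one_of_coprime (d.Q_le (d.Q_self _ hser)) hcop
  have := mul_mem (d.L_three u huZ ⟨k, hk⟩) ht0L
  rwa [hu, mul_assoc, ht02, mul_one] at this

theorem exists_s : ∃ s : G, ∃ hs : s ∈ d.M, d.img s hs = Six.wbar ∧ s * s = 1 ∧ s * d.t = d.t * s := by
  obtain ⟨⟨g, hg⟩, hgi⟩ := d.pi_surj Six.wbar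
  set q := d.t * (g * d.t * g⁻¹) with hq
  have hgtg := mul_mem (mul_mem hg d.t_mem) (inv_mem hg)
  have hqJ : q ∈ d.J := by
    rw [← d.img_eq_one (mul_mem d.t_mem hgtg), d.img_mul d.t_mem hgtg, d.img_conj hg d.t_mem, d.t_img,
      show d.img g hg = Six.wbar from hgi, Six.wbar_comm, mul_inv_cancel_right, Six.tbar_sq]
  have hsq : (g * d.t * g⁻¹) * (g * d.t * g⁻¹) = 1 := by
    calc (g * d.t * g⁻¹) * (g * d.t * g⁻¹) = g * (d.t * d.t) * g⁻¹ := by group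
      _ = 1 := by rw [d.t_sq]; group
  have htq : d.t * q * d.t = q⁻¹ := by
    rw [hq, mul_inv_rev, d.t_inv, inv_eq_of_mul_eq_one_right hsq, ← mul_assoc, d.t_sq, one_mul]
  obtain ⟨m, hm, hmt⟩ := exists_sqrt_conj (n := 1) d.t_sq htq (d.J_exp q hqJ)
  have hmJ : m ∈ d.J := zpowers_le.2 hqJ hm
  rw [hq, ← mul_assoc d.t d.t, d.t_sq, one_mul] at hmt
  set g' := m * g with hg'
  have hg'M : g' ∈ d.M := mul_mem (d.J_le_M hmJ) hg
  have hg'i : d.img g' hg'M = Six.wbar := by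
    rw [d.img_mul (d.J_le_M hmJ) hg, (d.img_eq_one _).2 hmJ, one_mul]
    exact hgi
  have hc : g' * d.t = d.t * g' := by
    rw [← mul_inv_eq_iff_eq_mul, hg']
    calc m * g * d.t * (m * g)⁻¹ = m * (g * d.t * g⁻¹) * m⁻¹ := by group
      _ = d.t := hmt
  refine ⟨g' ^ 81, pow_mem hg'M _, ?_, ?_, (Commute.pow_left hc 81).eq⟩
  · rw [d.img_pow hg'M, hg'i]; decide +kernel
  · have hJ : g' ^ 2 ∈ d.J := by
      rw [← d.img_eq_one (pow_mem hg'M 2), d.img_pow hg'M, hg'i]; decide +kernel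
    rw [← pow_two, ← pow_mul, show 81 * 2 = 2 * (3 * 27) from rfl, pow_mul, pow_mul, d.J_exp _ hJ, one_pow]

/-- The involution exchanging the two conjugates of `Z`. -/
noncomputable def s : G := d.exists_s.choose

theorem s_mem : d.s ∈ d.M := d.exists_s.choose_spec.1

theorem s_img : d.img d.s d.s_mem = Six.wbar := d.exists_s.choose_spec.2.1

theorem s_sq : d.s * d.s = 1 := d.exists_s.choose_spec.2.2.1

theorem s_inv : d.s⁻¹ = d.s := inv_eq_of_mul_eq_one_right d.s_sq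

theorem s_comm : d.s * d.t = d.t * d.s := d.exists_s.choose_spec.2.2.2

theorem s_norms_J : Norms d.s d.J := d.M_norms _ d.s_mem

theorem exists_z : ∃ z : G, z ∈ d.Z ∧ z ≠ 1 := by
  obtain ⟨z, hz, hne⟩ := (Subgroup.ne_bot_iff_exists_ne_one.1 (fun h : d.Z = ⊥ => by
    have := d.Z_card
    rw [h, Subgroup.card_bot] at this
    omega) : ∃ z : d.Z, z ≠ 1) |> fun ⟨z, hz⟩ => (⟨z.1, z.2, fun h => hz (Subtype.ext h)⟩ : ∃ z, z ∈ d.Z ∧ z ≠ 1)
  exact ⟨z, hz, hne⟩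

/-- A generator of `Z`. -/
noncomputable def z : G := d.exists_z.choose

theorem z_mem : d.z ∈ d.Z := d.exists_z.choose_spec.1

theorem z_ne : d.z ≠ 1 := d.exists_z.choose_spec.2

/-- The second conjugate. -/
noncomputable def z2 : G := d.s * d.z * d.s

theorem z_mem_J : d.z ∈ d.J := d.toHyp.A_le_J (d.toHyp.Z_le_A d.z_mem)

theorem z2_mem_J : d.z2 ∈ d.J := by
  have := d.s_norms_J _ d.z_mem_J
  rwa [d.s_inv] at this

theorem z_three : d.z ^ 3 = 1 := d.J_exp _ d.z_mem_J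

theorem z2_three : d.z2 ^ 3 = 1 := d.J_exp _ d.z2_mem_J

theorem z2_ne : d.z2 ≠ 1 := fun h => d.z_ne (by
  calc d.z = (d.s * d.s) * d.z * (d.s * d.s) := by rw [d.s_sq, one_mul, mul_one]
    _ = d.s * d.z2 * d.s := by rw [z2]; group
    _ = 1 := by rw [h, mul_one, d.s_sq])

theorem z2_not_Z : d.z2 ∉ d.Z := by
  intro hmem
  have hsZ : Norms d.s d.Z := by
    intro x hx
    have hZz : x ∈ zpowers d.z := by
      have hle : zpowers d.z = d.Z := by
        refine Subgroup.eq_of_le_of_card_ge (zpowers_le.2 d.z_mem) ?_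
        rw [d.Z_card, Nat.card_zpowers, orderOf_eq_prime d.z_three d.z_ne]
      exact hle.symm ▸ hx
    obtain ⟨n, rfl⟩ := hZz
    rw [← conj_zpow, d.s_inv]
    exact zpow_mem hmem n
  exact Six.wbar_not (d.s_img ▸ (d.norms_S_iff d.s_mem).1 (d.toHyp.norms_S hsZ d.s_norms_J))

theorem t_z : d.t * d.z * d.t = d.z := d.t_cent_Z d.z_mem

theorem t_z2 : d.t * d.z2 * d.t = d.z2 := by
  calc d.t * d.z2 * d.t = (d.t * d.s) * d.z * (d.s * d.t) := by rw [z2]; group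
    _ = (d.s * d.t) * d.z * (d.t * d.s) := by rw [d.s_comm]
    _ = d.s * (d.t * d.z * d.t) * d.s := by group
    _ = d.z2 := by rw [d.t_z, z2]

/-- `C_J(t)`. -/
noncomputable def D : Subgroup G := fixIn d.t d.J

theorem mem_D {x : G} : x ∈ d.D ↔ x ∈ d.J ∧ d.t * x * d.t = x := by
  rw [D, mem_fixIn, d.t_inv]

theorem z_D : d.z ∈ d.D := d.mem_D.2 ⟨d.z_mem_J, d.t_z⟩

theorem z2_D : d.z2 ∈ d.D := d.mem_D.2 ⟨d.z2_mem_J, d.t_z2⟩

theorem D_inf_Q {x : G} (hx : x ∈ d.D) (hQ : x ∈ d.Q) : x ∈ d.Z := by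
  rw [← d.toHyp.invol_fix_Z d.t_mem_L d.t_sq d.t_ne, mem_fixIn, d.t_inv]
  exact ⟨hQ, (d.mem_D.1 hx).2⟩

theorem z2_not_Q : d.z2 ∉ d.Q := fun h => d.z2_not_Z (d.D_inf_Q d.z2_D h)

theorem closure_D : d.D = Subgroup.closure {d.z, d.z2} ∧ Nat.card d.D = 9 := by
  have hle : Subgroup.closure {d.z, d.z2} ≤ d.D := by
    rw [closure_le]
    rintro x (rfl | rfl)
    · exact d.z_D
    · exact d.z2_D
  have hup : Nat.card d.D ≤ 9 := by
    have e1 : Nat.card (d.D ⊓ d.Q : Subgroup G) * d.Q.relIndex d.D = Nat.card d.D := by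
      rw [← Subgroup.inf_relIndex_left]
      exact Hyp.card_mul_relIndex inf_le_left
    have e2 : 243 * d.Q.relIndex d.S = 729 := by
      rw [← d.Q_card, ← d.S_card]
      exact Hyp.card_mul_relIndex d.Q_le
    have e3 : d.Q.relIndex d.D ≤ d.Q.relIndex d.S :=
      Subgroup.relIndex_le_of_le_right ((inf_le_left : d.D ≤ d.J).trans d.J_le)
        (by intro h0; rw [h0] at e2; omega)
    have h3 : Nat.card (d.D ⊓ d.Q : Subgroup G) ≤ 3 :=
      d.Z_card ▸ Subgroup.card_le_of_le (fun x hx => d.D_inf_Q (mem_inf.1 hx).1 (mem_inf.1 hx).2)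
    calc Nat.card d.D = _ := e1.symm
      _ ≤ 3 * 3 := Nat.mul_le_mul h3 (by omega)
  have hlow : 9 ≤ Nat.card (Subgroup.closure {d.z, d.z2}) := by
    have hle1 : d.Z ≤ Subgroup.closure {d.z, d.z2} := by
      intro x hx
      have hZz : zpowers d.z = d.Z := by
        refine Subgroup.eq_of_le_of_card_ge (zpowers_le.2 d.z_mem) ?_
        rw [d.Z_card, Nat.card_zpowers, orderOf_eq_prime d.z_three d.z_ne]
      exact zpowers_le.2 (Subgroup.subset_closure (show d.z ∈ ({d.z, d.z2} : Set G) from Or.inl rfl)) (hZz.symm ▸ hx)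
    obtain ⟨k, hk⟩ : 3 ∣ Nat.card (Subgroup.closure {d.z, d.z2}) := d.Z_card ▸ card_dvd_of_le hle1
    have hlt : Nat.card d.Z < Nat.card (Subgroup.closure {d.z, d.z2}) := by
      refine lt_of_le_of_ne (Subgroup.card_le_of_le hle1) fun he => d.z2_not_Z ?_
      rw [Subgroup.eq_of_le_of_card_ge hle1 he.ge]
      exact Subgroup.subset_closure (Or.inr rfl)
    obtain ⟨b, -, hb⟩ := (Nat.dvd_prime_pow (p := 3) Nat.prime_three).1
      (show Nat.card (Subgroup.closure {d.z, d.z2}) ∣ 3 ^ 4 from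
        (card_dvd_of_le (hle.trans inf_le_left)).trans (d.J_card.dvd.trans (by norm_num)))
    rw [d.Z_card, hb] at hlt
    have : 1 < b := (Nat.pow_lt_pow_iff_right (by norm_num : 1 < 3)).1 (by simpa using hlt)
    rw [hb]
    calc 9 = 3 ^ 2 := by norm_num
      _ ≤ 3 ^ b := Nat.pow_le_pow_right (by norm_num) this
  have heq := Subgroup.eq_of_le_of_card_ge hle (hup.trans hlow)
  exact ⟨heq.symm, le_antisymm hup (hlow.trans (Subgroup.card_le_of_le hle))⟩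

theorem D_card : Nat.card d.D = 9 := d.closure_D.2

theorem D_le_J : d.D ≤ d.J := inf_le_left

theorem D_induction {P : G → Prop} {x : G} (hx : x ∈ d.D) (hz : P d.z) (hz2 : P d.z2) (h1 : P 1)
    (hmul : ∀ a b, P a → P b → P (a * b)) : P x := by
  rw [d.closure_D.1] at hx
  refine Subgroup.closure_induction_left (p := fun a _ => P a) h1 ?_ ?_ hx
  · rintro a (rfl | rfl) b _ hb
    · exact hmul _ _ hz hb
    · exact hmul _ _ hz2 hb
  · rintro a (rfl | rfl) b _ hb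
    · exact hmul _ _ (by rw [inv_eq_sq d.z_three, pow_two]; exact hmul _ _ hz hz) hb
    · exact hmul _ _ (by rw [inv_eq_sq d.z2_three, pow_two]; exact hmul _ _ hz2 hz2) hb

/-- The part of `J` inverted by `t`. -/
noncomputable def W : Subgroup G where
  carrier := {x | x ∈ d.J ∧ d.t * x * d.t = x⁻¹}
  one_mem' := ⟨one_mem _, by rw [mul_one, inv_one, d.t_sq]⟩
  mul_mem' := fun {a b} ha hb => ⟨mul_mem ha.1 hb.1, by
    calc d.t * (a * b) * d.t = d.t * a * (d.t * d.t) * b * d.t := by rw [d.t_sq]; group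
      _ = (d.t * a * d.t) * (d.t * b * d.t) := by group
      _ = a⁻¹ * b⁻¹ := by rw [ha.2, hb.2]
      _ = (a * b)⁻¹ := by rw [mul_inv_rev, d.J_comm _ (inv_mem ha.1) _ (inv_mem hb.1)]⟩
  inv_mem' := fun {a} ha => ⟨inv_mem ha.1, by
    calc d.t * a⁻¹ * d.t = (d.t * a * d.t)⁻¹ := by rw [mul_inv_rev, mul_inv_rev, d.t_inv]; group
      _ = a⁻¹⁻¹ := by rw [ha.2]⟩

theorem mem_W {x : G} : x ∈ d.W ↔ x ∈ d.J ∧ d.t * x * d.t = x⁻¹ := Iff.rfl

theorem t_conj_J {x : G} (hx : x ∈ d.J) : d.t * x * d.t ∈ d.J := by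
  have := d.t_norms_J x hx
  rwa [d.t_inv] at this

/-- Splitting of an element of `J`. -/
theorem split {x : G} (hx : x ∈ d.J) : ∃ a ∈ d.D, ∃ w ∈ d.W, x = a * w := by
  set w := x⁻¹ * (d.t * x * d.t) with hw
  have hwJ : w ∈ d.J := mul_mem (inv_mem hx) (d.t_conj_J hx)
  have hwW : w ∈ d.W := ⟨hwJ, by
    rw [hw, mul_inv_rev, inv_inv, mul_inv_rev, mul_inv_rev, d.t_inv]
    calc d.t * (x⁻¹ * (d.t * x * d.t)) * d.t = d.t * x⁻¹ * d.t * x * (d.t * d.t) := by group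
      _ = d.t * x⁻¹ * d.t * x := by rw [d.t_sq, mul_one]
      _ = _ := by group⟩
  refine ⟨x * (w * w), d.mem_D.2 ⟨mul_mem hx (mul_mem hwJ hwJ), ?_⟩, w, hwW, ?_⟩
  · calc d.t * (x * (w * w)) * d.t = (d.t * x * d.t) * (d.t * w * d.t) * (d.t * w * d.t) := by
          calc d.t * (x * (w * w)) * d.t
              = d.t * x * (d.t * d.t) * w * (d.t * d.t) * w * d.t := by rw [d.t_sq]; group
            _ = _ := by group
      _ = (x * w) * w⁻¹ * w⁻¹ := by rw [hwW.2, hw, mul_inv_cancel_left]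
      _ = x * (w * w) := by rw [mul_inv_cancel_right, inv_eq_sq (d.J_exp w hwJ), pow_two]
  · rw [mul_assoc x, ← pow_two, ← pow_succ, d.J_exp w hwJ, mul_one]

theorem W_le_A : d.W ≤ d.toHyp.A := by
  intro x hx
  refine mem_inf.2 ⟨hx.1, ?_⟩
  have h := d.toHyp.invol_comm_mod d.t_mem_L d.t_sq d.t_ne (d.toHyp.S_le_L (d.J_le hx.1))
  rw [hx.2, ← mul_inv_rev, ← pow_two] at h
  have h2 := inv_mem h
  rw [inv_inv] at h2
  have : x = x ^ 2 * x ^ 2 := by
    rw [← pow_add, show 2 + 2 = 3 + 1 from rfl, pow_succ, d.J_exp x hx.1, one_mul]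
  rw [this]
  exact mul_mem h2 h2

theorem W_inf_D {x : G} (hW : x ∈ d.W) (hD : x ∈ d.D) : x = 1 := by
  have h := hW.2
  rw [(d.mem_D.1 hD).2, eq_inv_iff_mul_eq_one, ← pow_two] at h
  calc x = x ^ 3 := by rw [pow_succ, h, one_mul]
    _ = 1 := d.J_exp x hW.1

theorem W_card : Nat.card d.W = 9 := by
  let f : d.D × d.W → d.J := fun p => ⟨(p.1 : G) * p.2, mul_mem (d.D_le_J p.1.2) p.2.2.1⟩
  have hbij : Function.Bijective f := by
    refine ⟨fun p q hpq => ?_, fun x => ?_⟩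
    · have h := congrArg Subtype.val hpq
      have hx : (q.1 : G)⁻¹ * p.1 = q.2 * (p.2 : G)⁻¹ := by
        rw [eq_mul_inv_iff_mul_eq, mul_assoc, show (p.1 : G) * p.2 = q.1 * q.2 from h, inv_mul_cancel_left]
      have h1 := d.W_inf_D (hx ▸ mul_mem q.2.2 (inv_mem p.2.2)) (mul_mem (inv_mem q.1.2) p.1.2)
      have e1 : (q.1 : G) = p.1 := inv_mul_eq_one.1 h1
      refine Prod.ext (Subtype.ext e1.symm) (Subtype.ext ?_)
      exact mul_left_cancel (show (p.1 : G) * p.2 = p.1 * q.2 by rw [show (p.1 : G) * p.2 = q.1 * q.2 from h, e1])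
    · obtain ⟨a, ha, w, hw, he⟩ := d.split x.2
      exact ⟨(⟨a, ha⟩, ⟨w, hw⟩), Subtype.ext he.symm⟩
  have := Nat.card_congr (Equiv.ofBijective f hbij)
  rw [Nat.card_prod, d.D_card, d.J_card] at this
  omega

/-- Elements centralising `D` normalise `J`. -/
theorem cent_D_norms {c : G} (h1 : c * d.z = d.z * c) (h2 : c * d.z2 = d.z2 * c) :
    Norms c d.S ∧ Norms c d.J := by
  have hfix : ∀ x ∈ d.D, c * x = x * c := fun x hx =>
    d.D_induction (P := fun x => c * x = x * c) hx h1 h2 (by simp)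
      (fun a b ha hb => by rw [← mul_assoc, ha, mul_assoc, hb, mul_assoc])
  have hZ : Norms c d.Z := Norms.of_cent fun x hx =>
    hfix x (d.mem_D.2 ⟨d.toHyp.A_le_J (d.toHyp.Z_le_A hx), d.t_cent_Z hx⟩)
  have hQ := d.Q_norm c hZ
  have hS : Norms c d.S := by
    intro x hx
    obtain ⟨j, hj, q, hq, rfl⟩ := d.toHyp.S_eq hx
    obtain ⟨a, ha, w, hw, rfl⟩ := d.split hj
    rw [show c * (a * w * q) * c⁻¹ = (c * a * c⁻¹) * (c * (w * q) * c⁻¹) by group, hfix a ha,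
      mul_inv_cancel_right]
    exact mul_mem (d.J_le (d.D_le_J ha))
      (d.Q_le (hQ _ (mul_mem (d.toHyp.A_le_Q (d.W_le_A hw)) hq)))
  exact ⟨hS, d.toHyp.conj_eq_J fun x hx => hS x (d.J_le hx)⟩

theorem three_norms_S {c : G} (hS : Norms c d.S) (h3 : ∃ k : ℕ, orderOf c = 3 ^ k) : c ∈ d.S := by
  have : Fact (Nat.Prime 3) := ⟨Nat.prime_three⟩
  obtain ⟨k, hk⟩ := h3
  have hp : IsPGroup 3 (zpowers c ⊔ d.S : Subgroup G) :=
    IsPGroup.to_sup_of_normal_right' (IsPGroup.of_card (n := k) (by rw [Nat.card_zpowers, hk]))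
      d.toHyp.isPGroup_S (zpowers_le.2 hS.mem_normalizer)
  obtain ⟨g, hg⟩ := d.S_sylow _ hp
  have hle : Nat.card (zpowers c ⊔ d.S : Subgroup G) ≤ Nat.card d.S :=
    Nat.card_le_card_of_injective (fun x => (⟨g * (x : G) * g⁻¹, hg _ x.2⟩ : d.S)) fun a b hab =>
      Subtype.ext (mul_left_cancel (mul_right_cancel (congrArg Subtype.val hab)))
  rw [Subgroup.eq_of_le_of_card_ge le_sup_right hle]
  exact mem_sup_left (mem_zpowers c)

theorem cent_D_three {c : G} (h1 : c * d.z = d.z * c) (h2 : c * d.z2 = d.z2 * c)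
    (h3 : ∃ k : ℕ, orderOf c = 3 ^ k) : c ∈ d.J := by
  have hcS := d.three_norms_S (d.cent_D_norms h1 h2).1 h3
  obtain ⟨j, hj, q, hq, rfl⟩ := d.toHyp.S_eq hcS
  refine mul_mem hj (d.toHyp.A_le_J ?_)
  rw [← d.toHyp.preFix_eq_A d.z2_mem_J d.z2_not_Q]
  refine ⟨hq, ?_⟩
  have hj2 := d.J_comm j hj _ d.z2_mem_J
  have hcomm : q * d.z2 = d.z2 * q := by
    calc q * d.z2 = j⁻¹ * (j * q * d.z2) := by group
      _ = j⁻¹ * (d.z2 * j) * q := by rw [h2]; group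
      _ = d.z2 * q := by rw [← hj2]; group
  rw [← hcomm, mul_inv_cancel_right, mul_inv_cancel]
  exact one_mem _

theorem norms_J_of_D {g : G} (hg : Norms g d.D) : Norms g d.J := by
  intro x hx
  have hc : ∀ a ∈ d.D, (g * x * g⁻¹) * a = a * (g * x * g⁻¹) := by
    intro a ha
    have ha' : g⁻¹ * a * g ∈ d.D := by simpa using hg.inv a ha
    calc (g * x * g⁻¹) * a = g * (x * (g⁻¹ * a * g)) * g⁻¹ := by group
      _ = g * ((g⁻¹ * a * g) * x) * g⁻¹ := by rw [d.J_comm x hx _ (d.D_le_J ha')]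
      _ = a * (g * x * g⁻¹) := by group
  refine d.cent_D_three (hc _ d.z_D) (hc _ d.z2_D) ?_
  obtain ⟨k, hk⟩ := d.toHyp.orderOf_S (d.J_le hx)
  exact ⟨k, by rw [← hk]; exact orderOf_injective (MulAut.conj g).toMonoidHom (MulAut.conj g).injective x⟩

theorem exists_norm_S {g : G} (hg : Norms g d.J) : ∃ m ∈ d.M, Norms (m * g) d.S := by
  set S' := d.S.map (MulAut.conj g).toMonoidHom with hS'
  have hS'M : S' ≤ d.M := by
    rintro _ ⟨x, hx, rfl⟩
    exact d.M_normal g hg x (d.toHyp.S_le_M hx)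
  have hJS' : d.J ≤ S' := by
    intro x hx
    refine ⟨g⁻¹ * x * g, d.J_le (by simpa using hg.inv x hx), ?_⟩
    simp [mul_assoc]
  have hU : Nat.card ((S'.subgroupOf d.M).map d.pi) = 9 := by
    have h729 : Nat.card (S'.subgroupOf d.M) = 729 := by
      rw [Nat.card_congr (Subgroup.subgroupOfEquivOfLe hS'M).toEquiv, hS',
        Subgroup.card_map_of_injective (MulAut.conj g).injective, d.S_card]
    have hker : (d.pi.comp (S'.subgroupOf d.M).subtype).ker = (d.J.subgroupOf d.M).subgroupOf (S'.subgroupOf d.M) := by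
      ext x; exact d.pi_ker x.1
    have h1 := (d.pi.comp (S'.subgroupOf d.M).subtype).ker.card_mul_index
    have hle : d.J.subgroupOf d.M ≤ S'.subgroupOf d.M := fun y hy => hJS' hy
    rw [Subgroup.index_ker, h729, hker, Nat.card_congr (Subgroup.subgroupOfEquivOfLe hle).toEquiv,
      Nat.card_congr (Subgroup.subgroupOfEquivOfLe d.J_le_M).toEquiv, d.J_card] at h1
    rw [show (S'.subgroupOf d.M).map d.pi = (d.pi.comp (S'.subgroupOf d.M).subtype).range by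
      rw [MonoidHom.range_comp, Subgroup.range_subtype]]
    omega
  obtain ⟨a, ha⟩ := six_conj hU
  obtain ⟨⟨m, hm⟩, hma⟩ := d.pi_surj a
  refine ⟨m, hm, fun x hx => ?_⟩
  have hy : g * x * g⁻¹ ∈ S' := ⟨x, hx, rfl⟩
  have hyM := hS'M hy
  rw [show m * g * x * (m * g)⁻¹ = m * (g * x * g⁻¹) * m⁻¹ by group]
  refine (d.pi_S ⟨_, mul_mem (mul_mem hm hyM) (inv_mem hm)⟩).1 ?_
  show Six.InP (d.img _ _)
  rw [d.img_conj hm hyM, show d.img m hm = a from hma]
  exact (ha _).2 ⟨⟨_, hyM⟩, hy, rfl⟩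

/-- The conjugates of `z` under `N(J)` commuting with `t`. -/
theorem zconj {g : G} (hg : Norms g d.J) (hc : d.t * (g * d.z * g⁻¹) * d.t = g * d.z * g⁻¹) :
    g * d.z * g⁻¹ = d.z ∨ g * d.z * g⁻¹ = d.z⁻¹ ∨ g * d.z * g⁻¹ = d.z2 ∨ g * d.z * g⁻¹ = d.z2⁻¹ := by
  obtain ⟨m, hm, hmg⟩ := d.exists_norm_S hg
  -- reduce to an element of `M₀`
  set n := m⁻¹ with hn
  have hnM : n ∈ d.M := inv_mem hm
  have key : ∀ y : G, (y = d.z ∨ y = d.z⁻¹) → d.t * (n * y * n⁻¹) * d.t = n * y * n⁻¹ →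
      n * y * n⁻¹ = d.z ∨ n * y * n⁻¹ = d.z⁻¹ ∨ n * y * n⁻¹ = d.z2 ∨ n * y * n⁻¹ = d.z2⁻¹ := by
    intro y hy hcy
    have hyZ : y ∈ d.Z := by rcases hy with rfl | rfl; exacts [d.z_mem, inv_mem d.z_mem]
    have hy1 : y ≠ 1 := by
      rcases hy with rfl | rfl
      exacts [d.z_ne, inv_ne_one.2 d.z_ne]
    set u := n⁻¹ * d.t * n with hu
    have huM : u ∈ d.M := mul_mem (mul_mem (inv_mem hnM) d.t_mem) hnM
    have hucomm : u * y * u⁻¹ = y := by
      calc u * y * u⁻¹ = n⁻¹ * (d.t * (n * y * n⁻¹) * d.t⁻¹) * n := by rw [hu]; group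
        _ = n⁻¹ * (n * y * n⁻¹) * n := by rw [d.t_inv, hcy]
        _ = y := by group
    have huZ : Norms u d.Z := by
      intro x hx
      have hZz : zpowers y = d.Z := by
        refine Subgroup.eq_of_le_of_card_ge (zpowers_le.2 hyZ) ?_
        rw [d.Z_card, Nat.card_zpowers, orderOf_eq_prime (d.Q_exp y (d.Z_le hyZ)) hy1]
      rw [← hZz] at hx
      obtain ⟨i, rfl⟩ := hx
      rw [← conj_zpow, hucomm]
      exact zpow_mem hyZ i
    have hInN := (d.norms_S_iff huM).1 (d.toHyp.norms_S huZ (d.M_norms u huM))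
    have himg : d.img u huM = (d.img n hnM)⁻¹ * Six.tbar * d.img n hnM := by
      show d.img (n⁻¹ * d.t * n) _ = _
      rw [d.img_mul (mul_mem (inv_mem hnM) d.t_mem) hnM, d.img_mul (inv_mem hnM) d.t_mem, d.img_inv hnM, d.t_img]
    rw [himg] at hInN
    rcases Six.conj_tbar _ hInN with hN | hN
    · rcases d.Z_cases (d.norms_Z_of_S ((d.norms_S_iff hnM).2 hN)) hyZ hy1 with h | h
      · rcases hy with rfl | rfl
        · exact Or.inl h
        · exact Or.inr (Or.inl h)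
      · rcases hy with rfl | rfl
        · exact Or.inr (Or.inl h)
        · exact Or.inl (by rw [h, inv_inv])
    · have hsn : d.s * n ∈ d.M := mul_mem d.s_mem hnM
      rw [← d.s_img, ← d.img_mul d.s_mem hnM] at hN
      have hcase := d.Z_cases (d.norms_Z_of_S ((d.norms_S_iff hsn).2 hN)) hyZ hy1
      have e : n * y * n⁻¹ = d.s * ((d.s * n) * y * (d.s * n)⁻¹) * d.s := by
        calc n * y * n⁻¹ = (d.s * d.s) * (n * y * n⁻¹) * (d.s * d.s) := by rw [d.s_sq, one_mul, mul_one]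
          _ = _ := by rw [mul_inv_rev, d.s_inv]; group
      have ei : d.s * d.z⁻¹ * d.s = d.z2⁻¹ := by
        rw [z2, mul_inv_rev, mul_inv_rev, d.s_inv]; group
      rcases hy with rfl | rfl <;> rcases hcase with h | h <;> rw [e, h]
      · exact Or.inr (Or.inr (Or.inl rfl))
      · exact Or.inr (Or.inr (Or.inr ei))
      · exact Or.inr (Or.inr (Or.inr ei))
      · rw [inv_inv]; exact Or.inr (Or.inr (Or.inl rfl))
  have hZ := d.Z_cases (d.norms_Z_of_S hmg) d.z_mem d.z_ne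
  have e : g * d.z * g⁻¹ = n * ((m * g) * d.z * (m * g)⁻¹) * n⁻¹ := by rw [hn]; group
  rw [e] at hc ⊢
  rcases hZ with h | h <;> rw [h] at hc ⊢
  · exact key _ (Or.inl rfl) hc
  · exact key _ (Or.inr rfl) hc

end Std

end Cfsg.Agent.Lib.McL3Local35
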