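import Cfsg.Agent.Lib.McL3Local35.CentY

/-!
# The image of `D` in `C(t)/⟨t⟩`: centralisers and normalisers
-/

set_option autoImplicit false

namespace Cfsg.Agent.Lib.McL3Local35

open Subgroup

/-- A homomorphism from the dihedral group of order eight which moves the central rotation is injective. -/
theorem dihedral_injective {H : Type*} [Group H] (f : DihedralGroup 4 →* H) (h : f (.r 2) ≠ 1) :
    Function.Injective f := by
  have key : ∀ x : DihedralGroup 4, x ≠ 1 → x = .r 2 ∨ ∃ g, x * g * x⁻¹ * g⁻¹ = .r 2 := by decide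
  rw [injective_iff_map_eq_one]
  intro x hx
  by_contra hne
  rcases key x hne with rfl | ⟨g, hg⟩
  · exact h hx
  · exact h (by rw [← hg, map_mul, map_mul, map_mul, map_inv, map_inv, hx]; simp)

/-- The hypothesis on the centraliser of `z z2` that is used from here on. -/
def Std.HY {G : Type*} [Group G] [Finite G] (d : Std G) : Prop :=
  ∀ c : G, c * d.yp = d.yp * c → c * d.t = d.t * c → Norms c d.J

namespace Std

variable {G : Type*} [Group G] [Finite G] (d : Std G)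

/-- `C(t)`. -/
abbrev CT : Subgroup G := centralizer ({d.t} : Set G)

theorem mem_CT {g : G} : g ∈ d.CT ↔ g * d.t = d.t * g := mem_centralizer_singleton_iff

theorem t_CT : d.t ∈ d.CT := d.mem_CT.2 rfl

/-- `t` inside its centraliser. -/
noncomputable def tt : d.CT := ⟨d.t, d.t_CT⟩

/-- `⟨t⟩` inside `C(t)`. -/
noncomputable def TT : Subgroup d.CT := zpowers d.tt

theorem mem_TT {c : d.CT} : c ∈ d.TT ↔ (c : G) = 1 ∨ (c : G) = d.t := by
  constructor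
  · rintro ⟨n, rfl⟩
    rcases Int.even_or_odd n with ⟨k, rfl⟩ | ⟨k, rfl⟩
    · left
      show ((d.tt ^ (k + k) : d.CT) : G) = 1
      rw [SubgroupClass.coe_zpow, ← two_mul, zpow_mul, zpow_two, show ((d.tt : d.CT) : G) = d.t from rfl, d.t_sq,
        one_zpow]
    · right
      show ((d.tt ^ (2 * k + 1) : d.CT) : G) = d.t
      rw [SubgroupClass.coe_zpow, zpow_add, zpow_mul, zpow_two, zpow_one,
        show ((d.tt : d.CT) : G) = d.t from rfl, d.t_sq, one_zpow, one_mul]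
  · rintro (h | h)
    · rw [show c = 1 from Subtype.ext h]; exact one_mem _
    · rw [show c = d.tt from Subtype.ext h]; exact mem_zpowers _

instance : d.TT.Normal := ⟨fun n hn g => by
  rcases d.mem_TT.1 hn with h | h <;> refine d.mem_TT.2 ?_
  · left; simp [h]
  · right
    show (g : G) * (n : G) * (g : G)⁻¹ = d.t
    rw [h, d.mem_CT.1 g.2, mul_inv_cancel_right]⟩

/-- `C(t)/⟨t⟩`. -/
abbrev X := d.CT ⧸ d.TT

/-- The image in `C(t)/⟨t⟩`. -/
noncomputable def q : d.CT →* d.X := QuotientGroup.mk' d.TT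

theorem q_surj : Function.Surjective d.q := QuotientGroup.mk'_surjective _

theorem q_eq_one {c : d.CT} : d.q c = 1 ↔ (c : G) = 1 ∨ (c : G) = d.t := by
  rw [q, QuotientGroup.mk'_apply, QuotientGroup.eq_one_iff, d.mem_TT]

theorem q_eq {a b : d.CT} : d.q a = d.q b ↔ (b : G) = a ∨ (b : G) = (a : G) * d.t := by
  rw [eq_comm, ← inv_mul_eq_one, ← map_inv, ← map_mul, d.q_eq_one, Subgroup.coe_mul, Subgroup.coe_inv,
    inv_mul_eq_iff_eq_mul, inv_mul_eq_iff_eq_mul, mul_one]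
  constructor <;> rintro (h | h)
  · exact Or.inl h.symm
  · right
    rw [h, mul_assoc, d.t_sq, mul_one]
  · exact Or.inl h.symm
  · right
    rw [h, mul_assoc, d.t_sq, mul_one]

theorem q_three {a b : d.CT} (ha : (a : G) ^ 3 = 1) (hb : (b : G) ^ 3 = 1) (h : d.q a = d.q b) : (a : G) = b := by
  rcases d.q_eq.1 h with h | h
  · exact h.symm
  · exfalso
    have hc : Commute (a : G) d.t := d.mem_CT.1 a.2
    rw [h, hc.mul_pow, ha, one_mul, show (3 : ℕ) = 2 + 1 from rfl, pow_succ, pow_two, d.t_sq, one_mul] at hb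
    exact d.t_ne hb

theorem conj_three {c a b : d.CT} (ha : (a : G) ^ 3 = 1) (hb : (b : G) ^ 3 = 1)
    (h : d.q c * d.q a * (d.q c)⁻¹ = d.q b) : (c : G) * a * (c : G)⁻¹ = b := by
  rw [← map_inv, ← map_mul, ← map_mul] at h
  exact d.q_three (by simp only [Subgroup.coe_mul, Subgroup.coe_inv]; rw [conj_pow, ha]; simp) hb h

theorem comm_three {c a : d.CT} (ha : (a : G) ^ 3 = 1) (h : d.q c * d.q a = d.q a * d.q c) :
    (c : G) * a = a * c := by
  refine mul_inv_eq_iff_eq_mul.1 (d.conj_three ha ha ?_)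
  rw [h, mul_inv_cancel_right]

theorem D_le_CT : d.D ≤ d.CT := fun _ hx => d.mem_CT.2 (d.inE_D hx).comm

/-- The image of `D`. -/
noncomputable def Db : Subgroup d.X := (d.D.subgroupOf d.CT).map d.q

theorem Db_mem {x : G} (hx : x ∈ d.D) : d.q ⟨x, d.D_le_CT hx⟩ ∈ d.Db := ⟨_, hx, rfl⟩

theorem Db_iff {c : d.CT} : d.q c ∈ d.Db ↔ (c : G) ∈ d.D ∨ (c : G) * d.t ∈ d.D := by
  constructor
  · rintro ⟨a, ha, he⟩
    rcases d.q_eq.1 he with h | h
    · exact Or.inl (h ▸ ha)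
    · exact Or.inr (by rw [h, mul_assoc, d.t_sq, mul_one]; exact ha)
  · rintro (h | h)
    · exact ⟨c, h, rfl⟩
    · refine ⟨⟨(c : G) * d.t, mul_mem c.2 d.t_CT⟩, h, d.q_eq.2 (Or.inr ?_)⟩
      rw [mul_assoc, d.t_sq, mul_one]

/-- The generator of the image of `Z`. -/
noncomputable def zb : d.X := d.q ⟨d.z, d.D_le_CT d.z_D⟩

/-- The image of `z z2`. -/
noncomputable def yb : d.X := d.q ⟨d.yp, d.D_le_CT d.yp_D⟩

theorem closure_Db : closure {d.yb, d.zb} = d.Db := by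
  refine le_antisymm ?_ ?_
  · rw [closure_le]
    rintro x (rfl | rfl)
    · exact d.Db_mem d.yp_D
    · exact d.Db_mem d.z_D
  · rintro _ ⟨⟨x, hxc⟩, hx, rfl⟩
    obtain ⟨h', hm⟩ : ∃ h' : x ∈ d.CT, d.q ⟨x, h'⟩ ∈ closure {d.yb, d.zb} := by
      refine d.D_induction (P := fun x => ∃ h' : x ∈ d.CT, d.q ⟨x, h'⟩ ∈ closure {d.yb, d.zb}) hx
        ⟨d.D_le_CT d.z_D, Subgroup.subset_closure (Or.inr rfl)⟩ ⟨d.D_le_CT d.z2_D, ?_⟩ ⟨one_mem _, ?_⟩
        fun a b ha hb => ⟨mul_mem ha.1 hb.1, ?_⟩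
      · have e : (⟨d.z2, d.D_le_CT d.z2_D⟩ : d.CT) =
            (⟨d.z, d.D_le_CT d.z_D⟩ : d.CT)⁻¹ * ⟨d.yp, d.D_le_CT d.yp_D⟩ :=
          Subtype.ext (by show d.z2 = d.z⁻¹ * d.yp; rw [yp, inv_mul_cancel_left])
        rw [e, map_mul, map_inv]
        exact mul_mem (inv_mem (Subgroup.subset_closure (Or.inr rfl))) (Subgroup.subset_closure (Or.inl rfl))
      · rw [show (⟨1, _⟩ : d.CT) = 1 from rfl, map_one]; exact one_mem _
      · rw [show (⟨a * b, mul_mem ha.1 hb.1⟩ : d.CT) = ⟨a, ha.1⟩ * ⟨b, hb.1⟩ from rfl, map_mul]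
        exact mul_mem ha.2 hb.2
    exact hm

theorem Db_comm : IsMulCommutative d.Db := ⟨⟨by
  rintro ⟨_, a, ha, rfl⟩ ⟨_, b, hb, rfl⟩
  refine Subtype.ext ?_
  show d.q a * d.q b = d.q b * d.q a
  rw [← map_mul, ← map_mul]
  exact congrArg d.q (Subtype.ext (d.J_comm _ (d.D_le_J ha) _ (d.D_le_J hb)))⟩⟩

theorem Db_exp : ∀ a ∈ d.Db, a ^ 3 = 1 := by
  rintro _ ⟨a, ha, rfl⟩
  rw [← map_pow, show a ^ 3 = 1 from Subtype.ext (d.J_exp _ (d.D_le_J ha)), map_one]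

theorem Db_card : Nat.card d.Db = 9 := by
  rw [Db]
  have hinj : Function.Injective (fun a : d.D.subgroupOf d.CT => d.q a.1) := fun a b h =>
    Subtype.ext (Subtype.ext (d.q_three (d.J_exp _ (d.D_le_J a.2)) (d.J_exp _ (d.D_le_J b.2)) h))
  rw [show (d.D.subgroupOf d.CT).map d.q = (d.q.comp (d.D.subgroupOf d.CT).subtype).range by
    rw [MonoidHom.range_comp, Subgroup.range_subtype]]
  rw [← Nat.card_congr (MonoidHom.ofInjective (f := d.q.comp (d.D.subgroupOf d.CT).subtype) hinj).toEquiv,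
    Nat.card_congr (Subgroup.subgroupOfEquivOfLe d.D_le_CT).toEquiv, d.D_card]

/-- The elements of `C(t)` centralising `D`. -/
noncomputable def Kc : Subgroup G := d.CT ⊓ centralizer ({d.z, d.z2} : Set G)

theorem mem_Kc {g : G} : g ∈ d.Kc ↔ g * d.t = d.t * g ∧ g * d.z = d.z * g ∧ g * d.z2 = d.z2 * g := by
  rw [Kc, mem_inf, d.mem_CT, mem_centralizer_iff]
  simp [eq_comm]

theorem Kc_inE {g : G} (hg : g ∈ d.Kc) : InE d g := by
  obtain ⟨h1, h2, h3⟩ := d.mem_Kc.1 hg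
  exact d.inE_of_gens h1 (by rw [h2, mul_inv_cancel_right]; exact d.z_D)
    (by rw [h3, mul_inv_cancel_right]; exact d.z2_D)

theorem Kc_commD {g x : G} (hg : g ∈ d.Kc) (hx : x ∈ d.D) : g * x = x * g :=
  d.D_induction (P := fun x => g * x = x * g) hx (d.mem_Kc.1 hg).2.1 (d.mem_Kc.1 hg).2.2 (by simp)
    (fun a b ha hb => by rw [← mul_assoc, ha, mul_assoc, hb, mul_assoc])

theorem D_le_Kc : d.D ≤ d.Kc := fun x hx => d.mem_Kc.2
  ⟨(d.inE_D hx).comm, d.J_comm x (d.D_le_J hx) _ d.z_mem_J, d.J_comm x (d.D_le_J hx) _ d.z2_mem_J⟩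

theorem t_Kc : d.t ∈ d.Kc := d.mem_Kc.2
  ⟨rfl, mul_inv_eq_iff_eq_mul.1 (by rw [d.t_inv, d.t_z]), mul_inv_eq_iff_eq_mul.1 (by rw [d.t_inv, d.t_z2])⟩

theorem Kc_rho_pm {g : G} (hg : g ∈ d.Kc) (h : d.rho g = 1 ∨ d.rho g = -1) : g ∈ d.D ∨ g * d.t ∈ d.D := by
  have hE := d.Kc_inE hg
  rcases h with h | h
  · exact Or.inl (d.mem_D_of_rho_one hE (d.mem_Kc.1 hg).2.1 h)
  · exact Or.inr (d.mem_D_of_rho_one (hE.mul d.inE_t) (d.mem_Kc.1 (mul_mem hg d.t_Kc)).2.1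
      (by rw [d.rho_mul hE d.inE_t, h, d.rho_t, neg_mul_neg, one_mul]))

/-- The case without an element of order four centralising `D`. -/
def CaseA : Prop := ∀ g ∈ d.Kc, g ∈ d.D ∨ g * d.t ∈ d.D

/-- An element `u` of order four centralising `D` with `u² = t`. -/
structure IsU (u : G) : Prop where
  mem : u ∈ d.Kc
  sq : u * u = d.t
  rho : d.rho u = d.rho d.e
  gen : ∀ g ∈ d.Kc, g ∈ d.D ∨ g * d.t ∈ d.D ∨ g * u ∈ d.D ∨ g * u * d.t ∈ d.D

theorem cases : d.CaseA ∨ ∃ u, d.IsU u := by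
  classical
  by_cases hA : ∀ g ∈ d.Kc, d.rho g = 1 ∨ d.rho g = -1
  · exact Or.inl fun g hg => d.Kc_rho_pm hg (hA g hg)
  push Not at hA
  obtain ⟨g, hg, h1, h2⟩ := hA
  obtain ⟨-, hgz, hgz2⟩ := d.mem_Kc.1 hg
  obtain ⟨g', hg', hr⟩ : ∃ g' ∈ d.Kc, d.rho g' = d.rho d.e := by
    rcases d.cent_D_rho (d.Kc_inE hg) hgz hgz2 with h | h | h | h
    · exact absurd h h1
    · exact absurd h h2
    · exact ⟨g, hg, h⟩
    · exact ⟨g * d.t, mul_mem hg d.t_Kc, by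
        rw [d.rho_mul (d.Kc_inE hg) d.inE_t, h, d.rho_t, neg_mul_neg, mul_one]⟩
  set u := g' ^ 81 with hu
  have hum : u ∈ d.Kc := pow_mem hg' 81
  have he4 : d.rho d.e ^ 4 = 1 := by
    rw [show 4 = 2 * 2 from rfl, pow_mul, pow_two (d.rho d.e), d.rho_e_sq, neg_one_sq]
  have hur : d.rho u = d.rho d.e := by
    rw [hu, d.rho_pow (d.Kc_inE hg'), hr, show (81 : ℕ) = 4 * 20 + 1 from rfl, pow_succ, pow_mul, he4, one_pow,
      one_mul]
  have hg4 : g' ^ 4 ∈ d.D := d.mem_D_of_rho_one ((d.Kc_inE hg').pow 4) (d.mem_Kc.1 (pow_mem hg' 4)).2.1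
    (by rw [d.rho_pow (d.Kc_inE hg'), hr, he4])
  have hu4 : u ^ 4 = 1 := by
    rw [hu, ← pow_mul, show 81 * 4 = 4 * (3 * 27) from rfl, pow_mul, pow_mul, d.J_exp _ (d.D_le_J hg4), one_pow]
  have hδ : u * u * d.t ∈ d.D := by
    have hm := mul_mem (mul_mem hum hum) d.t_Kc
    refine d.mem_D_of_rho_one (d.Kc_inE hm) (d.mem_Kc.1 hm).2.1 ?_
    rw [d.rho_mul ((d.Kc_inE hum).mul (d.Kc_inE hum)) d.inE_t, d.rho_mul (d.Kc_inE hum) (d.Kc_inE hum), hur,
      d.rho_e_sq, d.rho_t, neg_mul_neg, one_mul]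
  have hsq : u * u = d.t := by
    have hc : Commute u d.t := (d.mem_Kc.1 hum).1
    have h2' : (u * u * d.t) ^ 2 = 1 := by
      rw [(hc.mul_left hc).mul_pow, ← pow_two u, ← pow_mul, show 2 * 2 = 4 from rfl, hu4, one_mul, pow_two, d.t_sq]
    have h3 := d.J_exp _ (d.D_le_J hδ)
    rw [pow_succ, h2', one_mul, mul_eq_one_iff_eq_inv, d.t_inv] at h3
    exact h3
  refine Or.inr ⟨u, hum, hsq, hur, fun x hx => ?_⟩
  obtain ⟨-, hxz, hxz2⟩ := d.mem_Kc.1 hx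
  rcases d.cent_D_rho (d.Kc_inE hx) hxz hxz2 with h | h | h | h
  · rcases d.Kc_rho_pm hx (Or.inl h) with h | h
    exacts [Or.inl h, Or.inr (Or.inl h)]
  · rcases d.Kc_rho_pm hx (Or.inr h) with h | h
    exacts [Or.inl h, Or.inr (Or.inl h)]
  all_goals
    have hm := mul_mem hx hum
    have hr' : d.rho (x * u) = 1 ∨ d.rho (x * u) = -1 := by
      rw [d.rho_mul (d.Kc_inE hx) (d.Kc_inE hum), h, hur]
      simp [d.rho_e_sq]
    rcases d.Kc_rho_pm hm hr' with h | h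
    exacts [Or.inr (Or.inr (Or.inl h)), Or.inr (Or.inr (Or.inr h))]

theorem not_IsU_of_CaseA (hA : d.CaseA) {u : G} (hu : d.IsU u) : False := by
  rcases hA u hu.mem with h | h
  · have := d.rho_D h
    rw [hu.rho] at this
    have h2 := d.rho_e_sq
    rw [this, one_mul] at h2
    exact Plane.neg_one_ne h2.symm
  · have := d.rho_D h
    rw [d.rho_mul (d.Kc_inE hu.mem) d.inE_t, hu.rho, d.rho_t, mul_neg, mul_one, neg_eq_iff_eq_neg] at this
    have h2 := d.rho_e_sq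
    rw [this, neg_mul_neg, one_mul] at h2
    exact Plane.neg_one_ne h2.symm

theorem Kc_card_A (hA : d.CaseA) : Nat.card d.Kc = 18 := by
  let f : d.D × Fin 2 → d.Kc := fun p => ⟨(p.1 : G) * d.t ^ (p.2 : ℕ), mul_mem (d.D_le_Kc p.1.2) (pow_mem d.t_Kc _)⟩
  have hbij : Function.Bijective f := by
    refine ⟨?_, fun g => ?_⟩
    · rintro ⟨a, i⟩ ⟨b, j⟩ h
      have h' := congrArg Subtype.val h
      simp only [f] at h'
      have ht : d.t ∉ d.D := fun ht => d.t_ne (d.toHyp.eq_one_of_coprime (d.J_le (d.D_le_J ht))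
        (Nat.Coprime.coprime_dvd_left (orderOf_dvd_of_pow_eq_one (n := 2) (by rw [pow_two, d.t_sq])) (by norm_num)))
      fin_cases i <;> fin_cases j <;> simp only [pow_zero, pow_one, mul_one] at h'
      · exact Prod.ext (Subtype.ext h') rfl
      · exact absurd (by rw [← inv_mul_cancel_left (b : G) d.t, ← h']; exact mul_mem (inv_mem b.2) a.2) ht
      · exact absurd (by rw [← inv_mul_cancel_left (a : G) d.t, h']; exact mul_mem (inv_mem a.2) b.2) ht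
      · exact Prod.ext (Subtype.ext (mul_right_cancel h')) rfl
    · rcases hA g g.2 with h | h
      · exact ⟨(⟨g, h⟩, 0), Subtype.ext (by simp [f])⟩
      · exact ⟨(⟨_, h⟩, 1), Subtype.ext (by simp [f, mul_assoc, d.t_sq])⟩
  rw [← Nat.card_congr (Equiv.ofBijective f hbij), Nat.card_prod, d.D_card, Nat.card_eq_fintype_card (α := Fin 2),
    Fintype.card_fin]

theorem Kc_card_B {u : G} (hu : d.IsU u) : Nat.card d.Kc = 36 := by
  let f : d.D × Fin 4 → d.Kc := fun p => ⟨(p.1 : G) * u ^ (p.2 : ℕ), mul_mem (d.D_le_Kc p.1.2) (pow_mem hu.mem _)⟩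
  have hu4 : u ^ 4 = 1 := by
    rw [show 4 = 2 * 2 from rfl, pow_mul, pow_two u, hu.sq, pow_two, d.t_sq]
  have hnot : ∀ k : Fin 4, k ≠ 0 → u ^ (k : ℕ) ∉ d.D := by
    intro k hk hmem
    have h1 := d.rho_D hmem
    rw [d.rho_pow (d.Kc_inE hu.mem), hu.rho] at h1
    have h2 := d.rho_e_sq
    have hne := Plane.neg_one_ne
    fin_cases k
    · exact hk rfl
    · simp only [pow_one] at h1
      rw [h1, one_mul] at h2
      exact hne h2.symm
    · simp only [pow_two, h2] at h1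
      exact hne h1
    · simp only [pow_succ, pow_zero, one_mul, h2, neg_mul, one_mul] at h1
      rw [neg_eq_iff_eq_neg] at h1
      rw [h1, neg_mul_neg, one_mul] at h2
      exact hne h2.symm
  have hbij : Function.Bijective f := by
    refine ⟨?_, fun g => ?_⟩
    · rintro ⟨a, i⟩ ⟨b, j⟩ h
      have h' := congrArg Subtype.val h
      simp only [f] at h'
      have key : u ^ (((i : ℕ) + 4 - j) % 4) ∈ d.D := by
        have e : u ^ (((i : ℕ) + 4 - j) % 4) = (a : G)⁻¹ * b := by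
          rw [← pow_eq_pow_mod _ hu4, eq_inv_mul_iff_mul_eq]
          refine mul_right_cancel (b := u ^ (j : ℕ)) ?_
          rw [mul_assoc, ← pow_add, show (i : ℕ) + 4 - j + j = i + 4 by omega, pow_add, hu4, mul_one]
          exact h'
        rw [e]; exact mul_mem (inv_mem a.2) b.2
      have hk : i = j := by
        by_contra hne
        refine hnot ⟨((i : ℕ) + 4 - j) % 4, Nat.mod_lt _ (by norm_num)⟩ (fun h0 => hne ?_) key
        have := congrArg Fin.val h0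
        simp only [Fin.val_zero] at this
        exact Fin.ext (by omega)
      subst hk
      exact Prod.ext (Subtype.ext (mul_right_cancel h')) rfl
    · rcases hu.gen g g.2 with h | h | h | h
      · exact ⟨(⟨g, h⟩, 0), Subtype.ext (by simp [f])⟩
      · exact ⟨(⟨_, h⟩, 2), Subtype.ext (by
          show (g : G) * d.t * u ^ 2 = g
          rw [pow_two, hu.sq, mul_assoc, d.t_sq, mul_one])⟩
      · exact ⟨(⟨_, h⟩, 3), Subtype.ext (by
          show (g : G) * u * u ^ 3 = g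
          rw [mul_assoc, ← pow_succ', hu4, mul_one])⟩
      · exact ⟨(⟨_, h⟩, 1), Subtype.ext (by
          show (g : G) * u * d.t * u ^ 1 = g
          rw [pow_one, mul_assoc _ d.t u, ← (d.mem_Kc.1 hu.mem).1, ← mul_assoc, mul_assoc (g : G) u u, hu.sq,
            mul_assoc, d.t_sq, mul_one])⟩
  rw [← Nat.card_congr (Equiv.ofBijective f hbij), Nat.card_prod, d.D_card, Nat.card_eq_fintype_card (α := Fin 4),
    Fintype.card_fin]

theorem e_inv_e1e2 : d.e⁻¹ * (d.e1 * d.e2) ∈ d.Kc := by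
  have hE := d.inE_e.inv.mul (d.inE_e1.mul d.inE_e2)
  have key : ∀ x : G, d.e * x * d.e⁻¹ = x⁻¹ → (d.e1 * d.e2) * x * (d.e1 * d.e2)⁻¹ = x⁻¹ →
      d.e⁻¹ * (d.e1 * d.e2) * x = x * (d.e⁻¹ * (d.e1 * d.e2)) := by
    intro x h1 h2
    rw [← mul_inv_eq_iff_eq_mul]
    calc d.e⁻¹ * (d.e1 * d.e2) * x * (d.e⁻¹ * (d.e1 * d.e2))⁻¹
        = d.e⁻¹ * ((d.e1 * d.e2) * x * (d.e1 * d.e2)⁻¹) * d.e := by group
      _ = d.e⁻¹ * (d.e * x * d.e⁻¹) * d.e := by rw [h1, h2]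
      _ = x := by group
  refine d.mem_Kc.2 ⟨hE.comm, key _ d.e_inverts.1 ?_, key _ d.e_inverts.2 ?_⟩
  · calc d.e1 * d.e2 * d.z * (d.e1 * d.e2)⁻¹ = d.e1 * (d.e2 * d.z * d.e2⁻¹) * d.e1⁻¹ := by group
      _ = (d.e1 * d.z * d.e1⁻¹)⁻¹ := by rw [d.e2_z]; group
      _ = d.z⁻¹ := by rw [d.e1_z]
  · calc d.e1 * d.e2 * d.z2 * (d.e1 * d.e2)⁻¹ = d.e1 * (d.e2 * d.z2 * d.e2⁻¹) * d.e1⁻¹ := by group
      _ = d.z2⁻¹ := by rw [d.e2_z2, d.e1_z2]

/-- Every element of `E` is a product of `s`, `e1`, `e2` and a member of the centraliser of `D`. -/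
theorem E_reduce' {g : G} (hg : InE d g) :
    ∃ a ∈ ({1, d.s} : Set G), ∃ b ∈ ({1, d.e1 * d.e2} : Set G), ∃ c ∈ ({1, d.e1} : Set G),
      ∃ k ∈ d.Kc, g = a * b * c * k := by
  obtain ⟨a, ha, b, hb, c, hc, k, hkE, hkz, hkz2, rfl⟩ := d.E_reduce hg
  have hk : k ∈ d.Kc := d.mem_Kc.2 ⟨hkE.comm, hkz, hkz2⟩
  rcases hb with rfl | rfl
  · exact ⟨a, ha, 1, Or.inl rfl, c, hc, k, hk, rfl⟩
  · have hw := inv_mem d.e_inv_e1e2
    set w := (d.e⁻¹ * (d.e1 * d.e2))⁻¹ with hw'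
    have hew : d.e = d.e1 * d.e2 * w := by rw [hw']; group
    have hcE : InE d c := by rcases hc with rfl | rfl; exacts [d.inE_one, d.inE_e1]
    refine ⟨a, ha, d.e1 * d.e2, Or.inr rfl, c, hc, (c⁻¹ * w * c) * k, mul_mem ?_ hk, by rw [hew]; group⟩
    obtain ⟨h1, h2, h3⟩ := d.mem_Kc.1 hw
    have hconj := (hcE.inv.mul (d.Kc_inE hw)).mul hcE
    refine d.mem_Kc.2 ⟨hconj.comm, ?_, ?_⟩
    all_goals
      rcases hc with rfl | rfl
      · simp only [inv_one, one_mul, mul_one]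
        first | exact h2 | exact h3
      · rw [← mul_inv_eq_iff_eq_mul]
        first
        | calc d.e1⁻¹ * w * d.e1 * d.z * (d.e1⁻¹ * w * d.e1)⁻¹
              = d.e1⁻¹ * (w * (d.e1 * d.z * d.e1⁻¹) * w⁻¹) * d.e1 := by group
            _ = d.e1⁻¹ * (d.e1 * d.z * d.e1⁻¹) * d.e1 := by
              rw [d.e1_z, h2, mul_inv_cancel_right]
            _ = d.z := by group
        | calc d.e1⁻¹ * w * d.e1 * d.z2 * (d.e1⁻¹ * w * d.e1)⁻¹
              = d.e1⁻¹ * (w * (d.e1 * d.z2 * d.e1⁻¹) * w⁻¹) * d.e1 := by group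
            _ = d.e1⁻¹ * (d.e1 * d.z2 * d.e1⁻¹) * d.e1 := by
              rw [d.e1_z2, d.Kc_commD hw (inv_mem d.z2_D), mul_inv_cancel_right]
            _ = d.z2 := by group

theorem e1_e2_yp : d.e1 * d.yp * d.e1⁻¹ = d.ym ∧ d.e2 * d.yp * d.e2⁻¹ = d.ym⁻¹ := by
  constructor
  · calc d.e1 * d.yp * d.e1⁻¹ = (d.e1 * d.z * d.e1⁻¹) * (d.e1 * d.z2 * d.e1⁻¹) := by rw [yp]; group
      _ = d.ym := by rw [d.e1_z, d.e1_z2, ym]
  · calc d.e2 * d.yp * d.e2⁻¹ = (d.e2 * d.z * d.e2⁻¹) * (d.e2 * d.z2 * d.e2⁻¹) := by rw [yp]; group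
      _ = d.z⁻¹ * d.z2 := by rw [d.e2_z, d.e2_z2]
      _ = d.ym⁻¹ := by
        rw [ym, mul_inv_rev, inv_inv]
        exact d.J_comm _ (inv_mem d.z_mem_J) _ d.z2_mem_J

theorem ym_not_pm : d.ym ≠ d.yp ∧ d.ym ≠ d.yp⁻¹ := by
  refine ⟨fun h => ?_, fun h => ?_⟩
  · rw [ym, yp, mul_right_inj] at h
    exact three_inv_ne d.z2_three d.z2_ne h
  · rw [ym, yp, mul_inv_rev] at h
    have h2 := d.J_comm _ (inv_mem d.z2_mem_J) _ (inv_mem d.z_mem_J)
    rw [h2, mul_left_inj] at h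
    exact three_inv_ne d.z_three d.z_ne h.symm

theorem conj_yp_cases {a b c k : G} (ha : a ∈ ({1, d.s} : Set G)) (hb : b ∈ ({1, d.e1 * d.e2} : Set G))
    (hc : c ∈ ({1, d.e1} : Set G)) (hk : k ∈ d.Kc) :
    (c = 1 ∧ b = 1 ∧ (a * b * c * k) * d.yp * (a * b * c * k)⁻¹ = d.yp) ∨
      (c = 1 ∧ b = d.e1 * d.e2 ∧ (a * b * c * k) * d.yp * (a * b * c * k)⁻¹ = d.yp⁻¹) ∨
      (c = d.e1 ∧ ((a * b * c * k) * d.yp * (a * b * c * k)⁻¹ = d.ym ∨
        (a * b * c * k) * d.yp * (a * b * c * k)⁻¹ = d.ym⁻¹)) := by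
  have hky : k * d.yp * k⁻¹ = d.yp := by rw [d.Kc_commD hk d.yp_D, mul_inv_cancel_right]
  have hgen : (a * b * c * k) * d.yp * (a * b * c * k)⁻¹ = a * (b * (c * d.yp * c⁻¹) * b⁻¹) * a⁻¹ := by
    calc _ = a * (b * (c * (k * d.yp * k⁻¹) * c⁻¹) * b⁻¹) * a⁻¹ := by group
      _ = _ := by rw [hky]
  have hbe : ∀ x : G, (d.e1 * d.e2) * x * (d.e1 * d.e2)⁻¹ = d.e1 * (d.e2 * x * d.e2⁻¹) * d.e1⁻¹ := fun x => by group
  have hbp : (d.e1 * d.e2) * d.yp * (d.e1 * d.e2)⁻¹ = d.yp⁻¹ := by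
    rw [hbe, d.e1_e2_yp.2]
    calc d.e1 * d.ym⁻¹ * d.e1⁻¹ = ((d.e1 * d.z * d.e1⁻¹) * (d.e1 * d.z2 * d.e1⁻¹)⁻¹)⁻¹ := by rw [ym]; group
      _ = d.yp⁻¹ := by rw [d.e1_z, d.e1_z2, inv_inv]; rfl
  have hbm : (d.e1 * d.e2) * d.ym * (d.e1 * d.e2)⁻¹ = d.ym⁻¹ := by
    rw [hbe]
    calc d.e1 * (d.e2 * d.ym * d.e2⁻¹) * d.e1⁻¹
        = d.e1 * ((d.e2 * d.z * d.e2⁻¹) * (d.e2 * d.z2 * d.e2⁻¹)⁻¹) * d.e1⁻¹ := by rw [ym]; group
      _ = (d.e1 * d.z * d.e1⁻¹)⁻¹ * (d.e1 * d.z2 * d.e1⁻¹)⁻¹ := by rw [d.e2_z, d.e2_z2]; group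
      _ = d.ym⁻¹ := by
        rw [d.e1_z, d.e1_z2, inv_inv, ym, mul_inv_rev, inv_inv]
        exact d.J_comm _ (inv_mem d.z_mem_J) _ d.z2_mem_J
  have hsi : ∀ x : G, d.s * x⁻¹ * d.s⁻¹ = (d.s * x * d.s⁻¹)⁻¹ := fun x => by group
  have hsm : d.s * d.ym * d.s⁻¹ = d.ym⁻¹ := by rw [d.s_inv]; exact d.s_ym
  rw [hgen]
  rcases hc with rfl | rfl
  · rcases hb with rfl | rfl
    · refine Or.inl ⟨rfl, rfl, ?_⟩
      rcases ha with rfl | rfl
      · group
      · simp only [inv_one, one_mul, mul_one]; exact d.s_yp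
    · refine Or.inr (Or.inl ⟨rfl, rfl, ?_⟩)
      simp only [inv_one, one_mul, mul_one]
      rw [hbp]
      rcases ha with rfl | rfl
      · group
      · rw [hsi, d.s_yp]
  · refine Or.inr (Or.inr ⟨rfl, ?_⟩)
    rw [d.e1_e2_yp.1]
    rcases hb with rfl | rfl
    · rcases ha with rfl | rfl
      · left; group
      · right; simp only [inv_one, one_mul, mul_one]; exact hsm
    · rw [hbm]
      rcases ha with rfl | rfl
      · right; group
      · left; rw [hsi, hsm, inv_inv]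

theorem stab_yp {g : G} (hg : InE d g) (h : g * d.yp * g⁻¹ = d.yp) : g ∈ d.Kc ∨ d.s * g ∈ d.Kc := by
  obtain ⟨a, ha, b, hb, c, hc, k, hk, rfl⟩ := d.E_reduce' hg
  rcases d.conj_yp_cases ha hb hc hk with ⟨rfl, rfl, -⟩ | ⟨rfl, rfl, h'⟩ | ⟨rfl, h' | h'⟩
  · rcases ha with rfl | rfl
    · left; simpa using hk
    · right; simpa [← mul_assoc, d.s_sq] using hk
  · rw [h] at h'
    exact absurd h'.symm (three_inv_ne (d.J_exp _ d.yp_J) fun hy => d.z2_not_Z (by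
      rw [yp, mul_eq_one_iff_eq_inv'] at hy
      rw [hy]; exact inv_mem d.z_mem))
  · rw [h] at h'
    exact absurd h'.symm d.ym_not_pm.1
  · rw [h] at h'
    exact absurd (by rw [h', inv_inv] : d.ym = d.yp⁻¹) d.ym_not_pm.2

/-- The centraliser of `z z2` in `C(t)` is `⟨s⟩ C(D)`. -/
theorem cent_yp_CT (hY : d.HY) {g : G} (hc : g * d.t = d.t * g)
    (h : g * d.yp * g⁻¹ = d.yp) : g ∈ d.Kc ∨ d.s * g ∈ d.Kc := by
  have hJ := hY g (mul_inv_eq_iff_eq_mul.1 h) hc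
  exact d.stab_yp (d.inE_of_norms_J hJ hc) h

end Std

end Cfsg.Agent.Lib.McL3Local35
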