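import Cfsg.Agent.Lib.McL3Local35.Quot

/-!
# The hypotheses of the 3-local recognition of `A₈` and `S₈` at `D`
-/

set_option autoImplicit false

namespace Cfsg.Agent.Lib.McL3Local35

open Subgroup

namespace Std

variable {G : Type*} [Group G] [Finite G] (d : Std G)

theorem t_not_D : d.t ∉ d.D := fun ht => d.t_ne (d.toHyp.eq_one_of_coprime (d.J_le (d.D_le_J ht))
  (Nat.Coprime.coprime_dvd_left (orderOf_dvd_of_pow_eq_one (n := 2) (by rw [pow_two, d.t_sq])) (by norm_num)))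

/-- The order of the image of a subgroup of `C(t)` containing `t`. -/
theorem card_image {U : Subgroup G} (hU : U ≤ d.CT) (ht : d.t ∈ U) :
    Nat.card ((U.subgroupOf d.CT).map d.q) * 2 = Nat.card U := by
  set V := U.subgroupOf d.CT with hV
  set f := d.q.comp V.subtype with hf
  have hker : Nat.card f.ker = 2 := by
    rw [Nat.card_eq_two_iff]
    refine ⟨1, ⟨⟨d.tt, ht⟩, d.q_eq_one.2 (Or.inr rfl)⟩, fun h => d.t_ne ?_, ?_⟩
    · exact (congrArg (fun x : f.ker => (((x : V) : d.CT) : G)) h).symm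
    · refine Set.eq_univ_of_forall fun x => ?_
      rcases d.q_eq_one.1 x.2 with h | h
      · exact Or.inl (Subtype.ext (Subtype.ext (Subtype.ext h)))
      · exact Or.inr (Subtype.ext (Subtype.ext (Subtype.ext h)))
  have h1 := f.ker.card_mul_index
  rw [Subgroup.index_ker, hker] at h1
  rw [show V.map d.q = f.range by rw [hf, MonoidHom.range_comp, Subgroup.range_subtype],
    mul_comm, h1, Nat.card_congr (Subgroup.subgroupOfEquivOfLe hU).toEquiv]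

omit [Finite G] in
theorem card_two_cosets {U V : Subgroup G} {a : G} (ha : a ∈ V) (hna : a ∉ U) (hUV : U ≤ V)
    (hcov : ∀ g ∈ V, g ∈ U ∨ a⁻¹ * g ∈ U) : Nat.card V = 2 * Nat.card U := by
  let f : Fin 2 × U → V := fun p => ⟨a ^ (p.1 : ℕ) * p.2, mul_mem (pow_mem ha _) (hUV p.2.2)⟩
  have hbij : Function.Bijective f := by
    refine ⟨?_, fun g => ?_⟩
    · rintro ⟨i, x⟩ ⟨j, y⟩ h
      have h' := congrArg Subtype.val h
      simp only [f] at h'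
      fin_cases i <;> fin_cases j <;> simp only [pow_zero, pow_one, one_mul] at h'
      · exact Prod.ext rfl (Subtype.ext h')
      · exact absurd (by
          rw [show a = (x : G) * (y : G)⁻¹ by rw [h', mul_inv_cancel_right]]
          exact mul_mem x.2 (inv_mem y.2)) hna
      · exact absurd (by
          rw [show a = (y : G) * (x : G)⁻¹ by rw [← h', mul_inv_cancel_right]]
          exact mul_mem y.2 (inv_mem x.2)) hna
      · exact Prod.ext rfl (Subtype.ext (mul_left_cancel h'))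
    · rcases hcov g g.2 with h | h
      · exact ⟨(0, ⟨g, h⟩), Subtype.ext (by simp [f])⟩
      · exact ⟨(1, ⟨_, h⟩), Subtype.ext (by simp [f])⟩
  rw [← Nat.card_congr (Equiv.ofBijective f hbij), Nat.card_prod, Nat.card_eq_fintype_card (α := Fin 2),
    Fintype.card_fin]

theorem pow_four_z {g : G} (hg : InE d g) : g ^ 4 * d.z * (g ^ 4)⁻¹ = d.z := by
  obtain ⟨L, hL⟩ : ∃ L : List G, ∀ x, x ∈ L ↔ (x = d.z ∨ x = d.z⁻¹ ∨ x = d.z2 ∨ x = d.z2⁻¹) :=
    ⟨[d.z, d.z⁻¹, d.z2, d.z2⁻¹], fun x => by simp⟩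
  have hi : ∀ (h x : G), h * x⁻¹ * h⁻¹ = (h * x * h⁻¹)⁻¹ := fun h x => by group
  have hcase : ∀ h : G, InE d h → h * d.z * h⁻¹ ∈ L := fun h hh =>
    (hL _).2 (d.zconj hh.normJ (d.mem_D.1 (hh.normD _ d.z_D)).2)
  have hcase2 : g * d.z2 * g⁻¹ ∈ L := by
    have := hcase _ (hg.mul d.inE_s)
    rwa [mul_inv_rev, d.s_inv, show g * d.s * d.z * (d.s * g⁻¹) = g * d.z2 * g⁻¹ by rw [z2]; group] at this
  have h2 : ∀ h : G, InE d h → h * d.z * h⁻¹ = d.z ∨ h * d.z * h⁻¹ = d.z⁻¹ →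
      h ^ 2 * d.z * (h ^ 2)⁻¹ = d.z := by
    intro h _ hh
    rw [show h ^ 2 * d.z * (h ^ 2)⁻¹ = h * (h * d.z * h⁻¹) * h⁻¹ by rw [pow_two]; group]
    rcases hh with hh | hh <;> rw [hh]
    · exact hh
    · rw [hi, hh, inv_inv]
  rw [show g ^ 4 = (g ^ 2) ^ 2 by rw [← pow_mul]]
  by_cases hz : g * d.z * g⁻¹ = d.z ∨ g * d.z * g⁻¹ = d.z⁻¹
  · exact h2 _ (hg.pow 2) (Or.inl (h2 g hg hz))
  refine h2 _ (hg.pow 2) ?_
  have hne : g * d.z2 * g⁻¹ ≠ g * d.z * g⁻¹ ∧ g * d.z2 * g⁻¹ ≠ (g * d.z * g⁻¹)⁻¹ := by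
    constructor <;> intro h
    · apply d.z2_not_Z
      rw [mul_left_cancel (mul_right_cancel h)]
      exact d.z_mem
    · rw [← hi] at h
      apply d.z2_not_Z
      rw [mul_left_cancel (mul_right_cancel h)]
      exact inv_mem d.z_mem
  rw [show g ^ 2 * d.z * (g ^ 2)⁻¹ = g * (g * d.z * g⁻¹) * g⁻¹ by rw [pow_two]; group]
  rcases (hL _).1 (hcase g hg) with h | h | h | h
  · exact absurd (Or.inl h) hz
  · exact absurd (Or.inr h) hz
  all_goals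
    rw [h] at hne
    rcases (hL _).1 hcase2 with h' | h' | h' | h'
  · exact Or.inl (by rw [h]; exact h')
  · exact Or.inr (by rw [h]; exact h')
  · exact absurd h' hne.1
  · exact absurd h' hne.2
  · exact Or.inr (by rw [h, hi, h'])
  · exact Or.inl (by rw [h, hi, h', inv_inv])
  · exact absurd (by rw [h', inv_inv]) hne.2
  · exact absurd h' hne.1

theorem mem_normalizer_Db {c : d.CT} (hc : d.q c ∈ normalizer (d.Db : Set d.X)) : InE d (c : G) := by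
  refine ⟨fun x hx => ?_, d.mem_CT.1 c.2⟩
  have h1 := (mem_normalizer_iff.1 hc _).1 (d.Db_mem hx)
  obtain ⟨a, ha, he⟩ := h1
  rw [d.conj_three (c := c) (a := ⟨x, d.D_le_CT hx⟩) (b := a) (d.J_exp _ (d.D_le_J hx))
    (d.J_exp _ (d.D_le_J ha)) he.symm]
  exact ha

theorem norm_Db {c : d.CT} (hc : InE d (c : G)) : d.q c ∈ normalizer (d.Db : Set d.X) := by
  refine Subgroup.mem_normalizer_fintype fun y hy => ?_
  obtain ⟨a, ha, rfl⟩ := hy
  exact ⟨c * a * c⁻¹, hc.normD _ ha, by rw [map_mul, map_mul, map_inv]⟩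

/-- The image of `D` is a Sylow 3-subgroup. -/
theorem exists_sylow : ∃ P : Sylow 3 d.X, d.Db = P := by
  have : Fact (Nat.Prime 3) := ⟨Nat.prime_three⟩
  have hp : IsPGroup 3 d.Db := IsPGroup.of_card (n := 2) (by rw [d.Db_card]; norm_num)
  obtain ⟨P, hP⟩ := hp.exists_le_sylow
  refine ⟨P, ?_⟩
  by_contra hne
  have hlt : d.Db < (P : Subgroup d.X) := lt_of_le_of_ne hP hne
  have : Group.IsNilpotent (P : Subgroup d.X) := P.isPGroup'.isNilpotent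
  have hN := (Group.normalizerCondition_of_isNilpotent (G := (P : Subgroup d.X))) (d.Db.subgroupOf P) (by
    rw [lt_top_iff_ne_top, ne_eq, Subgroup.subgroupOf_eq_top]
    exact not_le_of_gt hlt)
  obtain ⟨x, hxN, hxD⟩ := SetLike.exists_of_lt hN
  have hxN' : (x : d.X) ∈ normalizer (d.Db : Set d.X) := Subgroup.mem_normalizer_fintype fun y hy =>
    (mem_normalizer_iff.1 hxN ⟨y, hP hy⟩).1 hy
  obtain ⟨c, hc⟩ := d.q_surj (x : d.X)
  rw [← hc] at hxN'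
  have hE := d.mem_normalizer_Db hxN'
  obtain ⟨k, hk⟩ := P.isPGroup' x
  -- a suitable power of the lift is a 3-element generating the same subgroup
  have hck : (c : G) ^ (4 * 3 ^ k) = 1 := by
    have h1 : d.q (c ^ 3 ^ k) = 1 := by
      rw [map_pow, hc, ← SubgroupClass.coe_pow, hk, OneMemClass.coe_one]
    rcases d.q_eq_one.1 h1 with h | h <;> rw [SubgroupClass.coe_pow] at h
    · rw [mul_comm, pow_mul, h, one_pow]
    · rw [mul_comm, pow_mul, h, show 4 = 2 * 2 from rfl, pow_mul, pow_two d.t, d.t_sq, one_pow]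
  have h3 : ∃ i : ℕ, orderOf ((c : G) ^ 4) = 3 ^ i := by
    obtain ⟨i, -, hi⟩ := (Nat.dvd_prime_pow Nat.prime_three).1
      (orderOf_dvd_of_pow_eq_one (x := (c : G) ^ 4) (n := 3 ^ k) (by rw [← pow_mul]; exact hck))
    exact ⟨i, hi⟩
  have hD := d.three_in_E (hE.pow 4) (mul_inv_eq_iff_eq_mul.1 (d.pow_four_z hE)) h3
  apply hxD
  show (x : d.X) ∈ d.Db
  have h4 : (x : d.X) ^ 4 ∈ d.Db := by
    rw [← hc, ← map_pow]
    exact d.Db_iff.2 (Or.inl (by rw [SubgroupClass.coe_pow]; exact hD))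
  have h3k : (x : d.X) ^ 3 ^ k = 1 := by rw [← SubgroupClass.coe_pow, hk, OneMemClass.coe_one]
  have hcop : Nat.Coprime 4 (3 ^ k) := Nat.Coprime.pow_right k (by norm_num)
  have h5 : (x : d.X) ^ (Nat.gcd 4 (3 ^ k) : ℤ) ∈ d.Db := by
    rw [Nat.gcd_eq_gcd_ab, zpow_add, zpow_mul, zpow_mul, zpow_natCast, zpow_natCast, h3k, one_zpow, mul_one]
    exact zpow_mem h4 _
  rwa [hcop, Nat.cast_one, zpow_one] at h5

theorem cent_Db_iff {c : d.CT} : d.q c ∈ centralizer (d.Db : Set d.X) ↔ (c : G) ∈ d.Kc := by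
  rw [mem_centralizer_iff]
  constructor
  · intro h
    have hx : ∀ x ∈ d.D, (c : G) * x = x * c := fun x hx =>
      d.comm_three (a := ⟨x, d.D_le_CT hx⟩) (d.J_exp _ (d.D_le_J hx)) (h _ (d.Db_mem hx)).symm
    exact d.mem_Kc.2 ⟨d.mem_CT.1 c.2, hx _ d.z_D, hx _ d.z2_D⟩
  · rintro hc _ ⟨a, ha, rfl⟩
    rw [← map_mul, ← map_mul]
    exact congrArg d.q (Subtype.ext (d.Kc_commD hc ha).symm)

theorem cent_Db_A (hA : d.CaseA) : centralizer (d.Db : Set d.X) = d.Db := by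
  ext x
  obtain ⟨c, rfl⟩ := d.q_surj x
  rw [d.cent_Db_iff, d.Db_iff]
  constructor
  · exact hA c
  · rintro (h | h)
    · exact d.D_le_Kc h
    · simpa [mul_assoc, d.t_sq] using mul_mem (d.D_le_Kc h) d.t_Kc

theorem Kc_le_CT : d.Kc ≤ d.CT := inf_le_left

theorem cent_Db_eq : centralizer (d.Db : Set d.X) = (d.Kc.subgroupOf d.CT).map d.q := by
  ext x
  constructor
  · intro hx
    obtain ⟨c, rfl⟩ := d.q_surj x
    exact ⟨c, d.cent_Db_iff.1 hx, rfl⟩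
  · rintro ⟨c, hc, rfl⟩
    exact d.cent_Db_iff.2 hc

theorem cent_Db_card {u : G} (hu : d.IsU u) : Nat.card (centralizer (d.Db : Set d.X)) = 18 := by
  have := d.card_image d.Kc_le_CT d.t_Kc
  rw [← d.cent_Db_eq, d.Kc_card_B hu] at this
  omega

/-- The centraliser of `z z2` in `C(t)`. -/
noncomputable def Cy : Subgroup G := d.CT ⊓ centralizer ({d.yp} : Set G)

theorem mem_Cy {g : G} : g ∈ d.Cy ↔ g * d.t = d.t * g ∧ g * d.yp = d.yp * g := by
  rw [Cy, mem_inf, d.mem_CT, mem_centralizer_singleton_iff]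

theorem Kc_le_Cy : d.Kc ≤ d.Cy := fun _ hg => d.mem_Cy.2 ⟨(d.mem_Kc.1 hg).1, d.Kc_commD hg d.yp_D⟩

theorem s_Cy : d.s ∈ d.Cy := d.mem_Cy.2 ⟨d.s_comm, mul_inv_eq_iff_eq_mul.1 d.s_yp⟩

theorem s_not_Kc : d.s ∉ d.Kc := fun h => d.z2_not_Z (by
  have h1 := d.Kc_commD h d.z_D
  have : d.z2 = d.z := by rw [z2, h1, mul_assoc, d.s_sq, mul_one]
  rw [this]; exact d.z_mem)

theorem Cy_cases (hY : d.HY) {g : G} (hg : g ∈ d.Cy) : g ∈ d.Kc ∨ d.s⁻¹ * g ∈ d.Kc := by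
  obtain ⟨h1, h2⟩ := d.mem_Cy.1 hg
  rw [d.s_inv]
  exact d.cent_yp_CT hY h1 (by rw [h2, mul_inv_cancel_right])

theorem Cy_card (hY : d.HY) : Nat.card d.Cy = 2 * Nat.card d.Kc :=
  card_two_cosets d.s_Cy d.s_not_Kc d.Kc_le_Cy fun _ hg => d.Cy_cases hY hg

theorem cent_yb_eq : centralizer ({d.yb} : Set d.X) = (d.Cy.subgroupOf d.CT).map d.q := by
  ext x
  constructor
  · intro hx
    obtain ⟨c, rfl⟩ := d.q_surj x
    refine ⟨c, d.mem_Cy.2 ⟨d.mem_CT.1 c.2, ?_⟩, rfl⟩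
    exact d.comm_three (a := ⟨d.yp, d.D_le_CT d.yp_D⟩) (d.J_exp _ d.yp_J) (mem_centralizer_singleton_iff.1 hx)
  · rintro ⟨c, hc, rfl⟩
    rw [mem_centralizer_singleton_iff, yb, ← map_mul, ← map_mul]
    exact congrArg d.q (Subtype.ext (d.mem_Cy.1 hc).2)

theorem cent_yb_card (hY : d.HY) : Nat.card (centralizer ({d.yb} : Set d.X)) = Nat.card d.Kc := by
  have h := d.card_image (U := d.Cy) inf_le_left (d.Kc_le_Cy d.t_Kc)
  rw [← d.cent_yb_eq, d.Cy_card hY] at h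
  omega

theorem inE_Cy (hY : d.HY) {g : G} (hg : g ∈ d.Cy) : InE d g := by
  rcases d.Cy_cases hY hg with h | h
  · exact d.Kc_inE h
  · have := d.inE_s.mul (d.Kc_inE h)
    rwa [mul_inv_cancel_left] at this

theorem Db_normal_yb (hY : d.HY) : (d.Db.subgroupOf (centralizer ({d.yb} : Set d.X))).Normal := by
  refine ⟨fun n hn g => ?_⟩
  show (g : d.X) * n * (g : d.X)⁻¹ ∈ d.Db
  have hg : (g : d.X) ∈ (d.Cy.subgroupOf d.CT).map d.q := SetLike.ext_iff.1 d.cent_yb_eq _ |>.1 g.2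
  obtain ⟨c, hc, he⟩ := hg
  rw [← he]
  exact (mem_normalizer_iff.1 (d.norm_Db (d.inE_Cy hY hc)) _).1 hn

theorem rho_q {k : G} (hk : k ∈ d.Kc) :
    d.rho k = 1 ∨ d.rho k = -1 ∨ d.rho k = d.rho d.e ∨ d.rho k = -d.rho d.e :=
  d.cent_D_rho (d.Kc_inE hk) (d.mem_Kc.1 hk).2.1 (d.mem_Kc.1 hk).2.2

theorem rho_e_s : d.rho d.e * d.rho d.s = -(d.rho d.s * d.rho d.e) := by
  calc d.rho d.e * d.rho d.s = (d.rho d.s * d.rho d.s) * (d.rho d.e * d.rho d.s) := by rw [d.rho_s_sq, one_mul]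
    _ = d.rho d.s * (d.rho d.s * d.rho d.e * d.rho d.s) := by simp only [mul_assoc]
    _ = _ := by rw [d.rho_ses, mul_neg]

/-- The group generated on `W` by `ρ(s)` and `ρ(e)` has elements with scalar squares. -/
theorem sq_pm {m x y : Plane.M2} (hx : x = 1 ∨ x = d.rho d.s)
    (hy : y = 1 ∨ y = -1 ∨ y = d.rho d.e ∨ y = -d.rho d.e) (hm : m = x * y) : m * m = 1 ∨ m * m = -1 := by
  have h1 := d.rho_e_sq
  have h2 := d.rho_s_sq
  subst hm
  rcases hx with rfl | rfl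
  · rcases hy with rfl | rfl | rfl | rfl <;> simp [h1]
  · rcases hy with rfl | rfl | rfl | rfl
    · simp [h2]
    · simp [h2]
    · left
      calc d.rho d.s * d.rho d.e * (d.rho d.s * d.rho d.e)
          = d.rho d.s * (d.rho d.e * d.rho d.s) * d.rho d.e := by simp only [mul_assoc]
        _ = -(d.rho d.s * d.rho d.s) * (d.rho d.e * d.rho d.e) := by
          rw [d.rho_e_s, mul_neg, neg_mul, neg_mul]; simp only [mul_assoc]
        _ = 1 := by rw [h1, h2]; simp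
    · left
      calc d.rho d.s * -d.rho d.e * (d.rho d.s * -d.rho d.e)
          = d.rho d.s * (d.rho d.e * d.rho d.s) * d.rho d.e := by simp only [mul_neg, neg_mul, neg_neg, mul_assoc]
        _ = -(d.rho d.s * d.rho d.s) * (d.rho d.e * d.rho d.e) := by
          rw [d.rho_e_s, mul_neg, neg_mul, neg_mul]; simp only [mul_assoc]
        _ = 1 := by rw [h1, h2]; simp

theorem sq_mem {g : G} (hg : InE d g) (hfix : g * g ∈ d.Kc) (h : d.rho g * d.rho g = 1 ∨ d.rho g * d.rho g = -1) :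
    g * g ∈ d.D ∨ g * g * d.t ∈ d.D :=
  d.Kc_rho_pm hfix (by rw [d.rho_mul hg hg]; exact h)

/-- The normaliser of `⟨z z2⟩` in `C(t)`. -/
noncomputable def Ny : Subgroup G where
  carrier := {g | g * d.t = d.t * g ∧ (g * d.yp * g⁻¹ = d.yp ∨ g * d.yp * g⁻¹ = d.yp⁻¹)}
  one_mem' := ⟨by simp, Or.inl (by simp)⟩
  mul_mem' := fun {a b} ha hb => ⟨by rw [mul_assoc, hb.1, ← mul_assoc, ha.1, mul_assoc], by
    have e : a * b * d.yp * (a * b)⁻¹ = a * (b * d.yp * b⁻¹) * a⁻¹ := by group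
    have ei : a * d.yp⁻¹ * a⁻¹ = (a * d.yp * a⁻¹)⁻¹ := by group
    rw [e]
    rcases hb.2 with h | h <;> rw [h]
    · exact ha.2
    · rw [ei]
      rcases ha.2 with h' | h' <;> rw [h']
      · exact Or.inr rfl
      · exact Or.inl (inv_inv _)⟩
  inv_mem' := fun {a} ha => ⟨by rw [inv_mul_eq_iff_eq_mul, ← mul_assoc, ha.1, mul_inv_cancel_right], by
    rcases ha.2 with h | h
    · left
      calc a⁻¹ * d.yp * a⁻¹⁻¹ = a⁻¹ * (a * d.yp * a⁻¹) * a := by rw [h, inv_inv]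
        _ = d.yp := by group
    · right
      calc a⁻¹ * d.yp * a⁻¹⁻¹ = (a⁻¹ * (a * d.yp * a⁻¹) * a)⁻¹ := by rw [h]; group
        _ = d.yp⁻¹ := by group⟩

theorem mem_Ny {g : G} :
    g ∈ d.Ny ↔ g * d.t = d.t * g ∧ (g * d.yp * g⁻¹ = d.yp ∨ g * d.yp * g⁻¹ = d.yp⁻¹) := Iff.rfl

theorem Cy_le_Ny : d.Cy ≤ d.Ny := fun g hg => d.mem_Ny.2
  ⟨(d.mem_Cy.1 hg).1, Or.inl (by rw [(d.mem_Cy.1 hg).2, mul_inv_cancel_right])⟩

theorem yp_ne : d.yp ≠ 1 := fun hy => d.z2_not_Z (by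
  rw [yp, mul_eq_one_iff_eq_inv'] at hy
  rw [hy]; exact inv_mem d.z_mem)

theorem e_Ny : d.e ∈ d.Ny := d.mem_Ny.2 ⟨d.inE_e.comm, Or.inr d.e_yp⟩

theorem e_not_Cy : d.e ∉ d.Cy := fun h => three_inv_ne (d.J_exp _ d.yp_J) d.yp_ne (by
  rw [← d.e_yp, (d.mem_Cy.1 h).2, mul_inv_cancel_right])

theorem Ny_cases {g : G} (hg : g ∈ d.Ny) : g ∈ d.Cy ∨ d.e⁻¹ * g ∈ d.Cy := by
  obtain ⟨h1, h2 | h2⟩ := d.mem_Ny.1 hg
  · exact Or.inl (d.mem_Cy.2 ⟨h1, mul_inv_eq_iff_eq_mul.1 h2⟩)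
  · refine Or.inr (d.mem_Cy.2 ⟨(mul_mem (inv_mem d.e_Ny) hg : d.e⁻¹ * g ∈ d.Ny).1, ?_⟩)
    rw [← mul_inv_eq_iff_eq_mul]
    calc d.e⁻¹ * g * d.yp * (d.e⁻¹ * g)⁻¹ = d.e⁻¹ * (g * d.yp * g⁻¹) * d.e := by group
      _ = d.e⁻¹ * (d.e * d.yp * d.e⁻¹) * d.e := by rw [h2, d.e_yp]
      _ = d.yp := by group

theorem Ny_card (hY : d.HY) : Nat.card d.Ny = 4 * Nat.card d.Kc := by
  rw [card_two_cosets d.e_Ny d.e_not_Cy d.Cy_le_Ny fun _ hg => d.Ny_cases hg, d.Cy_card hY]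
  omega

theorem inE_Ny (hY : d.HY) {g : G} (hg : g ∈ d.Ny) : InE d g := by
  rcases d.Ny_cases hg with h | h
  · exact d.inE_Cy hY h
  · have := d.inE_e.mul (d.inE_Cy hY h)
    rwa [mul_inv_cancel_left] at this

theorem rho_Ny (hY : d.HY) {g : G} (hg : g ∈ d.Ny) :
    ∃ x y : Plane.M2, (x = 1 ∨ x = d.rho d.s) ∧
      (y = 1 ∨ y = -1 ∨ y = d.rho d.e ∨ y = -d.rho d.e) ∧ d.rho g = x * y := by
  have hCy : ∀ h ∈ d.Cy, ∃ x y : Plane.M2, (x = 1 ∨ x = d.rho d.s) ∧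
      (y = 1 ∨ y = -1 ∨ y = d.rho d.e ∨ y = -d.rho d.e) ∧ d.rho h = x * y := by
    intro h hh
    rcases d.Cy_cases hY hh with hk | hk
    · exact ⟨1, d.rho h, Or.inl rfl, d.rho_q hk, (one_mul _).symm⟩
    · refine ⟨d.rho d.s, d.rho (d.s⁻¹ * h), Or.inr rfl, d.rho_q hk, ?_⟩
      rw [← d.rho_mul d.inE_s (d.Kc_inE hk), mul_inv_cancel_left]
  rcases d.Ny_cases hg with h | h
  · exact hCy g h
  · obtain ⟨x, y, hx, hy, he⟩ := hCy _ h
    have hq := d.rho_e_sq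
    have hgr : d.rho g = d.rho d.e * (x * y) := by
      rw [← he, ← d.rho_mul d.inE_e (d.inE_Cy hY h), mul_inv_cancel_left]
    rcases hx with rfl | rfl
    · refine ⟨1, d.rho d.e * y, Or.inl rfl, ?_, by rw [hgr, one_mul, one_mul]⟩
      rcases hy with rfl | rfl | rfl | rfl <;> simp [hq]
    · refine ⟨d.rho d.s, -(d.rho d.e * y), Or.inr rfl, ?_, ?_⟩
      · rcases hy with rfl | rfl | rfl | rfl <;> simp [hq]
      · rw [hgr, ← mul_assoc, d.rho_e_s, neg_mul, mul_neg, ← mul_assoc]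

theorem Ny_sq (hY : d.HY) {g : G} (hg : g ∈ d.Ny) : g * g ∈ d.D ∨ g * g * d.t ∈ d.D := by
  obtain ⟨x, y, hx, hy, he⟩ := d.rho_Ny hY hg
  have hE := d.inE_Ny hY hg
  refine d.sq_mem hE ?_ (d.sq_pm hx hy he)
  -- the square centralises `z` and `z2`
  have hfix : g * g * d.yp * (g * g)⁻¹ = d.yp := by
    have ei : g * d.yp⁻¹ * g⁻¹ = (g * d.yp * g⁻¹)⁻¹ := by group
    rw [show g * g * d.yp * (g * g)⁻¹ = g * (g * d.yp * g⁻¹) * g⁻¹ by group]
    rcases (d.mem_Ny.1 hg).2 with h | h <;> rw [h]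
    · exact h
    · rw [ei, h, inv_inv]
  rcases d.stab_yp (hE.mul hE) hfix with h | h
  · exact h
  · exfalso
    -- `g * g` would act on `W` as `ρ(s) y`
    have hr := d.rho_mul d.inE_s (hE.mul hE)
    rw [d.rho_mul hE hE] at hr
    have hk := d.rho_q h
    have hs : d.rho d.s ≠ 1 ∧ d.rho d.s ≠ -1 ∧ d.rho d.s ≠ d.rho d.e ∧ d.rho d.s ≠ -d.rho d.e := by
      have hdet := Plane.det_flip _ d.rho_e_sq _ d.rho_s_sq d.rho_ses
      have hq : (d.rho d.e).det = 1 := by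
        have key : ∀ M : Plane.M2, M * M = -1 → M.det = 1 := by decide +kernel
        exact key _ d.rho_e_sq
      have h1 : (1 : Plane.M2).det = 1 := Matrix.det_one
      have hn : ∀ M : Plane.M2, (-M).det = M.det := fun M => by
        rw [Matrix.det_neg, Fintype.card_fin, neg_one_sq, one_mul]
      refine ⟨?_, ?_, ?_, ?_⟩ <;> intro h' <;> rw [h'] at hdet <;>
        simp only [hn, h1, hq] at hdet <;> exact absurd hdet (by decide)
    rcases d.sq_pm hx hy he with hsq | hsq <;> rw [hsq] at hr <;> simp only [mul_one, mul_neg] at hr <;>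
      rw [hr] at hk
    · exact hk.elim hs.1 fun h => h.elim hs.2.1 fun h => h.elim hs.2.2.1 hs.2.2.2
    · rcases hk with hk | hk | hk | hk
      · exact hs.2.1 (by rw [← hk, neg_neg])
      · exact hs.1 (neg_injective hk)
      · exact hs.2.2.2 (by rw [← hk, neg_neg])
      · exact hs.2.2.1 (neg_injective hk)

theorem normalizer_yb_eq : normalizer (zpowers d.yb : Set d.X) = (d.Ny.subgroupOf d.CT).map d.q := by
  have h3 : d.yb ^ 3 = 1 := d.Db_exp _ (d.Db_mem d.yp_D)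
  have hy1 : d.yb ≠ 1 := fun h => d.yp_ne
    (d.q_three (a := ⟨d.yp, d.D_le_CT d.yp_D⟩) (b := 1) (d.J_exp _ d.yp_J) (by simp)
      (h.trans (map_one _).symm))
  ext x
  constructor
  · intro hx
    obtain ⟨c, rfl⟩ := d.q_surj x
    refine ⟨c, d.mem_Ny.2 ⟨d.mem_CT.1 c.2, ?_⟩, rfl⟩
    have hm := (mem_normalizer_iff.1 hx d.yb).1 (mem_zpowers _)
    rcases pow_three_cases h3 hm with h | h | h
    · exact absurd (by simpa using h) hy1
    · left
      exact d.conj_three (a := ⟨d.yp, d.D_le_CT d.yp_D⟩) (b := ⟨d.yp, d.D_le_CT d.yp_D⟩) (d.J_exp _ d.yp_J)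
        (d.J_exp _ d.yp_J) h
    · right
      exact d.conj_three (a := ⟨d.yp, d.D_le_CT d.yp_D⟩) (b := (⟨d.yp, d.D_le_CT d.yp_D⟩ : d.CT)⁻¹)
        (d.J_exp _ d.yp_J) (d.J_exp _ (inv_mem d.yp_J)) (h.trans (map_inv d.q _).symm)
  · rintro ⟨c, hc, rfl⟩
    refine Subgroup.mem_normalizer_fintype fun y hy => ?_
    obtain ⟨n, rfl⟩ := hy
    show d.q c * d.yb ^ n * (d.q c)⁻¹ ∈ zpowers d.yb
    rw [← conj_zpow]
    refine zpow_mem ?_ _
    rcases (d.mem_Ny.1 hc).2 with h | h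
    · rw [yb, ← map_inv, ← map_mul, ← map_mul,
        show c * ⟨d.yp, d.D_le_CT d.yp_D⟩ * c⁻¹ = (⟨d.yp, d.D_le_CT d.yp_D⟩ : d.CT) from Subtype.ext h]
      exact mem_zpowers _
    · rw [yb, ← map_inv, ← map_mul, ← map_mul,
        show c * ⟨d.yp, d.D_le_CT d.yp_D⟩ * c⁻¹ = (⟨d.yp, d.D_le_CT d.yp_D⟩ : d.CT)⁻¹ from Subtype.ext h, map_inv]
      exact inv_mem (mem_zpowers _)

theorem Ny_card_q (hY : d.HY) : Nat.card (normalizer (zpowers d.yb : Set d.X)) = 2 * Nat.card d.Kc := by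
  have h := d.card_image (U := d.Ny) (fun g hg => d.mem_CT.2 hg.1) (d.Cy_le_Ny (d.Kc_le_Cy d.t_Kc))
  rw [← d.normalizer_yb_eq, d.Ny_card hY] at h
  omega

theorem Ny_q_facts (hY : d.HY) :
    d.Db ≤ normalizer (zpowers d.yb : Set d.X) ∧
      (∀ g ∈ normalizer (zpowers d.yb : Set d.X), g ^ 2 ∈ d.Db) ∧
      (d.Db.subgroupOf (normalizer (zpowers d.yb : Set d.X))).Normal := by
  rw [d.normalizer_yb_eq]
  refine ⟨?_, ?_, ⟨fun n hn g => ?_⟩⟩
  · rintro _ ⟨a, ha, rfl⟩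
    exact ⟨a, d.Cy_le_Ny (d.Kc_le_Cy (d.D_le_Kc ha)), rfl⟩
  · rintro _ ⟨c, hc, rfl⟩
    rw [← map_pow, pow_two]
    exact d.Db_iff.2 (d.Ny_sq hY hc)
  · show (g : d.X) * n * (g : d.X)⁻¹ ∈ d.Db
    obtain ⟨c, hc, he⟩ := g.2
    rw [← he]
    exact (mem_normalizer_iff.1 (d.norm_Db (d.inE_Ny hY hc)) _).1 hn

end Std

end Cfsg.Agent.Lib.McL3Local35
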