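import Cfsg.Agent.Lib.McL3Local35.QuotD

/-!
# The normaliser of the image of `D`
-/

set_option autoImplicit false

namespace Cfsg.Agent.Lib.McL3Local35

open Subgroup

namespace Std

variable {G : Type*} [Group G] [Finite G] (d : Std G)

/-- The group `E` of elements normalising `D` and centralising `t`. -/
def ET : Subgroup G where
  carrier := {g | InE d g}
  one_mem' := d.inE_one
  mul_mem' := fun ha hb => ha.mul hb
  inv_mem' := fun ha => ha.inv

theorem mem_ET {g : G} : g ∈ d.ET ↔ InE d g := Iff.rfl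

theorem ET_le_CT : d.ET ≤ d.CT := fun _ hg => d.mem_CT.2 hg.comm

/-- The normaliser of the image of `D`. -/
noncomputable abbrev NX : Subgroup d.X := normalizer (d.Db : Set d.X)

/-- `E` onto the normaliser of the image of `D`. -/
noncomputable def qN : d.ET →* d.NX :=
  (d.q.comp (Subgroup.inclusion d.ET_le_CT)).codRestrict d.NX fun g => d.norm_Db (c := ⟨g, d.ET_le_CT g.2⟩) g.2

theorem qN_coe (g : d.ET) : (d.qN g : d.X) = d.q ⟨g, d.ET_le_CT g.2⟩ := rfl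

theorem qN_surj : Function.Surjective d.qN := fun x => by
  obtain ⟨c, hc⟩ := d.q_surj (x : d.X)
  refine ⟨⟨c, d.mem_normalizer_Db (c := c) (hc.symm ▸ x.2)⟩, Subtype.ext ?_⟩
  exact hc

theorem qN_mem_Db {g : d.ET} :
    d.qN g ∈ d.Db.subgroupOf d.NX ↔ (g : G) ∈ d.D ∨ (g : G) * d.t ∈ d.D := by
  rw [mem_subgroupOf, qN_coe, d.Db_iff]

theorem qN_mem_cent {g : d.ET} :
    d.qN g ∈ (centralizer (d.Db : Set d.X)).subgroupOf d.NX ↔ (g : G) ∈ d.Kc := by
  rw [mem_subgroupOf, qN_coe, d.cent_Db_iff]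

theorem e1e2_not_Kc : d.e1 * d.e2 ∉ d.Kc := fun h => by
  apply three_inv_ne d.z_three d.z_ne
  calc d.z⁻¹ = (d.e1 * d.z * d.e1⁻¹)⁻¹ := by rw [d.e1_z]
    _ = d.e1 * (d.e2 * d.z * d.e2⁻¹) * d.e1⁻¹ := by rw [d.e2_z]; group
    _ = d.e1 * d.e2 * d.z * (d.e1 * d.e2)⁻¹ := by group
    _ = d.z := by rw [(d.mem_Kc.1 h).2.1, mul_inv_cancel_right]

section Quotient

variable {T : Type*} [Group T] (π : d.ET →* T)

/-- A quotient of `E` by a group between `⟨D, t⟩` and the centraliser of `D`. -/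
structure IsMid : Prop where
  surj : Function.Surjective π
  le : ∀ g : d.ET, (g : G) ∈ d.D ∨ (g : G) * d.t ∈ d.D → π g = 1
  ker : ∀ g : d.ET, π g = 1 → (g : G) ∈ d.Kc

variable {d} {π} (h : d.IsMid π)
include h

theorem IsMid.map_t : π ⟨d.t, d.inE_t⟩ = 1 := h.le _ (Or.inr (by
  show d.t * d.t ∈ d.D
  rw [d.t_sq]; exact one_mem _))

theorem IsMid.exists_dihedral : ∃ φ : DihedralGroup 4 →* T, Function.Injective φ ∧
    φ (.r 2) = π ⟨d.e1 * d.e2, d.inE_e1.mul d.inE_e2⟩ ∧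
    (∀ g : d.ET, ∃ x : DihedralGroup 4, ∃ k : d.ET, (k : G) ∈ d.Kc ∧ π g = φ x * π k) ∧
    ∀ y : T, y * π ⟨d.e1, d.inE_e1⟩ = π ⟨d.e1, d.inE_e1⟩ * y → y * π ⟨d.s, d.inE_s⟩ = π ⟨d.s, d.inE_s⟩ * y →
      ∀ x, y * φ x = φ x * y := by
  set A := π ⟨d.e1, d.inE_e1⟩ with hA
  set B := π ⟨d.s, d.inE_s⟩ with hB
  set C := π ⟨d.e2, d.inE_e2⟩ with hC
  have hBB : B * B = 1 := by
    rw [hB, ← map_mul]
    convert map_one π
    exact Subtype.ext d.s_sq
  have hAA : A * A = 1 := by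
    rw [hA, ← map_mul, ← h.map_t]
    exact congrArg π (Subtype.ext d.e1_sq)
  have hCd : C = B * A * B := by
    rw [hA, hB, hC, ← map_mul, ← map_mul]
    rfl
  have hCC : C * C = 1 := by
    rw [hCd, show B * A * B * (B * A * B) = B * A * (B * B) * A * B by group, hBB, mul_one,
      show B * A * A * B = B * (A * A) * B by group, hAA, mul_one, hBB]
  have hAi : A⁻¹ = A := inv_eq_of_mul_eq_one_right hAA
  have hBi : B⁻¹ = B := inv_eq_of_mul_eq_one_right hBB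
  have hCi : C⁻¹ = C := inv_eq_of_mul_eq_one_right hCC
  have hAC : A * C * A * C = 1 := by
    have h1 := h.le ⟨d.e1 * d.e2 * d.e1⁻¹ * d.e2⁻¹ * d.t,
      ((((d.inE_e1.mul d.inE_e2).mul d.inE_e1.inv).mul d.inE_e2.inv).mul d.inE_t)⟩ (Or.inl d.e1_e2_comm)
    rw [show (⟨d.e1 * d.e2 * d.e1⁻¹ * d.e2⁻¹ * d.t, _⟩ : d.ET) =
        ⟨d.e1, d.inE_e1⟩ * ⟨d.e2, d.inE_e2⟩ * (⟨d.e1, d.inE_e1⟩ : d.ET)⁻¹ * (⟨d.e2, d.inE_e2⟩ : d.ET)⁻¹ *
          ⟨d.t, d.inE_t⟩ from rfl] at h1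
    simp only [map_mul, map_inv, h.map_t, mul_one, ← hA, ← hC, hAi, hCi] at h1
    exact h1
  have ha : (A * B) ^ 4 = 1 := by
    rw [← hAC, hCd]
    simp only [pow_succ, pow_zero, one_mul, mul_assoc]
  have hab : B * (A * B) * B = (A * B)⁻¹ := by
    rw [mul_inv_rev, hAi, hBi, mul_assoc, mul_assoc, hBB, mul_one]
  set φ := dihedralHom (A * B) B ha hBB hab with hφ
  have hr2 : φ (.r 2) = π ⟨d.e1 * d.e2, d.inE_e1.mul d.inE_e2⟩ := by
    rw [hφ, dihedralHom_r, show ((2 : ZMod 4)).val = 2 from rfl,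
      show (⟨d.e1 * d.e2, _⟩ : d.ET) = ⟨d.e1, d.inE_e1⟩ * ⟨d.e2, d.inE_e2⟩ from rfl, map_mul, ← hA, ← hC, hCd]
    simp only [pow_succ, pow_zero, one_mul, mul_assoc]
  have hB' : φ (.sr 0) = B := by
    rw [hφ, dihedralHom_sr, ZMod.val_zero, pow_zero, mul_one]
  have hA' : φ (.r 1 * .sr 0) = A := by
    rw [map_mul, hB', hφ, dihedralHom_r, show ((1 : ZMod 4)).val = 1 from rfl, pow_one, mul_assoc, hBB, mul_one]
  refine ⟨φ, dihedral_injective φ ?_, hr2, fun g => ?_, fun y h1 h2 x => ?_⟩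
  · intro h2
    exact d.e1e2_not_Kc (h.ker _ (hr2.symm.trans h2))
  · obtain ⟨a, ha', b, hb', c, hc', k, hk, hg⟩ := d.E_reduce' g.2
    obtain ⟨xa, hxa, ha''⟩ : ∃ x, ∃ hE : InE d a, φ x = π ⟨a, hE⟩ := by
      rcases ha' with rfl | rfl
      · exact ⟨1, d.inE_one, by rw [map_one]; exact (map_one π).symm⟩
      · exact ⟨_, d.inE_s, hB'⟩
    obtain ⟨xb, hxb, hb''⟩ : ∃ x, ∃ hE : InE d b, φ x = π ⟨b, hE⟩ := by
      rcases hb' with rfl | rfl
      · exact ⟨1, d.inE_one, by rw [map_one]; exact (map_one π).symm⟩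
      · exact ⟨_, d.inE_e1.mul d.inE_e2, hr2⟩
    obtain ⟨xc, hxc, hc''⟩ : ∃ x, ∃ hE : InE d c, φ x = π ⟨c, hE⟩ := by
      rcases hc' with rfl | rfl
      · exact ⟨1, d.inE_one, by rw [map_one]; exact (map_one π).symm⟩
      · exact ⟨_, d.inE_e1, hA'⟩
    refine ⟨xa * xb * xc, ⟨k, d.Kc_inE hk⟩, hk, ?_⟩
    rw [show g = ⟨a, hxa⟩ * ⟨b, hxb⟩ * ⟨c, hxc⟩ * ⟨k, d.Kc_inE hk⟩ from Subtype.ext hg]
    simp only [map_mul, ha'', hb'', hc'']
  · have hy : Commute y (A * B) := Commute.mul_right h1 h2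
    rcases x with i | i
    · rw [hφ, dihedralHom_r]; exact (hy.pow_right _).eq
    · rw [hφ, dihedralHom_sr]; exact (Commute.mul_right h2 (hy.pow_right _)).eq

end Quotient

theorem isMid_cent [((centralizer (d.Db : Set d.X)).subgroupOf d.NX).Normal] :
    d.IsMid ((QuotientGroup.mk' ((centralizer (d.Db : Set d.X)).subgroupOf d.NX)).comp d.qN) where
  surj := (QuotientGroup.mk'_surjective _).comp d.qN_surj
  le := fun g hg => by
    rw [MonoidHom.comp_apply, QuotientGroup.mk'_apply, QuotientGroup.eq_one_iff, d.qN_mem_cent]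
    rcases hg with hg | hg
    · exact d.D_le_Kc hg
    · simpa [mul_assoc, d.t_sq] using mul_mem (d.D_le_Kc hg) d.t_Kc
  ker := fun g hg => by
    rwa [MonoidHom.comp_apply, QuotientGroup.mk'_apply, QuotientGroup.eq_one_iff, d.qN_mem_cent] at hg

theorem isMid_Db [(d.Db.subgroupOf d.NX).Normal] :
    d.IsMid ((QuotientGroup.mk' (d.Db.subgroupOf d.NX)).comp d.qN) where
  surj := (QuotientGroup.mk'_surjective _).comp d.qN_surj
  le := fun g hg => by
    rwa [MonoidHom.comp_apply, QuotientGroup.mk'_apply, QuotientGroup.eq_one_iff, d.qN_mem_Db]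
  ker := fun g hg => by
    rw [MonoidHom.comp_apply, QuotientGroup.mk'_apply, QuotientGroup.eq_one_iff, d.qN_mem_Db] at hg
    rcases hg with hg | hg
    · exact d.D_le_Kc hg
    · simpa [mul_assoc, d.t_sq] using mul_mem (d.D_le_Kc hg) d.t_Kc

theorem cent_normal_NX : ((centralizer (d.Db : Set d.X)).subgroupOf d.NX).Normal := by
  refine ⟨fun n hn g => ?_⟩
  show (g : d.X) * n * (g : d.X)⁻¹ ∈ centralizer (d.Db : Set d.X)
  rw [mem_centralizer_iff]
  intro y hy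
  have e : (g : d.X)⁻¹ * y * g ∈ d.Db := by
    simpa [mul_assoc] using (mem_normalizer_iff.1 (inv_mem g.2) y).1 hy
  have hc := mem_centralizer_iff.1 (mem_subgroupOf.1 hn) _ e
  calc y * ((g : d.X) * n * (g : d.X)⁻¹) = g * (((g : d.X)⁻¹ * y * g) * n) * (g : d.X)⁻¹ := by group
    _ = g * (n * ((g : d.X)⁻¹ * y * g)) * (g : d.X)⁻¹ := by rw [hc]
    _ = g * n * (g : d.X)⁻¹ * y := by group

/-- The quotient of the normaliser by the centraliser. -/
theorem nonempty_eNC [((centralizer (d.Db : Set d.X)).subgroupOf d.NX).Normal] :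
    Nonempty (d.NX ⧸ (centralizer (d.Db : Set d.X)).subgroupOf d.NX ≃* DihedralGroup 4) := by
  obtain ⟨φ, hinj, -, hsurj, -⟩ := d.isMid_cent.exists_dihedral
  refine ⟨(MulEquiv.ofBijective φ ⟨hinj, fun y => ?_⟩).symm⟩
  obtain ⟨g, rfl⟩ := d.isMid_cent.surj y
  obtain ⟨x, k, hk, he⟩ := hsurj g
  refine ⟨x, ?_⟩
  rw [he, MonoidHom.comp_apply, QuotientGroup.mk'_apply, (QuotientGroup.eq_one_iff (d.qN k)).2 (d.qN_mem_cent.2 hk)]
  exact (mul_one (φ x)).symm

theorem nonempty_eN_A [(d.Db.subgroupOf d.NX).Normal] (hA : d.CaseA) :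
    Nonempty (d.NX ⧸ d.Db.subgroupOf d.NX ≃* DihedralGroup 4) := by
  obtain ⟨φ, hinj, -, hsurj, -⟩ := d.isMid_Db.exists_dihedral
  refine ⟨(MulEquiv.ofBijective φ ⟨hinj, fun y => ?_⟩).symm⟩
  obtain ⟨g, rfl⟩ := d.isMid_Db.surj y
  obtain ⟨x, k, hk, he⟩ := hsurj g
  refine ⟨x, ?_⟩
  rw [he, d.isMid_Db.le k (hA k hk), mul_one]

/-- The group of order two into a group, by an involution. -/
def zmodTwoHom {T : Type*} [Group T] (U : T) (hU : U * U = 1) : Multiplicative (ZMod 2) →* T where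
  toFun i := U ^ (Multiplicative.toAdd i).val
  map_one' := pow_zero _
  map_mul' := fun i j => by
    rw [toAdd_mul, ← pow_add, ZMod.val_add]
    exact (pow_eq_pow_mod _ (by rw [pow_two, hU])).symm

theorem conj_u {u g : G} (hu : d.IsU u) (hg : g = d.e1 ∨ g = d.s) :
    g * u * g⁻¹ * u ∈ d.D := by
  have hgE : InE d g := by rcases hg with rfl | rfl; exacts [d.inE_e1, d.inE_s]
  have hgD : ∀ x ∈ d.D, (g * u * g⁻¹) * x = x * (g * u * g⁻¹) := fun x hx => by
    have h1 : (g⁻¹ * x * g) ∈ d.D := by simpa using hgE.inv.normD x hx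
    calc g * u * g⁻¹ * x = g * (u * (g⁻¹ * x * g)) * g⁻¹ := by group
      _ = g * ((g⁻¹ * x * g) * u) * g⁻¹ := by rw [d.Kc_commD hu.mem h1]
      _ = x * (g * u * g⁻¹) := by group
  have hm : g * u * g⁻¹ ∈ d.Kc := d.mem_Kc.2
    ⟨((hgE.mul (d.Kc_inE hu.mem)).mul hgE.inv).comm, hgD _ d.z_D, hgD _ d.z2_D⟩
  have hp := mul_mem hm hu.mem
  refine d.mem_D_of_rho_one (d.Kc_inE hp) (d.mem_Kc.1 hp).2.1 ?_
  have hr : d.rho g * d.rho d.e = -(d.rho d.e * d.rho g) := by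
    rcases hg with rfl | rfl
    · rw [d.rho_anti, neg_neg]
    · rw [d.rho_e_s, neg_neg]
  rw [d.rho_mul ((hgE.mul (d.Kc_inE hu.mem)).mul hgE.inv) (d.Kc_inE hu.mem),
    d.rho_mul (hgE.mul (d.Kc_inE hu.mem)) hgE.inv, d.rho_mul hgE (d.Kc_inE hu.mem), hu.rho, hr, neg_mul,
    mul_assoc (d.rho d.e), (d.rho_inv hgE).2, mul_one, neg_mul, d.rho_e_sq, neg_neg]

theorem nonempty_eN_B [(d.Db.subgroupOf d.NX).Normal] {u : G} (hu : d.IsU u) :
    Nonempty (d.NX ⧸ d.Db.subgroupOf d.NX ≃* DihedralGroup 4 × Multiplicative (ZMod 2)) := by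
  have hmid := d.isMid_Db
  obtain ⟨φ, hinj, hr2, hsurj, hcomm⟩ := hmid.exists_dihedral
  set π := (QuotientGroup.mk' (d.Db.subgroupOf d.NX)).comp d.qN with hπ
  set u' : d.ET := ⟨u, d.Kc_inE hu.mem⟩ with hu'
  set U := π u' with hU
  have hUU : U * U = 1 := by
    rw [hU, ← map_mul, ← hmid.map_t]
    exact congrArg π (Subtype.ext hu.sq)
  have hUne : U ≠ 1 := by
    intro h1
    have hmem := d.qN_mem_Db.1 ((QuotientGroup.eq_one_iff (d.qN u')).1 h1)
    have h2 := d.rho_e_sq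
    rcases hmem with hm | hm
    · have h3 := d.rho_D hm
      rw [show ((u' : d.ET) : G) = u from rfl, hu.rho] at h3
      rw [h3, one_mul] at h2
      exact Plane.neg_one_ne h2.symm
    · have h3 := d.rho_D hm
      rw [show ((u' : d.ET) : G) = u from rfl, d.rho_mul (d.Kc_inE hu.mem) d.inE_t, hu.rho, d.rho_t, mul_neg,
        mul_one, neg_eq_iff_eq_neg] at h3
      rw [h3, neg_mul_neg, one_mul] at h2
      exact Plane.neg_one_ne h2.symm
  have hc : ∀ g : d.ET, ((g : G) = d.e1 ∨ (g : G) = d.s) → U * π g = π g * U := fun g hg => by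
    have h1 := hmid.le (g * u' * g⁻¹ * u') (Or.inl (d.conj_u hu hg))
    rw [map_mul, map_mul, map_mul, map_inv] at h1
    have hUi : U⁻¹ = U := inv_eq_of_mul_eq_one_right hUU
    have h2 : π g * U * (π g)⁻¹ = U := (mul_eq_one_iff_eq_inv.1 h1).trans hUi
    exact (mul_inv_eq_iff_eq_mul.1 h2).symm
  have hUx := hcomm U (hc ⟨d.e1, d.inE_e1⟩ (Or.inl rfl)) (hc ⟨d.s, d.inE_s⟩ (Or.inr rfl))
  have hker : ∀ x : DihedralGroup 4, φ x ≠ U := by
    intro x hx
    have hcen : ∀ y, x * y = y * x := fun y => hinj (by rw [map_mul, map_mul, hx]; exact hUx y)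
    have key : ∀ x : DihedralGroup 4, (∀ y, x * y = y * x) → x = 1 ∨ x = .r 2 := by decide
    rcases key x hcen with rfl | rfl
    · exact hUne (by rw [← hx, map_one])
    · have h1 : π (⟨d.e1 * d.e2, d.inE_e1.mul d.inE_e2⟩ * u') = 1 := by
        rw [map_mul, ← hr2, hx]; exact hUU
      exact d.e1e2_not_Kc ((Subgroup.mul_mem_cancel_right _ hu.mem).1 (hmid.ker _ h1))
  have hcc : ∀ x i, Commute (φ x) (zmodTwoHom U hUU i) := fun x i => (Commute.pow_left (hUx x) _).symm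
  set ψ := φ.noncommCoprod (zmodTwoHom U hUU) hcc with hψ
  refine ⟨(MulEquiv.ofBijective ψ ⟨?_, fun y => ?_⟩).symm⟩
  · rw [injective_iff_map_eq_one]
    rintro ⟨x, i⟩ he
    rw [hψ, MonoidHom.noncommCoprod_apply] at he
    have hi : ∀ i : Multiplicative (ZMod 2), i = 1 ∨ i = Multiplicative.ofAdd 1 := by decide
    rcases hi i with rfl | rfl
    · rw [map_one, mul_one] at he
      exact Prod.ext (hinj (he.trans (map_one φ).symm)) rfl
    · exfalso
      have h1 : zmodTwoHom U hUU (Multiplicative.ofAdd 1) = U := pow_one U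
      rw [h1] at he
      exact hker x ((mul_eq_one_iff_eq_inv.1 he).trans (inv_eq_of_mul_eq_one_right hUU))
  · obtain ⟨g, rfl⟩ := hmid.surj y
    obtain ⟨x, k, hk, he⟩ := hsurj g
    have hk' : π k = 1 ∨ π k = U := by
      rcases hu.gen k hk with h | h | h | h
      · exact Or.inl (hmid.le k (Or.inl h))
      · exact Or.inl (hmid.le k (Or.inr h))
      · refine Or.inr ?_
        have h1 := hmid.le (k * u') (Or.inl h)
        rw [map_mul] at h1
        exact (mul_eq_one_iff_eq_inv.1 h1).trans (inv_eq_of_mul_eq_one_right hUU)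
      · refine Or.inr ?_
        have h1 := hmid.le (k * u') (Or.inr h)
        rw [map_mul] at h1
        exact (mul_eq_one_iff_eq_inv.1 h1).trans (inv_eq_of_mul_eq_one_right hUU)
    rcases hk' with hk' | hk'
    · exact ⟨(x, 1), by rw [hψ, MonoidHom.noncommCoprod_apply, map_one, he, hk']⟩
    · refine ⟨(x, Multiplicative.ofAdd 1), ?_⟩
      rw [hψ, MonoidHom.noncommCoprod_apply, he, hk']
      exact congrArg (φ x * ·) (pow_one U)

end Std

end Cfsg.Agent.Lib.McL3Local35
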