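import Mathlib
import Cfsg.Agent.Lib.OddLocal.CoprimeFix

/-!
# Elementary tools for the 3-local recognition of the McLaughlin group

Powers extracting parts of an element, the square-root trick for involutions in a coset of a group of odd
order, elements of order five on small 3-groups, and homomorphisms out of dihedral groups.
-/

set_option autoImplicit false

namespace Cfsg.Agent.Lib.McL3Local35

open Subgroup

variable {G : Type*} [Group G]

theorem inv_eq_sq {g : G} (h : g ^ 3 = 1) : g⁻¹ = g ^ 2 := by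
  rw [inv_eq_iff_mul_eq_one, ← pow_succ']; exact h

/-- Membership of the inverse in a set closed under squaring, for an element of order three. -/
theorem pow_three_cases {g x : G} (hg : g ^ 3 = 1) (hx : x ∈ zpowers g) : x = 1 ∨ x = g ∨ x = g⁻¹ := by
  obtain ⟨k, rfl⟩ := hx
  have hk : k = 3 * (k / 3) + k % 3 := (Int.mul_ediv_add_emod k 3).symm
  have h3 : g ^ (3 : ℤ) = 1 := by exact_mod_cast hg
  show g ^ k = 1 ∨ g ^ k = g ∨ g ^ k = g⁻¹
  rw [hk, zpow_add, zpow_mul, h3, one_zpow, one_mul]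
  rcases (show k % 3 = 0 ∨ k % 3 = 1 ∨ k % 3 = 2 by omega) with h | h | h <;> rw [h]
  · exact Or.inl (zpow_zero g)
  · exact Or.inr (Or.inl (zpow_one g))
  · right; right
    rw [inv_eq_sq hg]
    exact_mod_cast rfl

/-- The member of a set of order prime to five moved by an element of order five in orbits of five. -/
theorem five_fix {f : G} (hf : f ^ 5 = 1) {H : Subgroup G} [Finite H]
    (hnorm : ∀ h ∈ H, f * h * f⁻¹ ∈ H) :
    Nat.card {h : G // h ∈ H ∧ f * h * f⁻¹ = h} ≡ Nat.card H [MOD 5] := by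
  classical
  haveI : Fact (Nat.Prime 5) := ⟨by norm_num⟩
  let σ : H → H := fun h => ⟨f * (h : G) * f⁻¹, hnorm _ h.2⟩
  have hiter : ∀ (n : ℕ) (h : H), ((σ^[n] h : H) : G) = f ^ n * (h : G) * (f ^ n)⁻¹ := by
    intro n
    induction n with
    | zero => intro h; simp
    | succ n ih =>
      intro h
      rw [Function.iterate_succ_apply', show ((σ (σ^[n] h) : H) : G) = f * (σ^[n] h : H) * f⁻¹ from rfl,
        ih h, pow_succ', mul_inv_rev]
      simp only [mul_assoc]
  let e : Function.End H := σ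
  have hpow : ∀ (n : ℕ), (e ^ n : Function.End H) = σ^[n] := by
    intro n
    induction n with
    | zero => rfl
    | succ n ih => rw [pow_succ', ih, Function.iterate_succ']; rfl
  have he : e ^ 5 ^ 1 = 1 := by
    funext h
    refine Subtype.ext ?_
    rw [hpow, hiter, pow_one, hf]
    simp only [inv_one, one_mul, mul_one]
    rfl
  have : Fintype H := Fintype.ofFinite H
  have key := Equiv.Perm.card_fixedPoints_modEq he
  have hset : Nat.card {h : G // h ∈ H ∧ f * h * f⁻¹ = h} = Fintype.card (Function.fixedPoints e) := by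
    rw [← Nat.card_eq_fintype_card]
    exact Nat.card_congr
      { toFun := fun h => ⟨⟨h.1, h.2.1⟩, Subtype.ext h.2.2⟩
        invFun := fun h => ⟨h.1.1, h.1.2, congrArg Subtype.val h.2⟩
        left_inv := fun _ => rfl
        right_inv := fun _ => rfl }
  rw [hset, Nat.card_eq_fintype_card (α := H)]
  exact key.symm

/-- The subgroup fixed by an element. -/
def fixIn (f : G) (H : Subgroup G) : Subgroup G := H ⊓ centralizer ({f} : Set G)

theorem mem_fixIn {f h : G} {H : Subgroup G} : h ∈ fixIn f H ↔ h ∈ H ∧ f * h * f⁻¹ = h := by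
  rw [fixIn, mem_inf, mem_centralizer_singleton_iff, mul_inv_eq_iff_eq_mul, eq_comm (a := h * f)]

/-- An element of order five fixes a 3-group of order at most `3^(a+3)` pointwise as soon as it fixes a
subgroup of order `3^a`. -/
theorem five_small [Finite G] {f : G} (hf : f ^ 5 = 1) {H F : Subgroup G} {a b : ℕ}
    (hH : Nat.card H = 3 ^ b) (hF : Nat.card F = 3 ^ a) (hFH : F ≤ H) (hab : b ≤ a + 3)
    (hnorm : ∀ h ∈ H, f * h * f⁻¹ ∈ H) (hfix : ∀ h ∈ F, f * h * f⁻¹ = h) :
    ∀ h ∈ H, f * h * f⁻¹ = h := by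
  have hle : F ≤ fixIn f H := fun h hh => mem_fixIn.2 ⟨hFH hh, hfix h hh⟩
  have hK : fixIn f H ≤ H := inf_le_left
  obtain ⟨c, hcb, hc⟩ := (Nat.dvd_prime_pow (p := 3) Nat.prime_three).1 (hH ▸ card_dvd_of_le hK)
  have hac : a ≤ c := by
    have h1 := Nat.le_of_dvd (pow_pos (by norm_num) c) (hc ▸ hF ▸ card_dvd_of_le hle)
    exact (Nat.pow_le_pow_iff_right (by norm_num)).1 h1
  have hmod : (3 ^ c : ℕ) ≡ 3 ^ b [MOD 5] := by
    have h1 := five_fix hf hnorm
    rw [hH] at h1
    refine (Nat.ModEq.trans ?_ h1)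
    rw [← hc]
    exact (Nat.card_congr (Equiv.subtypeEquivRight fun h => mem_fixIn (f := f) (H := H) (h := h))).symm ▸ rfl
  have hbc : c = b := by
    obtain ⟨d, rfl⟩ := Nat.exists_eq_add_of_le hcb
    rw [pow_add] at hmod
    have h5 : (1 : ℕ) ≡ 3 ^ d [MOD 5] := by
      refine Nat.ModEq.cancel_left_of_coprime (c := 3 ^ c) ?_ (by rw [mul_one]; exact hmod)
      exact Nat.Coprime.pow_right c (by norm_num : Nat.Coprime 5 3)
    have hd : d ≤ 3 := by omega
    interval_cases d
    · omega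
    all_goals exact absurd h5 (by decide)
  have : fixIn f H = H := Subgroup.eq_of_le_of_card_ge hK (by rw [hc, hH, hbc])
  intro h hh
  exact (mem_fixIn.1 (this.symm ▸ hh)).2

/-- The 2-part of an element with `g ^ (3 ^ k * 4) = 1`. -/
theorem two_part {g : G} (h : g ^ 324 = 1) : (g ^ 81) ^ 4 = 1 := by
  rw [← pow_mul]; exact h

/-- An involution times an element of odd order inverted by it is a conjugate of the involution. -/
theorem exists_sqrt_conj {t q : G} {n : ℕ} (ht : t * t = 1) (hq : t * q * t = q⁻¹) (hn : q ^ (2 * n + 1) = 1) :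
    ∃ m ∈ zpowers q, m * (t * q) * m⁻¹ = t := by
  refine ⟨q ^ (n + 1), pow_mem (mem_zpowers q) _, ?_⟩
  have hti : t⁻¹ = t := inv_eq_of_mul_eq_one_right ht
  have hc : ∀ k : ℕ, t * q ^ k * t = (q ^ k)⁻¹ := by
    intro k
    have : (t * q * t⁻¹) ^ k = t * q ^ k * t⁻¹ := conj_pow
    rw [hti, hq, inv_pow] at this
    exact this.symm
  have h1 : q ^ (n + 1) * t = t * (q ^ (n + 1))⁻¹ := by
    calc q ^ (n + 1) * t = t * (t * q ^ (n + 1) * t) := by
          rw [← mul_assoc, ← mul_assoc, ht, one_mul]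
      _ = t * (q ^ (n + 1))⁻¹ := by rw [hc]
  calc q ^ (n + 1) * (t * q) * (q ^ (n + 1))⁻¹ = q ^ (n + 1) * t * (q * (q ^ (n + 1))⁻¹) := by
        simp only [mul_assoc]
    _ = t * ((q ^ (n + 1))⁻¹ * (q * (q ^ (n + 1))⁻¹)) := by rw [h1, mul_assoc]
    _ = t * ((q ^ (2 * n + 1))⁻¹) := by group
    _ = t := by rw [hn, inv_one, mul_one]

/-- The fixed element of an involution in a coset of an odd subgroup it normalises. -/
theorem exists_fixed_mul_odd {t x : G} {A : Subgroup G} [Finite A] (ht : t * t = 1)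
    (hA : Odd (Nat.card A)) (hx : x⁻¹ * (t * x * t) ∈ A) :
    ∃ a ∈ A, t * (x * a) * t = x * a := by
  set c := x⁻¹ * (t * x * t) with hc
  have hci : t * c * t = c⁻¹ := by
    rw [hc, mul_inv_rev, inv_inv, mul_inv_rev, mul_inv_rev, inv_eq_of_mul_eq_one_right ht]
    calc t * (x⁻¹ * (t * x * t)) * t = t * x⁻¹ * t * x * (t * t) := by group
      _ = t * (x⁻¹ * t) * x := by rw [ht, mul_one]; group
      _ = _ := by group
  obtain ⟨n, hn⟩ := hA
  have hcn : c ^ (2 * n + 1) = 1 := by
    rw [← hn]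
    exact orderOf_dvd_iff_pow_eq_one.1 (Subgroup.orderOf_dvd_natCard A hx)
  refine ⟨c ^ (n + 1), pow_mem hx _, ?_⟩
  have hti : t⁻¹ = t := inv_eq_of_mul_eq_one_right ht
  have hck : t * c ^ (n + 1) * t = (c ^ (n + 1))⁻¹ := by
    have : (t * c * t⁻¹) ^ (n + 1) = t * c ^ (n + 1) * t⁻¹ := conj_pow
    rw [hti, hci, inv_pow] at this
    exact this.symm
  calc t * (x * c ^ (n + 1)) * t = (t * x * t) * (t * c ^ (n + 1) * t) := by
        rw [← mul_assoc, ← mul_assoc]
        simp only [mul_assoc]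
        rw [← mul_assoc t t, ht, one_mul]
    _ = x * c * (c ^ (n + 1))⁻¹ := by rw [hck, hc]; group
    _ = x * ((c ^ (2 * n + 1)) * (c ^ (n + 1))⁻¹ * c) := by rw [hcn]; group
    _ = x * c ^ (n + 1) := by group

/-- An element of order prime to that of `Q` acting trivially on the factors of a series `Q ≥ A ≥ Z ≥ 1`
centralises `Q`. -/
theorem series_three {x : G} {Q A Z : Subgroup G} (hAQ : A ≤ Q) (hZA : Z ≤ A)
    (hcop : (orderOf x).Coprime (Nat.card Q)) (hQA : ∀ q ∈ Q, x * q * x⁻¹ * q⁻¹ ∈ A)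
    (hAZ : ∀ a ∈ A, x * a * x⁻¹ * a⁻¹ ∈ Z) (hZ : ∀ z ∈ Z, x * z * x⁻¹ * z⁻¹ = 1) :
    ∀ q ∈ Q, x * q = q * x := by
  refine OddLocal.CoprimeFix.centralizes_of_series (H := Q) (n := 3) ![Q, A, Z, ⊥] rfl rfl ?_ hcop ?_
  · intro i
    fin_cases i
    · exact le_rfl
    · exact hAQ
    · exact hZA.trans hAQ
    · exact bot_le
  · intro i
    fin_cases i
    · exact hQA
    · exact hAZ
    · intro z hz
      show _ ∈ (⊥ : Subgroup G)
      rw [mem_bot]
      exact hZ z hz

/-- An element whose powers prime to three are trivial is a 3-element. -/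
theorem three_element [Finite G] {g : G}
    (h : ∀ x ∈ zpowers g, (orderOf x).Coprime 3 → x = 1) : ∃ k : ℕ, orderOf g = 3 ^ k := by
  haveI : Fact (Nat.Prime 3) := ⟨Nat.prime_three⟩
  obtain ⟨k, m, hm, hkm⟩ := Nat.exists_eq_pow_mul_and_not_dvd (orderOf_pos g).ne' 3 (by norm_num)
  refine ⟨k, ?_⟩
  have h1 : orderOf (g ^ 3 ^ k) = m := by
    rw [orderOf_pow' g (pow_ne_zero k (by norm_num)), hkm,
      Nat.gcd_eq_right (dvd_mul_right _ _), Nat.mul_div_cancel_left _ (pow_pos (by norm_num) k)]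
  have h2 := h (g ^ 3 ^ k) (pow_mem (mem_zpowers g) _)
    (by rw [h1]; exact (Nat.prime_three.coprime_iff_not_dvd.2 hm).symm)
  have h3 : m = 1 := by rw [← h1, h2, orderOf_one]
  rw [hkm, h3, mul_one]

section Dihedral

variable {n : ℕ} [NeZero n]

/-- The homomorphism from a dihedral group given by a rotation and a reflection. -/
def dihedralHom (a b : G) (ha : a ^ n = 1) (hb : b * b = 1) (hab : b * a * b = a⁻¹) : DihedralGroup n →* G where
  toFun
    | .r i => a ^ i.val
    | .sr i => b * a ^ i.val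
  map_one' := by
    show a ^ (0 : ZMod n).val = 1
    rw [ZMod.val_zero, pow_zero]
  map_mul' := by
    have hmod : ∀ k : ℕ, a ^ (k % n) = a ^ k := fun k => (pow_eq_pow_mod k ha).symm
    have hadd : ∀ i j : ZMod n, a ^ (i + j).val = a ^ i.val * a ^ j.val := fun i j => by
      rw [ZMod.val_add, hmod, pow_add]
    have hsub : ∀ i j : ZMod n, a ^ (j - i).val = (a ^ i.val)⁻¹ * a ^ j.val := fun i j => by
      rw [eq_inv_mul_iff_mul_eq, ← hadd, add_sub_cancel]
    have hbi : b⁻¹ = b := inv_eq_of_mul_eq_one_right hb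
    have hflip : ∀ k : ℕ, a ^ k * b = b * (a ^ k)⁻¹ := fun k => by
      have h : (b * a * b⁻¹) ^ k = b * a ^ k * b⁻¹ := conj_pow
      rw [hbi, hab, inv_pow] at h
      calc a ^ k * b = b * (b * a ^ k * b) := by rw [← mul_assoc, ← mul_assoc, hb, one_mul]
        _ = b * (a ^ k)⁻¹ := by rw [h]
    rintro (i | i) (j | j)
    · exact hadd i j
    · show b * a ^ (j - i).val = a ^ i.val * (b * a ^ j.val)
      rw [hsub, ← mul_assoc, ← mul_assoc, hflip]
    · show b * a ^ (i + j).val = b * a ^ i.val * a ^ j.val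
      rw [hadd, mul_assoc]
    · show a ^ (j - i).val = b * a ^ i.val * (b * a ^ j.val)
      rw [hsub]
      calc (a ^ i.val)⁻¹ * a ^ j.val = b * b * (a ^ i.val)⁻¹ * a ^ j.val := by rw [hb, one_mul]
        _ = b * (b * (a ^ i.val)⁻¹) * a ^ j.val := by simp only [mul_assoc]
        _ = b * (a ^ i.val * b) * a ^ j.val := by rw [hflip]
        _ = b * a ^ i.val * (b * a ^ j.val) := by simp only [mul_assoc]

theorem dihedralHom_r (a b : G) (ha : a ^ n = 1) (hb : b * b = 1) (hab : b * a * b = a⁻¹) (i : ZMod n) :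
    dihedralHom a b ha hb hab (.r i) = a ^ i.val := rfl

theorem dihedralHom_sr (a b : G) (ha : a ^ n = 1) (hb : b * b = 1) (hab : b * a * b = a⁻¹) (i : ZMod n) :
    dihedralHom a b ha hb hab (.sr i) = b * a ^ i.val := rfl

end Dihedral

end Cfsg.Agent.Lib.McL3Local35
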