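import Cfsg.Agent.Lib.McL3Local35.Basic

/-!
# The weak closure of `J`, and the normalised homomorphism onto `A₆`
-/

set_option autoImplicit false

namespace Cfsg.Agent.Lib.McL3Local35

open Subgroup
open scoped Pointwise

namespace Hyp

variable {G : Type*} [Group G] [Finite G] (h : Hyp G)

theorem preFix_mul_le {x q : G} (hx : x ∈ h.S) (hq : q ∈ h.Q) : h.preFix (x * q) ≤ h.preFix x := by
  intro a ha
  refine ⟨ha.1, ?_⟩
  have hc := h.Q_comm q hq a ha.1
  set c := q * a * q⁻¹ * a⁻¹ with hcdef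
  have hxc : x * c * x⁻¹ = c := by rw [h.Z_central _ hc x hx, mul_inv_cancel_right]
  have e : x * q * a * (x * q)⁻¹ * a⁻¹ = (x * c * x⁻¹) * (x * a * x⁻¹ * a⁻¹) := by rw [hcdef]; group
  have h2 := ha.2
  rw [e, hxc] at h2
  exact (Subgroup.mul_mem_cancel_left h.Z hc).1 h2

theorem A_le_preFix {j : G} (hj : j ∈ h.J) : h.A ≤ h.preFix j := fun a ha => ⟨h.A_le_Q ha, by
  rw [h.J_comm j hj a (h.A_le_J ha)]; simp⟩

theorem preFix_eq_A {j : G} (hj : j ∈ h.J) (hjQ : j ∉ h.Q) : h.preFix j = h.A :=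
  (Subgroup.eq_of_le_of_card_ge (h.A_le_preFix hj)
    (by rw [h.JQ_card]; exact h.preFix_card (h.J_le hj) hjQ)).symm

/-- `J` is the only abelian subgroup of order 81 of `S`. -/
theorem unique_abelian {U : Subgroup G} (hU : U ≤ h.S) (hc : Nat.card U = 81)
    (hab : ∀ a ∈ U, ∀ b ∈ U, a * b = b * a) : U = h.J := by
  refine Subgroup.eq_of_le_of_card_ge ?_ (by rw [hc, h.J_card])
  have hB : Nat.card (U ⊓ h.Q : Subgroup G) ≤ 27 :=
    h.abelian_le_27 inf_le_right fun a ha b hb => hab a (mem_inf.1 ha).1 b (mem_inf.1 hb).1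
  have hB' : 27 ≤ Nat.card (U ⊓ h.Q : Subgroup G) := by
    have e1 : Nat.card (U ⊓ h.Q : Subgroup G) * h.Q.relIndex U = 81 := by
      rw [← Subgroup.inf_relIndex_left, ← hc]
      exact card_mul_relIndex inf_le_left
    have e2 : 243 * h.Q.relIndex h.S = 729 := by
      rw [← h.Q_card, ← h.S_card]
      exact card_mul_relIndex h.Q_le
    have e3 : h.Q.relIndex U ≤ h.Q.relIndex h.S :=
      Subgroup.relIndex_le_of_le_right hU (by intro h0; rw [h0] at e2; omega)
    have hh : 81 ≤ Nat.card (U ⊓ h.Q : Subgroup G) * 3 :=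
      e1.symm.le.trans (Nat.mul_le_mul_left _ (by omega))
    omega
  -- `U ∩ Q = A`
  obtain ⟨x, hxU, hxQ⟩ : ∃ x ∈ U, x ∉ h.Q := by
    by_contra hall
    push Not at hall
    have : U ⊓ h.Q = U := inf_eq_left.2 hall
    rw [this, hc] at hB
    omega
  obtain ⟨j, hj, q, hq, hjq⟩ := h.S_eq (hU hxU)
  have hjQ : j ∉ h.Q := fun hjQ => hxQ (hjq ▸ mul_mem hjQ hq)
  have hUA : U ⊓ h.Q = h.A := by
    refine Subgroup.eq_of_le_of_card_ge ?_ (by rw [h.JQ_card]; exact hB')
    refine le_trans (show U ⊓ h.Q ≤ h.preFix x from fun a ha => ?_) ?_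
    · exact ⟨(mem_inf.1 ha).2, by rw [hab x hxU a (mem_inf.1 ha).1]; simp⟩
    · rw [hjq, ← h.preFix_eq_A hj hjQ]
      exact h.preFix_mul_le (h.J_le hj) hq
  intro u hu
  obtain ⟨j', hj', q', hq', he⟩ := h.S_eq (hU hu)
  have hq'A : q' ∈ h.A := by
    refine h.A_self hq' fun a ha => ?_
    have haU : a ∈ U := (mem_inf.1 (hUA.symm ▸ ha : a ∈ U ⊓ h.Q)).1
    have h1 := hab u hu a haU
    rw [he] at h1
    have h2 := h.J_comm j' hj' a (h.A_le_J ha)
    calc q' * a = j'⁻¹ * (j' * q' * a) := by group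
      _ = j'⁻¹ * (a * (j' * q')) := by rw [h1]
      _ = j'⁻¹ * (a * j') * q' := by group
      _ = a * q' := by rw [← h2]; group
  rw [he]
  exact mul_mem hj' (h.A_le_J hq'A)

theorem conj_eq_J {g : G} (hle : ∀ x ∈ h.J, g * x * g⁻¹ ∈ h.S) : Norms g h.J := by
  set U := h.J.map (MulAut.conj g).toMonoidHom with hUdef
  have hU : U ≤ h.S := by
    rintro _ ⟨x, hx, rfl⟩
    exact hle x hx
  have heq := h.unique_abelian hU (by
      rw [hUdef, Subgroup.card_map_of_injective (MulAut.conj g).injective, h.J_card])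
    (by
      rintro _ ⟨a, ha, rfl⟩ _ ⟨b, hb, rfl⟩
      rw [← map_mul, ← map_mul, h.J_comm a ha b hb])
  intro x hx
  rw [← heq]
  exact ⟨x, hx, rfl⟩

theorem S_norms_J {s : G} (hs : s ∈ h.S) : Norms s h.J :=
  h.conj_eq_J fun _ hx => mul_mem (mul_mem hs (h.J_le hx)) (inv_mem hs)

theorem S_le_M : h.S ≤ h.M := fun s hs => h.M_three s (h.S_norms_J hs) (h.orderOf_S hs)

theorem norms_S {g : G} (hZ : Norms g h.Z) (hJ : Norms g h.J) : Norms g h.S := fun s hs => by
  obtain ⟨j, hj, q, hq, rfl⟩ := h.S_eq hs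
  rw [show g * (j * q) * g⁻¹ = (g * j * g⁻¹) * (g * q * g⁻¹) by group]
  exact mul_mem (h.J_le (hJ j hj)) (h.Q_le (h.Q_norm g hZ q hq))

/-- `J` is its own centraliser. -/
theorem cent_J {c : G} (hc : ∀ x ∈ h.J, c * x = x * c) : c ∈ h.J := by
  have hcZ : Norms c h.Z := Norms.of_cent fun z hz => hc z (h.A_le_J (h.Z_le_A hz))
  obtain ⟨k, hk⟩ := three_element (g := c) fun x hx hcop => by
    refine h.trivial_of_fix_A ?_ hcop fun a ha => ?_
    · obtain ⟨n, rfl⟩ := hx
      exact Norms.of_cent fun z hz => ((show Commute c z from hc z (h.A_le_J (h.Z_le_A hz))).zpow_left n).eq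
    · obtain ⟨n, rfl⟩ := hx
      exact ((show Commute c a from hc a (h.A_le_J ha)).zpow_left n).eq
  have hcJ : Norms c h.J := Norms.of_cent hc
  set W := h.J ⊔ zpowers c with hW
  have hab : ∀ a ∈ W, ∀ b ∈ W, a * b = b * a := by
    have hgen : W ≤ centralizer (W : Set G) := by
      refine sup_le ?_ (zpowers_le.2 ?_)
      · intro a ha
        have hle : W ≤ centralizer ({a} : Set G) := sup_le
          (fun b hb => mem_centralizer_singleton_iff.2 (h.J_comm b hb a ha))
          (zpowers_le.2 (mem_centralizer_singleton_iff.2 (hc a ha)))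
        rw [mem_centralizer_iff]
        exact fun b hb => mem_centralizer_singleton_iff.1 (hle hb)
      · have hle : W ≤ centralizer ({c} : Set G) := sup_le
          (fun b hb => mem_centralizer_singleton_iff.2 (hc b hb).symm)
          (zpowers_le.2 (mem_centralizer_singleton_iff.2 rfl))
        rw [mem_centralizer_iff]
        exact fun b hb => mem_centralizer_singleton_iff.1 (hle hb)
    intro a ha b hb
    exact (mem_centralizer_iff.1 (hgen ha) b hb).symm
  haveI : Fact (Nat.Prime 3) := ⟨Nat.prime_three⟩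
  have hp : IsPGroup 3 W := by
    have h1 : IsPGroup 3 h.J := h.isPGroup_S.to_le h.J_le
    have h2 : IsPGroup 3 (zpowers c) := IsPGroup.of_card (n := k) (by rw [Nat.card_zpowers, hk])
    exact IsPGroup.to_sup_of_normal_right' h1 h2 fun a ha =>
      Subgroup.mem_normalizer_fintype fun b hb => by
        obtain ⟨n, rfl⟩ := hb
        rw [← ((show Commute c a from hc a ha).zpow_left n).eq, mul_inv_cancel_right]
        exact zpow_mem_zpowers c n
  obtain ⟨g, hg⟩ := h.S_sylow W hp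
  have hgJ := h.conj_eq_J fun x hx => hg x (mem_sup_left hx)
  have hgc : g * c * g⁻¹ ∈ h.J := by
    by_contra hn
    set y := g * c * g⁻¹ with hy
    have hyS : y ∈ h.S := hg c (mem_sup_right (mem_zpowers c))
    have hyJ : ∀ a ∈ h.J, y * a = a * y := fun a ha => by
      have hga : g⁻¹ * a * g ∈ h.J := by simpa using hgJ.inv a ha
      calc y * a = g * (c * (g⁻¹ * a * g)) * g⁻¹ := by rw [hy]; group
        _ = g * ((g⁻¹ * a * g) * c) * g⁻¹ := by rw [hc _ hga]
        _ = a * y := by rw [hy]; group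
    obtain ⟨j, hj, q, hq, hjq⟩ := h.S_eq hyS
    refine hn (hjq ▸ mul_mem hj (h.A_le_J (h.A_self hq fun a ha => ?_)))
    have h1 := hyJ a (h.A_le_J ha)
    rw [hjq] at h1
    calc q * a = j⁻¹ * (j * q * a) := by group
      _ = j⁻¹ * (a * j) * q := by rw [h1]; group
      _ = a * q := by rw [← h.J_comm j hj a (h.A_le_J ha)]; group
  have := hgJ.inv _ hgc
  simpa [mul_assoc] using this

theorem card_image_S (f : h.M →* Six.A6) (hf : ∀ x : h.M, f x = 1 ↔ (x : G) ∈ h.J) :
    Nat.card ((h.S.subgroupOf h.M).map f) = 9 := by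
  set S' := h.S.subgroupOf h.M
  have hS' : Nat.card S' = 729 := by
    rw [Nat.card_congr (Subgroup.subgroupOfEquivOfLe h.S_le_M).toEquiv, h.S_card]
  have hker : (f.comp S'.subtype).ker = (h.J.subgroupOf h.M).subgroupOf S' := by
    ext x
    exact hf x.1
  have h1 := (f.comp S'.subtype).ker.card_mul_index
  have hle : h.J.subgroupOf h.M ≤ S' := fun y hy => h.J_le hy
  rw [Subgroup.index_ker, hS', hker, Nat.card_congr (Subgroup.subgroupOfEquivOfLe hle).toEquiv,
    Nat.card_congr (Subgroup.subgroupOfEquivOfLe h.J_le_M).toEquiv, h.J_card] at h1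
  rw [show S'.map f = (f.comp S'.subtype).range by rw [MonoidHom.range_comp, Subgroup.range_subtype]]
  omega

theorem exists_pi : ∃ π : h.M →* Six.A6, Function.Surjective π ∧
    (∀ x : h.M, π x = 1 ↔ (x : G) ∈ h.J) ∧ (∀ x : h.M, Six.InP (π x) ↔ (x : G) ∈ h.S) := by
  haveI : Fact (Nat.Prime 3) := ⟨Nat.prime_three⟩
  have hI := h.card_image_S h.toA h.toA_ker
  have h360 : Nat.card Six.A6 = 360 := by rw [nat_card_alternatingGroup]; simp [Nat.factorial]
  obtain ⟨P1, hP1⟩ := (IsPGroup.of_card (n := 2) (by rw [hI]; norm_num) :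
    IsPGroup 3 ((h.S.subgroupOf h.M).map h.toA)).exists_le_sylow
  obtain ⟨P2, hP2⟩ := (IsPGroup.of_card (n := 2) (by rw [Six.card_P]; norm_num) :
    IsPGroup 3 Six.P).exists_le_sylow
  have hsyl : ∀ X : Sylow 3 Six.A6, Nat.card X = 9 := fun X => by
    rw [X.card_eq_multiplicity, h360, show (360 : ℕ) = 3 ^ 2 * 40 by norm_num,
      Nat.factorization_mul (by norm_num) (by norm_num), Nat.Prime.factorization_pow Nat.prime_three,
      Finsupp.add_apply, Finsupp.single_eq_same, Nat.factorization_eq_zero_of_not_dvd (by norm_num : ¬ 3 ∣ 40)]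
    rfl
  obtain ⟨a, ha⟩ := MulAction.exists_smul_eq Six.A6 P1 P2
  refine ⟨(MulAut.conj a).toMonoidHom.comp h.toA, (MulAut.conj a).surjective.comp h.toA_surj,
    fun x => by rw [← h.toA_ker]; exact map_eq_one_iff _ (MulAut.conj a).injective, fun x => ?_⟩
  have e1 : (h.S.subgroupOf h.M).map h.toA = P1 :=
    Subgroup.eq_of_le_of_card_ge hP1 (by rw [hI]; exact (hsyl P1).le)
  have e2 : Six.P = P2 := Subgroup.eq_of_le_of_card_ge hP2 (by rw [Six.card_P]; exact (hsyl P2).le)
  have e3 : ∀ y : Six.A6, a * y * a⁻¹ ∈ Six.P ↔ y ∈ (h.S.subgroupOf h.M).map h.toA := by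
    intro y
    rw [e2, e1, ← ha]
    show a * y * a⁻¹ ∈ MulAut.conj a • (P1 : Subgroup Six.A6) ↔ _
    rw [Subgroup.mem_pointwise_smul_iff_inv_smul_mem]
    simp [MulAut.conj_symm_apply, MulAut.inv_def, mul_assoc]
  rw [← Six.mem_P]
  show a * h.toA x * a⁻¹ ∈ Six.P ↔ _
  rw [e3]
  constructor
  · rintro ⟨y, hy, hyx⟩
    have : h.toA (y⁻¹ * x) = 1 := by rw [map_mul, map_inv, hyx, inv_mul_cancel]
    have hJ := (h.toA_ker _).1 this
    have hy' : (y : G) ∈ h.S := hy
    have : (x : G) = y * ((y⁻¹ * x : h.M) : G) := by simp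
    rw [this]
    exact mul_mem hy' (h.J_le hJ)
  · exact fun hx => ⟨x, hx, rfl⟩

end Hyp

/-- The hypotheses with the homomorphism onto `A₆` carrying `S` to the standard Sylow subgroup. -/
structure Std (G : Type*) [Group G] [Finite G] extends Hyp G where
  pi : toHyp.M →* Six.A6
  pi_surj : Function.Surjective pi
  pi_ker : ∀ x : toHyp.M, pi x = 1 ↔ (x : G) ∈ toHyp.J
  pi_S : ∀ x : toHyp.M, Six.InP (pi x) ↔ (x : G) ∈ toHyp.S

theorem Hyp.exists_std {G : Type*} [Group G] [Finite G] (h : Hyp G) : ∃ d : Std G, d.toHyp = h := by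
  obtain ⟨π, h1, h2, h3⟩ := h.exists_pi
  exact ⟨⟨h, π, h1, h2, h3⟩, rfl⟩

end Cfsg.Agent.Lib.McL3Local35
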